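import Cfsg.Agent.Lib.Functors.Reach
import Mathlib.GroupTheory.Commutator.Basic
import Mathlib.GroupTheory.QuotientGroup.Basic

/-!
The relation "conjugation agrees with an element of `H`", the closure of a subgroup under a group,
its kernel modulo a normal subgroup, and the standing hypotheses.
-/

set_option autoImplicit false
set_option linter.style.haveILetI false

namespace Cfsg.Agent.FusionFp

open Cfsg.Agent.Functors

variable {G : Type*} [Group G]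

/-- Conjugation by `g` on `A` agrees with an element of `H`. -/
def Fus (H : Subgroup G) (A : Set G) (g : G) : Prop :=
  ∃ h ∈ H, ∀ a ∈ A, h * a * h⁻¹ = g * a * g⁻¹

variable {H : Subgroup G} {A B : Set G} {g k : G}

theorem Fus.mono (hBA : B ⊆ A) (r : Fus H A g) : Fus H B g :=
  let ⟨h, hh, e⟩ := r
  ⟨h, hh, fun a ha => e a (hBA ha)⟩

theorem Fus.congr (r : Fus H A g) (e : ∀ a ∈ A, k * a * k⁻¹ = g * a * g⁻¹) : Fus H A k :=
  let ⟨h, hh, e'⟩ := r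
  ⟨h, hh, fun a ha => (e' a ha).trans (e a ha).symm⟩

theorem Fus.trans (r : Fus H A g) (s : Fus H (cj g '' A) k) : Fus H A (k * g) := by
  obtain ⟨h, hh, e⟩ := r
  obtain ⟨h', hh', e'⟩ := s
  refine ⟨h' * h, mul_mem hh' hh, fun a ha => ?_⟩
  have e1 := e' _ ⟨a, ha, rfl⟩
  rw [cj_apply] at e1
  calc h' * h * a * (h' * h)⁻¹ = h' * (h * a * h⁻¹) * h'⁻¹ := by group
    _ = k * (g * a * g⁻¹) * k⁻¹ := by rw [e a ha, e1]
    _ = k * g * a * (k * g)⁻¹ := by group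

theorem Fus.symm (r : Fus H A g) : Fus H (cj g '' A) g⁻¹ := by
  obtain ⟨h, hh, e⟩ := r
  refine ⟨h⁻¹, inv_mem hh, ?_⟩
  rintro _ ⟨a, ha, rfl⟩
  rw [cj_apply]
  calc h⁻¹ * (g * a * g⁻¹) * h⁻¹⁻¹ = h⁻¹ * (h * a * h⁻¹) * h := by rw [e a ha, inv_inv]
    _ = g⁻¹ * (g * a * g⁻¹) * g⁻¹⁻¹ := by group

/-- All fusion of subsets of `P` by elements of `X` is realized by `H`. -/
def Good (H X P : Subgroup G) : Prop :=
  ∀ A : Set G, A ⊆ P → ∀ g ∈ X, cj g '' A ⊆ P → Fus H A g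

/-- The subgroup generated by the conjugates of `E` under `Y`. -/
def clo (E Y : Subgroup G) : Subgroup G := ⨆ y : Y, E.map (cj (y : G))

theorem le_clo (E Y : Subgroup G) : E ≤ clo E Y :=
  (map_cj_one E).ge.trans (le_iSup (fun y : Y => E.map (cj (y : G))) 1)

theorem clo_mono {E X Y : Subgroup G} (h : Y ≤ X) : clo E Y ≤ clo E X :=
  iSup_le fun y => le_iSup (fun x : X => E.map (cj (x : G))) ⟨y, h y.2⟩

theorem clo_le {E Y N : Subgroup G} (hE : E ≤ N) (hY : Y ≤ Subgroup.normalizer (N : Set G)) :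
    clo E Y ≤ N :=
  iSup_le fun y => (Subgroup.map_mono hE).trans (map_cj_eq_iff.2 (hY y.2)).le

theorem clo_le_self {E Y : Subgroup G} (hE : E ≤ Y) : clo E Y ≤ Y :=
  clo_le hE Subgroup.le_normalizer

theorem le_normalizer_clo (E Y : Subgroup G) : Y ≤ Subgroup.normalizer (clo E Y : Set G) := by
  intro y hy
  rw [← map_cj_eq_iff, clo, Subgroup.map_iSup]
  simp only [map_map_cj]
  refine le_antisymm (iSup_le fun x => le_iSup (fun z : Y => E.map (cj (z : G))) (⟨y, hy⟩ * x))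
    (iSup_le fun x => ?_)
  refine le_trans ?_ (le_iSup (fun z : Y => E.map (cj (y * (z : G)))) (⟨y, hy⟩⁻¹ * x))
  rw [Subgroup.coe_mul, Subgroup.coe_inv, mul_inv_cancel_left]

/-- The elements of `Y` centralizing `clo E Y` modulo `F`. -/
def ker (F E Y : Subgroup G) [F.Normal] : Subgroup G :=
  Y ⊓ (Subgroup.centralizer (((clo E Y).map (QuotientGroup.mk' F) : Subgroup (G ⧸ F)) : Set (G ⧸ F))).comap
    (QuotientGroup.mk' F)

variable {F E Y : Subgroup G} [F.Normal]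

theorem commutator_mem_iff {x b : G} :
    x * b * x⁻¹ * b⁻¹ ∈ F ↔ QuotientGroup.mk' F x * QuotientGroup.mk' F b =
      QuotientGroup.mk' F b * QuotientGroup.mk' F x := by
  rw [← QuotientGroup.eq_one_iff (N := F), QuotientGroup.mk_mul, QuotientGroup.mk_mul,
    QuotientGroup.mk_mul, QuotientGroup.mk_inv, QuotientGroup.mk_inv, mul_inv_eq_one,
    mul_inv_eq_iff_eq_mul]
  rfl

theorem mem_ker {x : G} : x ∈ ker F E Y ↔ x ∈ Y ∧ ∀ b ∈ clo E Y, x * b * x⁻¹ * b⁻¹ ∈ F := by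
  rw [ker, Subgroup.mem_inf, Subgroup.mem_comap, Subgroup.mem_centralizer_iff]
  refine and_congr_right fun _ => ⟨fun h b hb => ?_, ?_⟩
  · exact commutator_mem_iff.2 (h _ ⟨b, hb, rfl⟩).symm
  · rintro h _ ⟨b, hb, rfl⟩
    exact (commutator_mem_iff.1 (h b hb)).symm

theorem ker_le : ker F E Y ≤ Y := inf_le_left

theorem le_normalizer_ker (F E Y : Subgroup G) [F.Normal] :
    Y ≤ Subgroup.normalizer (ker F E Y : Set G) := by
  intro y hy
  have h : ∀ y ∈ Y, ∀ x ∈ ker F E Y, y * x * y⁻¹ ∈ ker F E Y := fun y hy x hx => by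
    rw [mem_ker] at hx ⊢
    refine ⟨mul_mem (mul_mem hy hx.1) (inv_mem hy), fun b hb => ?_⟩
    have hb' : y⁻¹ * b * y ∈ clo E Y := by
      have := (Subgroup.mem_normalizer_iff.1 (le_normalizer_clo E Y (inv_mem hy)) b).1 hb
      rwa [inv_inv] at this
    have h2 := ‹F.Normal›.conj_mem _ (hx.2 _ hb') y
    rwa [show y * (x * (y⁻¹ * b * y) * x⁻¹ * (y⁻¹ * b * y)⁻¹) * y⁻¹ =
      y * x * y⁻¹ * b * (y * x * y⁻¹)⁻¹ * b⁻¹ by group] at h2
  rw [Subgroup.mem_normalizer_iff]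
  refine fun x => ⟨h y hy x, fun hx => ?_⟩
  have := h y⁻¹ (inv_mem hy) _ hx
  rwa [show y⁻¹ * (y * x * y⁻¹) * y⁻¹⁻¹ = x by group] at this

/-- `a` acts quadratically on `clo E Y` modulo `F`. -/
def Quad (F E Y : Subgroup G) (a : G) : Prop :=
  ∀ b ∈ clo E Y, a * (a * b * a⁻¹ * b⁻¹) * a⁻¹ * (a * b * a⁻¹ * b⁻¹)⁻¹ ∈ F

theorem Quad.mono {X : Subgroup G} {a : G} (h : Y ≤ X) (ha : Quad F E X a) : Quad F E Y a :=
  fun b hb => ha b (clo_mono h hb)

/-- The requirement on `W₀` inside `X`. -/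
def GoodW (p : ℕ) (F E X P W₀ : Subgroup G) [F.Normal] : Prop :=
  X ⊓ Subgroup.normalizer (P : Set G) ≤ Subgroup.normalizer (W₀ : Set G) ∧
    ∀ Y ≤ X, P ≤ Y → IsPGroup p (clo E Y) →
      Y ⊓ Subgroup.normalizer ((P ⊓ ker F E Y : Subgroup G) : Set G) ≤
          Subgroup.normalizer (W₀ : Set G) ∨
        ∃ a ∈ P, a ∉ ker F E Y ∧ Quad F E Y a

theorem GoodW.mono {p : ℕ} {X X₁ P W₀ : Subgroup G} (h : GoodW p F E X P W₀) (hle : X₁ ≤ X) :
    GoodW p F E X₁ P W₀ :=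
  ⟨(inf_le_inf_right _ hle).trans h.1, fun Y hY => h.2 Y (hY.trans hle)⟩

/-- The standing hypotheses. -/
structure Setup (p : ℕ) (S F E H : Subgroup G) : Prop where
  isPGroup : IsPGroup p S
  F_le : F ≤ E
  E_le : E ≤ S
  F_normal : F.Normal
  commF : ∀ x ∈ E, ∀ f ∈ F, x * f = f * x
  central : ∀ s ∈ S, ∀ x ∈ E, s * x * s⁻¹ * x⁻¹ ∈ F
  pow : ∀ x ∈ E, x ^ p ∈ F
  local_good : ∀ A : Set G, A ⊆ S → ∀ l : G, (∀ x ∈ E, l * x * l⁻¹ * x⁻¹ ∈ F) →
    cj l '' A ⊆ S → Fus H A l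

variable {p : ℕ} {S : Subgroup G}

theorem Setup.le_normalizer_of_le (d : Setup p S F E H) {W : Subgroup G} (hW : W ≤ S)
    (hFW : F ≤ W) : E ≤ Subgroup.normalizer (W : Set G) := by
  intro x hx
  have h : ∀ x ∈ E, ∀ w ∈ W, x * w * x⁻¹ ∈ W := fun x hx w hw => by
    have h1 := hFW (d.central w (hW hw) x hx)
    have h2 : x * w * x⁻¹ = (w * x * w⁻¹ * x⁻¹)⁻¹ * w := by group
    rw [h2]
    exact mul_mem (inv_mem h1) hw
  rw [Subgroup.mem_normalizer_iff]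
  refine fun w => ⟨h x hx w, fun hw => ?_⟩
  have := h x⁻¹ (inv_mem hx) _ hw
  rwa [show x⁻¹ * (x * w * x⁻¹) * x⁻¹⁻¹ = w by group] at this

theorem Setup.fus_of_mem_ker (d : Setup p S F E H) {A : Set G} (hA : A ⊆ S) {c : G}
    (hc : c ∈ ker F E Y) (hcA : cj c '' A ⊆ S) : Fus H A c :=
  d.local_good A hA c (fun x hx => (mem_ker.1 hc).2 x (le_clo E Y hx)) hcA

end Cfsg.Agent.FusionFp
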