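import Cfsg.Agent.Lib.Functors.Conj
import Cfsg.Agent.Lib.Functors.ChiefAct
import Cfsg.Agent.Lib.Transfer.Basic

/-!
Mixed pairs: if a conjugate of a `p`-element lies outside a subgroup containing a Sylow subgroup,
then two conjugates generate a subgroup whose `p'`-elements leave that subgroup.
-/

set_option autoImplicit false
set_option linter.style.haveILetI false

namespace Cfsg.Agent.FusionFp

open Cfsg.Agent
open Cfsg.Agent.Functors

variable {Γ : Type*} [Group Γ] {p : ℕ}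

theorem isConj_cj {a x : Γ} (g : Γ) (h : IsConj a x) : IsConj a (g * x * g⁻¹) :=
  h.trans (isConj_iff.2 ⟨g, rfl⟩)

variable [Finite Γ] [hp : Fact p.Prime]

/-- In a `p`-group, a member of a normal set normalizing the subgroup generated by some members. -/
theorem exists_member_normalizing {R : Subgroup Γ} (hR : IsPGroup p R) {𝒮 : Set Γ}
    (h𝒮 : ∀ n ∈ R, ∀ x ∈ 𝒮, n * x * n⁻¹ ∈ 𝒮) {T : Set Γ} (hT : T ⊆ (R : Set Γ) ∩ 𝒮)
    (hout : ∃ x ∈ R, x ∈ 𝒮 ∧ x ∉ Subgroup.closure T) :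
    ∃ x ∈ R, x ∈ 𝒮 ∧ x ∉ Subgroup.closure T ∧
      x ∈ Subgroup.normalizer ((Subgroup.closure T : Subgroup Γ) : Set Γ) := by
  by_contra hno
  push Not at hno
  set M := Subgroup.closure T with hM
  have hMR : M ≤ R := (Subgroup.closure_le R).2 fun x hx => (hT hx).1
  set N := R ⊓ Subgroup.normalizer (M : Set Γ) with hN
  have hmem : ∀ x ∈ N, x ∈ 𝒮 → x ∈ M := by
    intro x hx hx𝒮
    by_contra hxM
    exact hno x hx.1 hx𝒮 hxM hx.2
  have hlt : N < R := by
    refine lt_of_le_of_ne inf_le_left fun e => ?_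
    obtain ⟨x, hxR, hx𝒮, hxM⟩ := hout
    exact hxM (hmem x (e ▸ hxR) hx𝒮)
  refine absurd (lt_inf_normalizer_of_lt hR hlt) (not_lt_of_ge fun n hn => ?_)
  refine ⟨hn.1, map_cj_eq_iff.1 (Subgroup.eq_of_le_of_card_ge ?_ (card_map_cj M n).ge)⟩
  rw [hM, MonoidHom.map_closure, Subgroup.closure_le]
  rintro _ ⟨x, hx, rfl⟩
  rw [cj_apply]
  refine hmem _ ?_ (h𝒮 n hn.1 x (hT hx).2)
  exact (Subgroup.mem_normalizer_iff.1 hn.2 x).1
    (le_inf hMR Subgroup.le_normalizer (Subgroup.subset_closure hx))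

/-- The `p'`-elements of a subgroup supplement its Sylow subgroups. -/
theorem exists_mul_of_isSylowIn {K R N : Subgroup Γ} (hR : IsSylowIn p R K)
    (hN : ∀ x ∈ K, (orderOf x).Coprime p → x ∈ N) (hNn : K ≤ Subgroup.normalizer (N : Set Γ))
    {x : Γ} (hx : x ∈ K) : ∃ r ∈ R, ∃ k ∈ K ⊓ N, x = r * k := by
  obtain ⟨Q, hQ⟩ := hR.exists_sylow
  haveI : (N.subgroupOf K).Normal := Subgroup.normal_subgroupOf_of_le_normalizer hNn
  have hq : IsPGroup p (↥K ⧸ N.subgroupOf K) := fun q => by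
    induction q using QuotientGroup.induction_on with
    | _ e =>
      obtain ⟨k, hk⟩ := ChiefAct.exists_pow_mem_of_coprime_mem (p := p) hN e.2
      refine ⟨k, ?_⟩
      rw [← QuotientGroup.mk_pow, QuotientGroup.eq_one_iff, Subgroup.mem_subgroupOf]
      simpa using hk
  obtain ⟨r, hr, k, hk, hrk⟩ := Subgroup.mem_sup_of_normal_right.1
    ((PBasic.sylow_sup_eq_top Q hq).ge (Subgroup.mem_top (⟨x, hx⟩ : ↥K)))
  rw [hQ, Subgroup.mem_subgroupOf] at hr
  rw [Subgroup.mem_subgroupOf] at hk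
  exact ⟨r, hr, k, ⟨k.2, hk⟩, (congrArg Subtype.val hrk).symm⟩

/-- A mixed pair of conjugates. -/
theorem exists_mixed_pair (P : Sylow p Γ) (St : Subgroup Γ) (hPSt : (P : Subgroup Γ) ≤ St) {a : Γ}
    (haP : a ∈ (P : Subgroup Γ)) (hmov : ∃ g : Γ, g * a * g⁻¹ ∉ St) :
    ∃ d ∈ (P : Subgroup Γ), IsConj a d ∧ ∃ e, IsConj a e ∧
      ∃ k ∈ Subgroup.closure ({d, e} : Set Γ), (orderOf k).Coprime p ∧ k ∉ St := by
  classical
  have hpel : ∀ x, IsConj a x → IsPGroup p (Subgroup.zpowers x) := by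
    intro x hx
    obtain ⟨g, rfl⟩ := isConj_iff.1 hx
    have h := (P.isPGroup'.to_le (Subgroup.zpowers_le.2 haP)).map (cj g)
    rwa [MonoidHom.map_zpowers, cj_apply] at h
  by_contra hno
  push Not at hno
  -- no pair based at a conjugate inside `St`
  have hpair : ∀ c ∈ St, IsConj a c → ∀ e, IsConj a e →
      ∀ k ∈ Subgroup.closure ({c, e} : Set Γ), (orderOf k).Coprime p → k ∈ St := by
    intro c hcSt hc e he k hk hkp
    obtain ⟨y, hy, hyc⟩ := exists_conj_le_of_isSylowIn ((isSylowIn_sylow P).of_le hPSt le_top)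
      (hpel c hc) (Subgroup.zpowers_le.2 hcSt)
    have hk' : cj y k ∈ Subgroup.closure ({cj y c, cj y e} : Set Γ) := by
      rw [← Set.image_pair, ← MonoidHom.map_closure]
      exact Subgroup.mem_map_of_mem _ hk
    have h1 := hno (cj y c) (hyc ⟨c, Subgroup.mem_zpowers c, rfl⟩) (isConj_cj y hc) (cj y e)
      (isConj_cj y he) (cj y k) hk'
      (by rw [orderOf_injective (cj y) (cj_injective y)]; exact hkp)
    have h2 := St.mul_mem (St.mul_mem (St.inv_mem hy) h1) hy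
    simpa [cj_apply, mul_assoc] using h2
  -- a `p`-subgroup with a conjugate outside `St` and most conjugates inside
  obtain ⟨g, hg⟩ := hmov
  obtain ⟨R, ⟨hRp, e₀, he₀R, he₀, he₀St⟩, hmax⟩ := Set.exists_max_image
    {R : Subgroup Γ | IsPGroup p R ∧ ∃ e ∈ R, IsConj a e ∧ e ∉ St}
    (fun R => ((R : Set Γ) ∩ {x | IsConj a x ∧ x ∈ St}).ncard) (Set.toFinite _)
    ⟨_, hpel _ (isConj_iff.2 ⟨g, rfl⟩), _, Subgroup.mem_zpowers _, isConj_iff.2 ⟨g, rfl⟩, hg⟩
  set T := (R : Set Γ) ∩ {x | IsConj a x ∧ x ∈ St} with hT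
  set M := Subgroup.closure T with hMdef
  have hMSt : M ≤ St := (Subgroup.closure_le St).2 fun x hx => hx.2.2
  have hMR : M ≤ R := (Subgroup.closure_le R).2 fun x hx => hx.1
  obtain ⟨e, heR, hea, heM, heN⟩ := exists_member_normalizing hRp (𝒮 := {x | IsConj a x})
    (fun n _ x hx => isConj_cj n hx) (T := T) (fun x hx => ⟨hx.1, hx.2.1⟩)
    ⟨e₀, he₀R, he₀, fun h => he₀St (hMSt h)⟩
  have heSt : e ∉ St := fun h => heM (Subgroup.subset_closure ⟨heR, hea, h⟩)
  obtain ⟨y, hy, hyM⟩ := exists_conj_le_of_isSylowIn ((isSylowIn_sylow P).of_le hPSt le_top)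
    (hRp.to_le hMR) hMSt
  set R₁ := (P : Subgroup Γ).map (cj y⁻¹) with hR₁
  have hR₁St : R₁ ≤ St := by
    rintro _ ⟨x, hx, rfl⟩
    rw [cj_apply, inv_inv]
    exact St.mul_mem (St.mul_mem (St.inv_mem hy) (hPSt hx)) hy
  have hMR₁ : M ≤ R₁ := by
    intro m hm
    rw [hR₁, mem_map_cj, inv_inv]
    exact hyM ⟨m, hm, rfl⟩
  have hR₁p : IsPGroup p R₁ := P.isPGroup'.map _
  by_cases hcase : ∃ x ∈ R₁, IsConj a x ∧ x ∉ M
  · obtain ⟨c, hcR₁, hca, hcM, hcN⟩ := exists_member_normalizing hR₁p (𝒮 := {x | IsConj a x})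
      (fun n _ x hx => isConj_cj n hx) (T := T)
      (fun x hx => ⟨hMR₁ (Subgroup.subset_closure hx), hx.2.1⟩) hcase
    set K := Subgroup.closure ({c, e} : Set Γ) with hK
    have hcK : c ∈ K := Subgroup.subset_closure (Set.mem_insert _ _)
    have heK : e ∈ K := Subgroup.subset_closure (Set.mem_insert_of_mem _ rfl)
    have hKM : K ≤ Subgroup.normalizer (M : Set Γ) := by
      rw [hK, Subgroup.closure_le]
      rintro x (rfl | rfl)
      exacts [hcN, heN]
    obtain ⟨R₀, hR₀, hcR₀⟩ := exists_isSylowIn_ge (p := p) (hpel c hca) (Subgroup.zpowers_le.2 hcK)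
    set N := Subgroup.closure {x | x ∈ K ∧ (orderOf x).Coprime p} with hN
    have hNSt : N ≤ St := (Subgroup.closure_le St).2 fun x hx =>
      hpair c (hR₁St hcR₁) hca e hea x hx.1 hx.2
    have hKN : K ≤ Subgroup.normalizer (N : Set Γ) := fun n hn =>
      map_cj_eq_iff.1 (Subgroup.eq_of_le_of_card_ge (by
        rw [hN, MonoidHom.map_closure, Subgroup.closure_le]
        rintro _ ⟨x, hx, rfl⟩
        refine Subgroup.subset_closure ⟨?_, ?_⟩
        · rw [cj_apply]; exact K.mul_mem (K.mul_mem hn hx.1) (K.inv_mem hn)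
        · rw [orderOf_injective (cj n) (cj_injective n)]; exact hx.2) (card_map_cj N n).ge)
    obtain ⟨n, hn, hne⟩ := exists_conj_le_of_isSylowIn hR₀ (hpel e hea) (Subgroup.zpowers_le.2 heK)
    obtain ⟨r, hr, k, hk, rfl⟩ := exists_mul_of_isSylowIn hR₀
      (N := N) (fun x hx hxp => Subgroup.subset_closure (⟨hx, hxp⟩ : x ∈ K ∧ (orderOf x).Coprime p))
      hKN hn
    set e' := k * e * k⁻¹ with he'
    have he'R₀ : e' ∈ R₀ := by
      have h1 := hne ⟨e, Subgroup.mem_zpowers e, rfl⟩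
      have h2 := R₀.mul_mem (R₀.mul_mem (R₀.inv_mem hr) h1) hr
      simpa [cj_apply, he', mul_assoc] using h2
    have he'St : e' ∉ St := fun h => heSt (by
      have h2 := St.mul_mem (St.mul_mem (St.inv_mem (hNSt hk.2)) h) (hNSt hk.2)
      simpa [he', mul_assoc] using h2)
    have hR₃p : IsPGroup p ↥(R₀ ⊔ M) :=
      hR₀.isPGroup.to_sup_of_normal_right' (hRp.to_le hMR) (hR₀.le.trans hKM)
    have hss : T ⊆ ((R₀ ⊔ M : Subgroup Γ) : Set Γ) ∩ {x | IsConj a x ∧ x ∈ St} := fun x hx =>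
      ⟨Subgroup.mem_sup_right (Subgroup.subset_closure (k := T) hx), hx.2⟩
    refine absurd (hmax (R₀ ⊔ M) ⟨hR₃p, e', Subgroup.mem_sup_left he'R₀, isConj_cj k hea, he'St⟩)
      (not_le.2 (Set.ncard_lt_ncard (Set.ssubset_iff_subset_ne.2 ⟨hss, fun h => hcM ?_⟩)
        (Set.toFinite _)))
    exact Subgroup.subset_closure (h.symm ▸ ⟨Subgroup.mem_sup_left (hcR₀ (Subgroup.mem_zpowers c)),
      hca, hR₁St hcR₁⟩ : c ∈ T)
  · push Not at hcase
    have hR₁N : R₁ ≤ Subgroup.normalizer (M : Set Γ) := fun n hn =>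
      map_cj_eq_iff.1 (Subgroup.eq_of_le_of_card_ge (by
        rw [hMdef, MonoidHom.map_closure, Subgroup.closure_le]
        rintro _ ⟨x, hx, rfl⟩
        rw [cj_apply]
        exact hcase _ (R₁.mul_mem (R₁.mul_mem hn (hMR₁ (Subgroup.subset_closure hx)))
          (R₁.inv_mem hn)) (isConj_cj n hx.2.1)) (card_map_cj M n).ge)
    have hR₁syl : IsSylowIn p R₁ (Subgroup.normalizer (M : Set Γ)) := by
      have h1 := (isSylowIn_sylow P).map_cj y⁻¹
      rw [Subgroup.map_top_of_surjective (cj y⁻¹) (MulAut.conj y⁻¹).surjective] at h1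
      exact h1.of_le hR₁N le_top
    obtain ⟨n, hn, hne⟩ := exists_conj_le_of_isSylowIn hR₁syl (hpel e hea)
      (Subgroup.zpowers_le.2 heN)
    have h1 : n * e * n⁻¹ ∈ M := hcase _ (hne ⟨e, Subgroup.mem_zpowers e, rfl⟩) (isConj_cj n hea)
    exact heM ((Subgroup.mem_normalizer_iff.1 hn e).2 h1)

end Cfsg.Agent.FusionFp
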