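import Cfsg.Agent.Lib.FusionFp.Basic
import Cfsg.Agent.Lib.Functors.SectionInduction
import Cfsg.Agent.Lib.PLocal.ZJ

/-!
Replacement: either the Thompson subgroup lies in the kernel on the closure, or some element outside
it acts quadratically.
-/

set_option autoImplicit false
set_option linter.style.haveILetI false

open scoped commutatorElement

namespace Cfsg.Agent.FusionFp

open Cfsg.Agent.Functors
open Cfsg.Agent.ZJ (IsMaxIn jSub)

variable {G : Type*} [Group G] [Finite G] {p : ℕ} [hp : Fact p.Prime]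

/-- Replacement relative to a subgroup normalized by the ambient `p`-subgroup. -/
theorem exists_better_in (hp2 : p ≠ 2) {P A V : Subgroup G} (hP : IsPGroup p P) (hVP : V ≤ P)
    (hn : P ≤ Subgroup.normalizer (V : Set G)) (hA : IsMaxIn p False P A) (hVA : ⁅V, V⁆ ≤ A)
    (hnot : ¬ V ≤ Subgroup.normalizer (A : Set G)) :
    ∃ A' : Subgroup G, IsMaxIn p False P A' ∧
      Nat.card ↥(A ⊓ V) < Nat.card ↥(A' ⊓ V) ∧ ¬ V ≤ A' := by
  haveI : (V.subgroupOf P).Normal := Subgroup.normal_subgroupOf_of_le_normalizer hn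
  set A0 := A.subgroupOf P with hA0
  set V0 := V.subgroupOf P with hV0
  have hmA : A0.map P.subtype = A := Subgroup.map_subgroupOf_eq_of_le hA.1
  have hmV : V0.map P.subtype = V := Subgroup.map_subgroupOf_eq_of_le hVP
  have hmT : (⊤ : Subgroup P).map P.subtype = P := by
    rw [← MonoidHom.range_eq_map, Subgroup.range_subtype]
  have hiff : ∀ B : Subgroup P, IsMaxIn p False P (B.map P.subtype) ↔ IsMaxIn p False ⊤ B := by
    intro B
    have h := ZJ.isMaxIn_map_iff (p := p) (e := False) (S := (⊤ : Subgroup P)) (A := B) P.subtype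
      P.subtype_injective.injOn le_top
    rwa [hmT] at h
  have hcard : ∀ B : Subgroup P, Nat.card ↥(B.map P.subtype) = Nat.card ↥B := fun B =>
    Subgroup.card_map_of_injective P.subtype_injective
  obtain ⟨A', hA', hlt, hle⟩ := ZJ.exists_better (p := p) (e := False) hp2
    (S := (⊤ : Subgroup P)) (A := A0) (V := V0) (IsPGroup.to_subgroup hP ⊤) le_top ((hiff A0).1 (hmA ▸ hA))
    (by rw [← Subgroup.map_le_map_iff_of_injective P.subtype_injective, Subgroup.map_commutator,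
      hmV, hmA]; exact hVA)
    (fun h => hnot fun v hv => (ZJ.comap_normalizer_eq hA.1 ⟨v, hVP hv⟩).1
      (h (show (⟨v, hVP hv⟩ : P) ∈ V0 from hv)))
  refine ⟨A'.map P.subtype, (hiff A').2 hA', ?_, fun h => hle ?_⟩
  · rw [← hmA, ← hmV, ← Subgroup.map_inf _ _ _ P.subtype_injective,
      ← Subgroup.map_inf _ _ _ P.subtype_injective, hcard, hcard]
    exact hlt
  · rw [← Subgroup.map_le_map_iff_of_injective P.subtype_injective, hmV]
    exact h

/-- The alternative. -/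
theorem jSub_alternative (hp2 : p ≠ 2) {P B K : Subgroup G} (hP : IsPGroup p P) (hBP : B ≤ P)
    (hn : P ≤ Subgroup.normalizer (B : Set G))
    (hBB : ∀ A, IsMaxIn p False P A → ⁅B, B⁆ ≤ A)
    (hcen : jSub p False (P ⊓ K) ≤ jSub p False P →
      B ≤ Subgroup.centralizer (jSub p False (P ⊓ K) : Set G)) :
    jSub p False (P ⊓ K) = jSub p False P ∨
      ∃ a ∈ P, a ∉ K ∧ ∀ b ∈ B,
        a * (a * b * a⁻¹ * b⁻¹) * a⁻¹ * (a * b * a⁻¹ * b⁻¹)⁻¹ = 1 := by
  classical
  -- the members inside `K`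
  have hin : ∀ A₀, IsMaxIn p False P A₀ → A₀ ≤ K → ∀ A,
      IsMaxIn p False (P ⊓ K) A ↔ IsMaxIn p False P A ∧ A ≤ K := by
    intro A₀ hA₀ hA₀K A
    have hA₀T : A₀ ≤ P ⊓ K := le_inf hA₀.1 hA₀K
    exact ⟨fun hA => ⟨⟨hA.1.trans inf_le_left, hA.2.1,
        fun C hC hCs => (hA₀.2.2 C hC hCs).trans (hA.2.2 A₀ hA₀T hA₀.2.1)⟩, hA.1.trans inf_le_right⟩,
      fun hA => ⟨le_inf hA.1.1 hA.2, hA.1.2.1,
        fun C hC hCs => hA.1.2.2 C (hC.trans inf_le_left) hCs⟩⟩
  by_cases hall : ∀ A, IsMaxIn p False P A → A ≤ K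
  · left
    obtain ⟨A₀, hA₀⟩ := ZJ.exists_isMaxIn p False P
    rw [jSub, jSub]
    congr 1
    ext A
    exact ⟨fun h => ((hin A₀ hA₀ (hall A₀ hA₀) A).1 h).1,
      fun h => (hin A₀ hA₀ (hall A₀ hA₀) A).2 ⟨h, hall A h⟩⟩
  right
  push Not at hall
  obtain ⟨A, ⟨hA, hAK⟩, hmax⟩ := Set.exists_max_image
    {A | IsMaxIn p False P A ∧ ¬ A ≤ K} (fun A => Nat.card ↥(A ⊓ B)) (Set.toFinite _) hall
  by_cases hBA : B ≤ Subgroup.normalizer (A : Set G)
  · obtain ⟨a, haA, haK⟩ := SetLike.not_le_iff_exists.1 hAK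
    refine ⟨a, hA.1 haA, haK, fun b hb => ?_⟩
    have hc : a * b * a⁻¹ * b⁻¹ ∈ A := by
      rw [show a * b * a⁻¹ * b⁻¹ = a * (b * a⁻¹ * b⁻¹) by group]
      exact A.mul_mem haA ((Subgroup.mem_normalizer_iff.1 (hBA hb) a⁻¹).1 (A.inv_mem haA))
    rw [hA.2.1.comm haA hc]
    group
  exfalso
  obtain ⟨A', hA', hlt, hnle⟩ := exists_better_in hp2 hP hBP hn hA (hBB A hA) hBA
  have hA'K : A' ≤ K := by
    by_contra h
    exact absurd (hmax A' ⟨hA', h⟩) (not_le.2 hlt)
  have hA'T := (hin A' hA' hA'K A').2 ⟨hA', hA'K⟩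
  refine hnle fun b hb => ZJ.mem_of_centralizes hA' (hBP hb) (fun a ha => ?_) (fun he => he.elim)
  exact hcen (sSup_le fun C hC => ZJ.le_jSub ((hin A' hA' hA'K C).1 hC).1) hb a
    (ZJ.le_jSub hA'T ha)

omit [Finite G] hp in
/-- The normalizer normalizes the centralizer. -/
theorem normalizer_le_normalizer_centralizer {Γ : Type*} [Group Γ] (T : Subgroup Γ) :
    Subgroup.normalizer (T : Set Γ) ≤
      Subgroup.normalizer (Subgroup.centralizer (T : Set Γ) : Set Γ) := by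
  intro g hg
  have key : ∀ g ∈ Subgroup.normalizer (T : Set Γ), ∀ x ∈ Subgroup.centralizer (T : Set Γ),
      g * x * g⁻¹ ∈ Subgroup.centralizer (T : Set Γ) := by
    intro g hg x hx t ht
    have h1 : g⁻¹ * t * g ∈ T := by
      have := (Subgroup.mem_normalizer_iff.1 (inv_mem hg) t).1 ht
      rwa [inv_inv] at this
    have h2 := Subgroup.mem_centralizer_iff.1 hx _ h1
    calc t * (g * x * g⁻¹) = g * (g⁻¹ * t * g * x) * g⁻¹ := by group
      _ = g * (x * (g⁻¹ * t * g)) * g⁻¹ := by rw [h2]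
      _ = g * x * g⁻¹ * t := by group
  refine Subgroup.mem_normalizer_iff.2 fun x => ⟨key g hg x, fun hx => ?_⟩
  have := key g⁻¹ (inv_mem hg) _ hx
  rwa [show g⁻¹ * (g * x * g⁻¹) * g⁻¹⁻¹ = x by group] at this

variable {S F E H : Subgroup G}

omit [Finite G] hp in
/-- Normalized subgroups of `S` centralize the closure modulo `F`. -/
theorem le_ker (d : Setup p S F E H) [F.Normal] {Y R : Subgroup G} (hRS : R ≤ S) (hRY : R ≤ Y)
    (hn : Y ≤ Subgroup.normalizer (R : Set G)) : R ≤ ker F E Y := by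
  have key : clo E Y ≤ (Subgroup.centralizer
      ((R.map (QuotientGroup.mk' F) : Subgroup (G ⧸ F)) : Set (G ⧸ F))).comap (QuotientGroup.mk' F) := by
    refine clo_le (fun x hx => ?_) (hn.trans fun y hy => ?_)
    · rw [Subgroup.mem_comap, Subgroup.mem_centralizer_iff]
      rintro _ ⟨r, hr, rfl⟩
      exact commutator_mem_iff.1 (d.central r (hRS hr) x hx)
    · refine Subgroup.le_normalizer_comap _ ?_
      rw [Subgroup.mem_comap]
      exact normalizer_le_normalizer_centralizer _ (Subgroup.le_normalizer_map _ ⟨y, hy, rfl⟩)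
  intro r hr
  refine mem_ker.2 ⟨hRY hr, fun b hb => commutator_mem_iff.2 ?_⟩
  exact Subgroup.mem_centralizer_iff.1 (key hb) _ ⟨r, hr, rfl⟩

/-- A normalized `p`-subgroup lies in the Sylow subgroup. -/
theorem le_of_normalized {X P R : Subgroup G} (hP : IsSylowIn p P X) (hR : IsPGroup p R)
    (hRX : R ≤ X) (hn : X ≤ Subgroup.normalizer (R : Set G)) : R ≤ P := by
  obtain ⟨n, hn', hle⟩ := exists_conj_le_of_isSylowIn hP hR hRX
  rwa [map_cj_eq_iff.2 (hn hn')] at hle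

/-- Frattini argument in a normalized subgroup. -/
theorem exists_frattini {X K P₀ : Subgroup G} (hP₀ : IsSylowIn p P₀ K)
    (hn : X ≤ Subgroup.normalizer (K : Set G)) {x : G} (hx : x ∈ X) :
    ∃ k ∈ K, k * x ∈ Subgroup.normalizer (P₀ : Set G) := by
  have h := hP₀.map_cj x
  rw [map_cj_eq_iff.2 (hn hx)] at h
  obtain ⟨k, hk, hkP⟩ := exists_conj_eq_of_isSylowIn hP₀ h
  exact ⟨k, hk, map_cj_eq_iff.1 (by rwa [map_map_cj] at hkP)⟩

theorem isSylowIn_inf_ker {Y P : Subgroup G} [F.Normal] (hP : IsSylowIn p P Y) :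
    IsSylowIn p (P ⊓ ker F E Y) (ker F E Y) :=
  IsSylowIn.inf_normalized hP ker_le (le_normalizer_ker F E Y)

/-- The closure is generated, modulo `F`, by the conjugates under `N(P ∩ ker)`. -/
theorem clo_le_of_frattini [F.Normal] {Y P N : Subgroup G} (hP : IsSylowIn p P Y) (hFN : F ≤ N)
    (hconj : ∀ n ∈ Y ⊓ Subgroup.normalizer ((P ⊓ ker F E Y : Subgroup G) : Set G), ∀ x ∈ E,
      n * x * n⁻¹ ∈ N) : clo E Y ≤ N := by
  refine iSup_le fun y => ?_
  rintro _ ⟨x, hx, rfl⟩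
  obtain ⟨k, hk, hkn⟩ := exists_frattini (isSylowIn_inf_ker hP) (le_normalizer_ker F E Y) y.2
  have h1 : (k * (y : G)) * x * (k * (y : G))⁻¹ ∈ N :=
    hconj _ ⟨mul_mem (ker_le hk) y.2, hkn⟩ x hx
  have h2 := hFN ((mem_ker.1 hk).2 ((y : G) * x * (y : G)⁻¹)
    (le_iSup (fun y : Y => E.map (cj (y : G))) y ⟨x, hx, rfl⟩))
  rw [cj_apply]
  have h3 := mul_mem (inv_mem h2) h1
  rwa [show (k * ((y : G) * x * (y : G)⁻¹) * k⁻¹ * ((y : G) * x * (y : G)⁻¹)⁻¹)⁻¹ *
      ((k * (y : G)) * x * (k * (y : G))⁻¹) = (y : G) * x * (y : G)⁻¹ by group] at h3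

end Cfsg.Agent.FusionFp
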