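import Cfsg.Agent.Lib.FusionFp.Climb
import Cfsg.Agent.Lib.FusionFp.Replace
import Cfsg.Agent.Lib.FusionFp.Pair

/-!
The case `E ⊄ O_p(X)`.
-/

set_option autoImplicit false
set_option linter.style.haveILetI false

open scoped commutatorElement

namespace Cfsg.Agent.FusionFp

open Cfsg.Agent
open Cfsg.Agent.Functors
open Cfsg.Agent.ZJ (IsMaxIn jSub)

variable {G : Type*} [Group G] [Finite G] {p : ℕ} [hp : Fact p.Prime] {S F E H : Subgroup G}

/-- `O_p` of a subgroup. -/
def opIn (p : ℕ) (X : Subgroup G) : Subgroup G := (Cfsg.pCore p X).map X.subtype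

omit [Finite G] hp in
theorem opIn_le (X : Subgroup G) : opIn p X ≤ X := Subgroup.map_subtype_le _

omit [Finite G] hp in
theorem isPGroup_opIn (X : Subgroup G) : IsPGroup p (opIn p X) :=
  (PBasic.pCore_isPGroup p X).map _

omit [Finite G] hp in
theorem le_normalizer_opIn (X : Subgroup G) : X ≤ Subgroup.normalizer (opIn p X : Set G) := by
  intro x hx
  haveI : (Cfsg.pCore p ↥X).Normal := Cfsg.pCore_normal p _
  have h : (⟨x, hx⟩ : X) ∈ Subgroup.normalizer (Cfsg.pCore p ↥X : Set X) := by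
    rw [Subgroup.normalizer_eq_top_iff.2 inferInstance]; exact Subgroup.mem_top _
  exact Subgroup.le_normalizer_map X.subtype ⟨_, h, rfl⟩

omit [Finite G] hp in
theorem le_opIn {X W : Subgroup G} (hW : IsPGroup p W) (hWX : W ≤ X)
    (hn : X ≤ Subgroup.normalizer (W : Set G)) : W ≤ opIn p X := by
  rw [← Subgroup.map_subgroupOf_eq_of_le hWX]
  exact Subgroup.map_mono (PBasic.le_pCore (Subgroup.normal_subgroupOf_of_le_normalizer hn)
    hW.comap_subtype)

theorem opIn_le_sylow {X P : Subgroup G} (hP : IsSylowIn p P X) : opIn p X ≤ P :=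
  le_of_normalized hP (isPGroup_opIn X) (opIn_le X) (le_normalizer_opIn X)

/-- The preimage of the Thompson subgroup of the image in `G ⧸ F`. -/
def jPre (p : ℕ) (F : Subgroup G) [F.Normal] (P : Subgroup G) : Subgroup G :=
  (jSub p False (P.map (QuotientGroup.mk' F))).comap (QuotientGroup.mk' F)

omit [Finite G] hp in
theorem map_pre_le_of_le {P : Subgroup G} [F.Normal] (hFP : F ≤ P) {J : Subgroup (G ⧸ F)}
    (hJ : J ≤ P.map (QuotientGroup.mk' F)) : J.comap (QuotientGroup.mk' F) ≤ P := by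
  intro x hx
  obtain ⟨y, hy, hyx⟩ := hJ hx
  have h : y⁻¹ * x ∈ F := QuotientGroup.eq.1 hyx
  have := mul_mem hy (hFP h)
  rwa [mul_inv_cancel_left] at this

theorem jPre_spec (hp2 : p ≠ 2) (d : Setup p S F E H) [F.Normal] {Q X P' : Subgroup G}
    (hP'S : P' ≤ S) (hEP' : E ≤ P') (hEQ : ¬ E ≤ Q) :
    F ≤ jPre p F P' ∧ jPre p F P' ≤ P' ∧ ¬ jPre p F P' ≤ Q ∧
      X ⊓ Subgroup.normalizer (P' : Set G) ≤ Subgroup.normalizer (jPre p F P' : Set G) ∧
      ∀ X₁ ≤ X, IsSylowIn p P' X₁ → GoodW p F E X₁ P' (jPre p F P') := by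
  set π := QuotientGroup.mk' F with hπ
  have hFP' : F ≤ P' := d.F_le.trans hEP'
  set Pb := P'.map π with hPb
  have hPbp : IsPGroup p Pb := (d.isPGroup.to_le hP'S).map π
  have hEb : ∀ A, IsMaxIn p False Pb A → E.map π ≤ A := by
    rintro A hA _ ⟨x, hx, rfl⟩
    refine ZJ.mem_of_centralizes hA ⟨x, hEP' hx, rfl⟩ (fun a ha => ?_) fun he => he.elim
    obtain ⟨s, hs, rfl⟩ := hA.1 ha
    exact commutator_mem_iff.1 (d.central s (hP'S hs) x hx)
  have hJE : E.map π ≤ jSub p False Pb := by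
    obtain ⟨A, hA⟩ := ZJ.exists_isMaxIn p False Pb
    exact (hEb A hA).trans (ZJ.le_jSub hA)
  have hN : ∀ {N : Subgroup G} {P₀ : Subgroup (G ⧸ F)}, N.map π = P₀ →
      ∀ n ∈ Subgroup.normalizer (N : Set G),
        π n ∈ Subgroup.normalizer (jSub p False P₀ : Set (G ⧸ F)) := by
    rintro N _ rfl n hn
    exact ZJ.normalizer_le_normalizer_jSub _ (Subgroup.le_normalizer_map π ⟨n, hn, rfl⟩)
  have hNW : Subgroup.normalizer (P' : Set G) ≤ Subgroup.normalizer (jPre p F P' : Set G) :=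
    fun n hn => Subgroup.le_normalizer_comap π (hN rfl n hn)
  refine ⟨fun f hf => ?_, map_pre_le_of_le hFP' (ZJ.jSub_le _), fun hle => hEQ fun x hx => hle ?_,
    inf_le_right.trans hNW, fun X₁ _ hsyl => ⟨inf_le_right.trans hNW, fun Y hY hP'Y hclo => ?_⟩⟩
  · rw [jPre, Subgroup.mem_comap, QuotientGroup.mk'_apply, (QuotientGroup.eq_one_iff f).2 hf]
    exact one_mem _
  · exact hJE ⟨x, hx, rfl⟩
  have hPY : IsSylowIn p P' Y := hsyl.of_le hP'Y hY
  set K := ker F E Y with hK
  have hBP : clo E Y ≤ P' := le_of_normalized hPY hclo (clo_le_self (hEP'.trans hP'Y))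
    (le_normalizer_clo E Y)
  have hBK : clo E Y ≤ K := le_ker d (hBP.trans hP'S) (hBP.trans hP'Y) (le_normalizer_clo E Y)
  have hFY : F ≤ Y := hFP'.trans hP'Y
  have hFK : F ≤ K := le_ker d (d.F_le.trans d.E_le) hFY fun y _ => by
    rw [Subgroup.normalizer_eq_top_iff.2 ‹F.Normal›]; exact Subgroup.mem_top y
  have hinf : (P' ⊓ K).map π = Pb ⊓ K.map π := by
    refine le_antisymm (Subgroup.map_inf_le _ _ _) ?_
    rintro _ ⟨⟨x, hx, rfl⟩, y, hy, hyx⟩
    refine ⟨x, ⟨hx, ?_⟩, rfl⟩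
    have h : y⁻¹ * x ∈ F := QuotientGroup.eq.1 hyx
    have := mul_mem hy (hFK h)
    rwa [mul_inv_cancel_left] at this
  rcases jSub_alternative hp2 (K := K.map π) hPbp (Subgroup.map_mono hBP (f := π))
      (by
        rintro _ ⟨x, hx, rfl⟩
        exact Subgroup.le_normalizer_map π ⟨x, le_normalizer_clo E Y (hP'Y hx), rfl⟩)
      (fun A _ => by
        rw [← Subgroup.map_commutator, Subgroup.map_le_iff_le_comap, Subgroup.commutator_le]
        intro x hx y hy
        have h := (mem_ker.1 (hBK hx)).2 y hy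
        rw [← commutatorElement_def] at h
        rw [Subgroup.mem_comap, hπ, QuotientGroup.mk'_apply, (QuotientGroup.eq_one_iff _).2 h]
        exact one_mem _)
      (fun hJ => by
        rw [Subgroup.map_le_iff_le_comap]
        refine clo_le_of_frattini (F := F) (E := E) (Y := Y) hPY (fun f hf => ?_) fun n hn x hx => ?_
        · rw [Subgroup.mem_comap, hπ, QuotientGroup.mk'_apply, (QuotientGroup.eq_one_iff f).2 hf]
          exact one_mem _
        rw [Subgroup.mem_comap, map_mul, map_mul, map_inv]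
        have hn' := hN hinf n (Subgroup.mem_inf.1 hn).2
        refine (Subgroup.mem_normalizer_iff.1 (normalizer_le_normalizer_centralizer _ hn') _).1 ?_
        refine Subgroup.mem_centralizer_iff.2 fun j hj => ?_
        obtain ⟨s, hs, rfl⟩ := (hJ.trans (ZJ.jSub_le _)) hj
        exact commutator_mem_iff.1 (d.central s (hP'S hs) x hx)) with h | ⟨a, ha, haK, hq⟩
  · left
    intro n hn
    refine Subgroup.le_normalizer_comap π ?_
    rw [Subgroup.mem_comap, ← hPb, ← h, ← hinf]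
    exact hN rfl n (Subgroup.mem_inf.1 hn).2
  · right
    obtain ⟨x, hx, rfl⟩ := ha
    refine ⟨x, hx, fun hxK => haK ⟨x, hxK, rfl⟩, fun b hb => ?_⟩
    have h := hq (π b) ⟨b, hb, rfl⟩
    rw [← QuotientGroup.eq_one_iff (N := F), ← QuotientGroup.mk'_apply]
    simpa only [map_mul, map_inv] using h

/-- The case `E ⊄ O_p(X)`. -/
theorem good_case_one (hp2 : p ≠ 2) (d : Setup p S F E H) [F.Normal] {X P W₀ : Subgroup G}
    (hP : IsSylowIn p P X) (hPS : P ≤ S) (hEP : E ≤ P) (hW₀ : GoodW p F E X P W₀)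
    (hN : Good H (X ⊓ Subgroup.normalizer (W₀ : Set G)) P) (hEQ : ¬ E ≤ opIn p X)
    (ih : ∀ X₁ < X, ∀ P₁ W₁ : Subgroup G, IsSylowIn p P₁ X₁ → P₁ ≤ S → E ≤ P₁ →
      GoodW p F E X₁ P₁ W₁ → Good H (X₁ ⊓ Subgroup.normalizer (W₁ : Set G)) P₁ → Good H X₁ P₁) :
    Good H X P := by
  classical
  set Q := opIn p X with hQ
  have hQP : Q ≤ P := opIn_le_sylow hP
  have hQmax : ∀ W : Subgroup G, W ≤ P → X ≤ Subgroup.normalizer (W : Set G) → W ≤ Q :=
    fun W hW hn => le_opIn (hP.isPGroup.to_le hW) (hW.trans hP.le) hn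
  have hFN : X ≤ Subgroup.normalizer (F : Set G) := fun y _ => by
    rw [Subgroup.normalizer_eq_top_iff.2 ‹F.Normal›]; exact Subgroup.mem_top y
  have hFQ : F ≤ Q := hQmax F (d.F_le.trans hEP) hFN
  have hclimb := (climb d hP hPS hEP hFQ (le_normalizer_opIn X) hQmax hW₀ hN
    (fun V => Q ≤ V ∧ ¬ V ≤ Q) (fun V h => h)
    (fun V V' hle _ h => ⟨h.1.trans hle, fun h' => h.2 (hle.trans h')⟩)
    (fun g hg V h => by
      have hg' : Q.map (cj g) = Q := map_cj_eq_iff.2 (le_normalizer_opIn (p := p) X hg)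
      refine ⟨by rw [← hg']; exact Subgroup.map_mono h.1, fun h' => h.2 ?_⟩
      rw [← hg'] at h'
      exact (Subgroup.map_le_map_iff_of_injective (cj_injective g)).1 h')
    (jPre p F) (fun P' hP' hEP' _ => jPre_spec hp2 d (hP'.trans hPS) hEP' hEQ) ih).1
  intro A hA g hg hgA
  by_cases hAQ : A ⊆ Q
  · -- inside `Q`: move into `N(T)`
    set π := QuotientGroup.mk' F with hπ
    set C := Subgroup.centralizer (Q : Set G) with hC
    set K₀ := X ⊓ Subgroup.centralizer (F : Set G) ⊓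
      (Subgroup.centralizer ((Q.map π : Subgroup (G ⧸ F)) : Set (G ⧸ F))).comap π with hK₀
    have hXK₀ : X ≤ Subgroup.normalizer (K₀ : Set G) := by
      refine fun x hx => Subgroup.inf_normalizer_le_normalizer_inf ⟨?_, ?_⟩
      · exact Subgroup.inf_normalizer_le_normalizer_inf ⟨Subgroup.le_normalizer hx,
          normalizer_le_normalizer_centralizer _ (hFN hx)⟩
      · refine Subgroup.le_normalizer_comap π ?_
        rw [Subgroup.mem_comap]
        exact normalizer_le_normalizer_centralizer _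
          (Subgroup.le_normalizer_map π ⟨x, le_normalizer_opIn X hx, rfl⟩)
    have hEK₀ : E ≤ K₀ := fun x hx => by
      refine Subgroup.mem_inf.2 ⟨Subgroup.mem_inf.2 ⟨hP.le (hEP hx),
        Subgroup.mem_centralizer_iff.2 fun f hf => (d.commF x hx f hf).symm⟩, ?_⟩
      rw [Subgroup.mem_comap, Subgroup.mem_centralizer_iff]
      rintro _ ⟨q, hq, rfl⟩
      exact commutator_mem_iff.1 (d.central q (hPS (hQP hq)) x hx)
    set T := P ⊓ K₀ with hT
    have hTK : IsSylowIn p T K₀ := IsSylowIn.inf_normalized hP (inf_le_left.trans inf_le_left) hXK₀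
    -- the `p'`-elements of `K₀` centralize `Q`
    have hK₀C : ∀ x ∈ K₀, (orderOf x).Coprime p → x ∈ C := by
      intro x hx hxp
      obtain ⟨⟨-, hxF⟩, hxQ⟩ := hx
      obtain ⟨k, hk⟩ := IsPGroup.iff_card.1 (d.isPGroup.to_le (d.F_le.trans d.E_le))
      refine Subgroup.mem_centralizer_iff.2 fun q hq => ?_
      set f := x * q * x⁻¹ * q⁻¹ with hf
      have hfF : f ∈ F := commutator_mem_iff.2
        (Subgroup.mem_centralizer_iff.1 hxQ _ ⟨q, hq, rfl⟩).symm
      have hxf : f * x = x * f := Subgroup.mem_centralizer_iff.1 hxF f hfF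
      have hpow : ∀ n : ℕ, x ^ n * q = f ^ n * q * x ^ n := by
        intro n
        induction n with
        | zero => simp
        | succ n ih =>
          have hxfn : x * f ^ n = f ^ n * x := ((Commute.pow_left hxf n)).symm
          calc x ^ (n + 1) * q = x * (x ^ n * q) := by rw [pow_succ', mul_assoc]
            _ = x * f ^ n * (q * x ^ n) := by rw [ih]; group
            _ = f ^ n * (x * q * x⁻¹ * q⁻¹) * q * x * x ^ n := by rw [hxfn]; group
            _ = f ^ (n + 1) * q * x ^ (n + 1) := by rw [← hf, ← pow_succ, pow_succ' x]; group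
      have h1 : x ^ Nat.card F * q = q * x ^ Nat.card F := by
        rw [hpow, show f ^ Nat.card F = 1 from congrArg Subtype.val (pow_card_eq_one' (x := (⟨f, hfF⟩ : F))),
          one_mul]
      rw [hk] at h1
      obtain ⟨m, hm⟩ := exists_pow_eq_self_of_coprime
        (hxp.symm.pow_left k)
      have h2 := (Commute.pow_left (show Commute (x ^ p ^ k) q from h1) m).eq
      rw [hm] at h2
      exact h2.symm
    obtain ⟨k₀, hk₀, hk₀g⟩ := exists_frattini hTK hXK₀ hg
    obtain ⟨r, hr, c, hc, hrc⟩ := exists_mul_of_isSylowIn hTK (N := C) hK₀C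
      (fun x hx => normalizer_le_normalizer_centralizer _
        (le_normalizer_opIn X (Subgroup.mem_inf.1 (Subgroup.mem_inf.1 hx).1).1))
      (inv_mem hk₀)
    have hX₁ : X ⊓ Subgroup.normalizer (T : Set G) < X := by
      refine lt_of_le_of_ne inf_le_left fun e => hEQ ?_
      exact (le_inf hEP hEK₀).trans (hQmax T inf_le_left (inf_eq_left.1 e))
    have hPX₁ : P ≤ X ⊓ Subgroup.normalizer (T : Set G) := le_inf hP.le fun x hx =>
      Subgroup.inf_normalizer_le_normalizer_inf ⟨Subgroup.le_normalizer hx, hXK₀ (hP.le hx)⟩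
    have hgood := ih _ hX₁ P W₀ (hP.of_le hPX₁ inf_le_left) hPS hEP (hW₀.mono inf_le_left)
      fun B hB y hy => hN B hB y ⟨(Subgroup.mem_inf.1 hy).1.1, hy.2⟩
    have hkg : r * (k₀ * g) ∈ X ⊓ Subgroup.normalizer (T : Set G) :=
      Subgroup.mem_inf.2 ⟨mul_mem (hP.le hr.1) (mul_mem (Subgroup.mem_inf.1 (Subgroup.mem_inf.1 hk₀).1).1 hg),
        mul_mem (Subgroup.le_normalizer hr) hk₀g⟩
    have heq : ∀ a ∈ A, g * a * g⁻¹ = r * (k₀ * g) * a * (r * (k₀ * g))⁻¹ := by
      intro a ha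
      have hq : (k₀ * g) * a * (k₀ * g)⁻¹ ∈ Q := by
        refine (Subgroup.mem_normalizer_iff.1 (le_normalizer_opIn X
          (mul_mem (Subgroup.mem_inf.1 (Subgroup.mem_inf.1 hk₀).1).1 hg)) a).1 (hAQ ha)
      have hcq := Subgroup.mem_centralizer_iff.1 hc.2 _ hq
      calc g * a * g⁻¹ = k₀⁻¹ * ((k₀ * g) * a * (k₀ * g)⁻¹) * k₀ := by group
        _ = r * (c * ((k₀ * g) * a * (k₀ * g)⁻¹)) * (c⁻¹ * r⁻¹) := by
            rw [hrc, show k₀ = (r * c)⁻¹ by rw [← hrc, inv_inv]]; group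
        _ = r * ((k₀ * g) * a * (k₀ * g)⁻¹ * c) * (c⁻¹ * r⁻¹) := by rw [hcq]
        _ = _ := by group
    refine (hgood A hA _ hkg ?_).congr heq
    rw [← cj_image_congr heq]
    exact hgA
  · set V := Subgroup.closure A ⊔ Q with hV
    refine Fus.mono (Subgroup.subset_closure.trans (SetLike.coe_subset_coe.2 le_sup_left))
      (hclimb V (sup_le ((Subgroup.closure_le P).2 hA) hQP) ⟨le_sup_right, fun h => hAQ
        ((Subgroup.subset_closure).trans (SetLike.coe_subset_coe.2 (le_sup_left.trans h)))⟩ g hg ?_)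
    rw [hV, Subgroup.map_sup, sup_le_iff, MonoidHom.map_closure, Subgroup.closure_le,
      map_cj_eq_iff.2 (le_normalizer_opIn X hg)]
    exact ⟨hgA, hQP⟩

end Cfsg.Agent.FusionFp
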