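import Cfsg.Agent.Lib.FusionFp.Module
import Mathlib.Algebra.Module.ZMod

/-!
The torus data for an action by automorphisms on a group of exponent `p`.
-/

set_option autoImplicit false
set_option linter.style.haveILetI false

namespace Cfsg.Agent.FusionFp

open Cfsg.Agent

/-- Torus data, written multiplicatively. -/
structure TorusMul {p : ℕ} {B : Type*} [CommGroup B] {X : Type*} [Group X] (φ : X →* MulAut B)
    (v : B) (lam : (ZMod p)ˣ) (t a₁ a' : X) : Prop where
  order_lam : orderOf lam = p - 1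
  comm : φ (a₁ * a') = φ (a' * a₁)
  ne_one : φ a' ≠ 1
  ne_one₁ : φ a₁ ≠ 1
  conj : φ (t * a' * t⁻¹) = φ (a' ^ (((lam : ZMod p) ^ 2).val))
  pow : φ (a' ^ p) = 1
  period : φ (t ^ (p - 1)) = 1
  quad : ∀ b : B, φ a₁ (φ a₁ b * b⁻¹) = φ a₁ b * b⁻¹
  vectors : ∃ w₀ w₁ : B, w₁ ≠ 1 ∧ φ a' w₀ = w₀ * w₁ ∧ φ a' w₁ = w₁ ∧
    φ t w₀ = w₀ ^ ((lam⁻¹ : (ZMod p)ˣ) : ZMod p).val ∧ φ t w₁ = w₁ ^ (lam : ZMod p).val
  moves : φ (t ^ ((p - 1) / 2)) v ≠ v
  eigen : ∀ x : B, φ (t ^ ((p - 1) / 2)) x = x⁻¹ →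
    φ t (φ t x * (x ^ ((lam⁻¹ : (ZMod p)ˣ) : ZMod p).val)⁻¹) =
      (φ t x * (x ^ ((lam⁻¹ : (ZMod p)ˣ) : ZMod p).val)⁻¹) ^ (lam : ZMod p).val

variable {p : ℕ} [hp : Fact p.Prime] {B : Type*} [CommGroup B] [Finite B]

/-- The module lemma for automorphisms. -/
theorem exists_torusMul (hp2 : p ≠ 2) (hexp : ∀ b : B, b ^ p = 1) {X : Type*} [Group X] [Finite X]
    (φ : X →* MulAut B) (P : Sylow p X) {v : B} (hPv : ∀ x ∈ (P : Subgroup X), φ x v = v) {a : X}
    (haP : a ∈ (P : Subgroup X)) (ha : ∀ b : B, φ a (φ a b * b⁻¹) = φ a b * b⁻¹)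
    (hmov : ∃ g : X, φ (g * a * g⁻¹) v ≠ v) :
    ∃ (lam : (ZMod p)ˣ) (t a₁ a' : X), a₁ ∈ (P : Subgroup X) ∧ a' ∈ (P : Subgroup X) ∧
      TorusMul φ v lam t a₁ a' := by
  classical
  haveI : Module (ZMod p) (Additive B) :=
    AddCommGroup.zmodModule fun x => Additive.toMul.injective (hexp (Additive.toMul x))
  let ρ : ↥φ.range →* Module.End (ZMod p) (Additive B) :=
    { toFun := fun x => (AddMonoidHom.mk'
        (fun b : Additive B => Additive.ofMul ((x : MulAut B) (Additive.toMul b)))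
        fun b c => by simp).toZModLinearMap p
      map_one' := by ext b; simp
      map_mul' := fun x y => by ext b; simp [MulAut.mul_apply] }
  have hρ : ∀ (x : X) (b : B), ρ (φ.rangeRestrict x) (Additive.ofMul b) = Additive.ofMul (φ x b) :=
    fun _ _ => rfl
  have hinj : Function.Injective ρ := fun x y h => Subtype.ext (MulEquiv.ext fun b =>
    Additive.ofMul.injective (LinearMap.congr_fun h (Additive.ofMul b)))
  have hsur := φ.rangeRestrict_surjective
  set Pb := P.mapSurjective hsur with hPb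
  have hmem : ∀ x ∈ (Pb : Subgroup φ.range), ∃ y ∈ (P : Subgroup X), φ.rangeRestrict y = x := fun x hx => by
    rw [hPb, Sylow.coe_mapSurjective] at hx
    exact hx
  have hsmul : ∀ (c : ZMod p) (b : B), c • Additive.ofMul b = Additive.ofMul (b ^ c.val) := fun c b => by
    rw [ofMul_pow, ← Nat.cast_smul_eq_nsmul (ZMod p), ZMod.natCast_zmod_val]
  have hquadρ : ∀ (x : X), (ρ (φ.rangeRestrict x) - 1) ^ 2 = 0 ↔
      ∀ b : B, φ x (φ x b * b⁻¹) = φ x b * b⁻¹ := by
    intro x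
    constructor
    · intro h b
      have h' := LinearMap.congr_fun h (Additive.ofMul b)
      rw [pow_two, Module.End.mul_apply, LinearMap.sub_apply, LinearMap.sub_apply,
        Module.End.one_apply, hρ, ← ofMul_div, hρ, Module.End.one_apply, ← ofMul_div, LinearMap.zero_apply, div_eq_mul_inv,
        div_eq_mul_inv] at h'
      exact mul_inv_eq_one.1 (Additive.ofMul.injective h')
    · intro h
      refine LinearMap.ext fun b => ?_
      obtain ⟨b, rfl⟩ := Additive.ofMul.surjective b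
      rw [pow_two, Module.End.mul_apply, LinearMap.sub_apply, LinearMap.sub_apply,
        Module.End.one_apply, hρ, ← ofMul_div, hρ, Module.End.one_apply, ← ofMul_div, LinearMap.zero_apply, div_eq_mul_inv,
        div_eq_mul_inv, h b, mul_inv_cancel]
      rfl
  obtain ⟨lam, tb, a₁b, a'b, h₁, h', hconj, hd⟩ := exists_torusData hp2 ρ hinj Pb
    (v := Additive.ofMul v) (fun x hx => by
      obtain ⟨y, hy, rfl⟩ := hmem x hx
      rw [hρ, hPv y hy])
    (a := φ.rangeRestrict a) (by rw [hPb, Sylow.coe_mapSurjective]; exact ⟨a, haP, rfl⟩)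
    ((hquadρ a).2 ha) (by
      obtain ⟨g, hg⟩ := hmov
      refine ⟨φ.rangeRestrict g, fun h => hg ?_⟩
      rw [← map_inv, ← map_mul, ← map_mul, hρ] at h
      exact Additive.ofMul.injective h)
  obtain ⟨t, rfl⟩ := hsur tb
  obtain ⟨a₁, ha₁, rfl⟩ := hmem _ h₁
  obtain ⟨a', ha', rfl⟩ := hmem _ h'
  have hval : ∀ {x y : X}, φ.rangeRestrict x = φ.rangeRestrict y → φ x = φ y := fun h =>
    congrArg Subtype.val h
  have hone : ∀ {x : X}, φ.rangeRestrict x = 1 → φ x = 1 := fun h => congrArg Subtype.val h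
  obtain ⟨w₀, w₁, e1, e2, e3, e4, e5⟩ := hd.vectors
  obtain ⟨w₀, rfl⟩ := Additive.ofMul.surjective w₀
  obtain ⟨w₁, rfl⟩ := Additive.ofMul.surjective w₁
  refine ⟨lam, t, a₁, a', ha₁, ha', ⟨hd.order_lam, hval ?_, fun h => hd.ne_one (Subtype.ext h),
    fun h => ?_,
    hval ?_, hone ?_, hone ?_, (hquadρ a₁).1 ?_, ⟨w₀, w₁, ?_, ?_, ?_, ?_, ?_⟩, ?_, ?_⟩⟩
  · rw [map_mul, map_mul]; exact hd.comm
  · obtain ⟨c, hc⟩ := isConj_iff.1 hconj.symm
    rw [show φ.rangeRestrict a₁ = 1 from Subtype.ext h, mul_one, mul_inv_cancel] at hc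
    obtain ⟨g, hg⟩ := hmov
    refine hg ?_
    rw [map_mul, map_mul, hone hc.symm, mul_one, ← map_mul, mul_inv_cancel, map_one, MulAut.one_apply]
  · rw [map_mul, map_mul, map_inv, map_pow]; exact hd.conj
  · rw [map_pow]; exact hd.pow
  · rw [map_pow]; exact hd.period
  · obtain ⟨c, hc⟩ := isConj_iff.1 hconj
    rw [← hc]
    exact quad_conj ((hquadρ a).2 ha) c
  · exact fun h => e1 (by rw [h]; rfl)
  · rw [hρ, ← ofMul_mul] at e2
    exact Additive.ofMul.injective e2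
  · rw [hρ] at e3
    exact Additive.ofMul.injective e3
  · rw [hρ, hsmul] at e4
    exact Additive.ofMul.injective e4
  · rw [hρ, hsmul] at e5
    exact Additive.ofMul.injective e5
  · intro h
    refine hd.moves ?_
    rw [← map_pow, hρ, h]
  · intro x hx
    have h := hd.eigen (Additive.ofMul x) (by rw [← map_pow, hρ, hx]; rfl)
    rw [hρ, hsmul, ← ofMul_div, hρ, hsmul] at h
    have h2 := Additive.ofMul.injective h
    simpa only [div_eq_mul_inv] using h2

end Cfsg.Agent.FusionFp
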