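import Mathlib.GroupTheory.PGroup
import Mathlib.Algebra.BigOperators.Group.Finset.Basic
import Mathlib.FieldTheory.Finite.Basic
import Mathlib.NumberTheory.Basic

/-!
Lifting an eigenvector of an automorphism of an abelian `p`-group to an element of order `p`.
-/

set_option autoImplicit false
set_option linter.style.haveILetI false

namespace Cfsg.Agent.FusionFp

open Finset

variable {p : ℕ} [hp : Fact p.Prime]

/-- An eigenvector of order `p`. -/
theorem exists_eigen_order {A : Type*} [CommGroup A] [Finite A] (hA : IsPGroup p A)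
    (F : Subgroup A) (σ : MulAut A) (hσF : ∀ f ∈ F, σ f ∈ F) {m : ℕ} (hm : σ ^ m = 1)
    (hmp : m.Coprime p) {z : A} (hz : z ∉ F) (hzp : z ^ p ∈ F) {k : ℕ}
    (hk : σ z * (z ^ k)⁻¹ ∈ F) :
    ∃ (c : A) (K : ℕ), orderOf c = p ∧ (K : ZMod p) = (k : ZMod p) ∧ σ c = c ^ K := by
  classical
  obtain ⟨n, hn⟩ := IsPGroup.iff_card.1 hA
  have hzord : orderOf (QuotientGroup.mk z : A ⧸ F) = p := orderOf_eq_prime
    (by rw [← QuotientGroup.mk_pow, QuotientGroup.eq_one_iff]; exact hzp)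
    (by rw [ne_eq, QuotientGroup.eq_one_iff]; exact hz)
  have hiter : ∀ i : ℕ, (QuotientGroup.mk ((σ ^ i) z) : A ⧸ F) = QuotientGroup.mk z ^ k ^ i := by
    intro i
    induction i with
    | zero => simp
    | succ i ih =>
      rw [← QuotientGroup.mk_pow, QuotientGroup.eq] at ih
      have h1 := hσF _ ih
      rw [map_mul, map_inv, map_pow] at h1
      have h2 : (QuotientGroup.mk (σ z) : A ⧸ F) = QuotientGroup.mk z ^ k := by
        rw [← QuotientGroup.mk_pow]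
        refine (QuotientGroup.eq.2 ?_).symm
        rw [mul_comm]; exact hk
      rw [pow_succ', MulAut.mul_apply]
      rw [← QuotientGroup.eq] at h1
      rw [h1, QuotientGroup.mk_pow, h2, ← pow_mul]
      congr 1
      ring
  have hkm : (k : ZMod p) ^ m = 1 := by
    have h := hiter m
    rw [hm, MulAut.one_apply] at h
    have h3 : QuotientGroup.mk z ^ k ^ m = (QuotientGroup.mk z : A ⧸ F) ^ 1 := by rw [pow_one, ← h]
    rw [pow_eq_pow_iff_modEq, hzord, ← ZMod.natCast_eq_natCast_iff] at h3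
    rwa [Nat.cast_pow, Nat.cast_one] at h3
  set K := k ^ p ^ n with hK
  have hKk : (K : ZMod p) = k := by rw [hK, Nat.cast_pow, ZMod.pow_card_pow]
  have hKm : ∀ a : A, a ^ K ^ m = a := by
    intro a
    have h1 : ((p : ℕ) : ℤ) ∣ ((k : ℤ) ^ m - 1) := by
      rw [← ZMod.intCast_zmod_eq_zero_iff_dvd]; push_cast; rw [hkm, sub_self]
    have h2 := dvd_sub_pow_of_dvd_sub h1 n
    rw [one_pow, ← pow_mul, mul_comm m, pow_mul] at h2
    have h3 : ((Nat.card A : ℕ) : ℤ) ∣ ((K ^ m : ℕ) : ℤ) - 1 := by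
      rw [hn, hK]; push_cast
      exact (pow_dvd_pow _ n.le_succ).trans h2
    have h4 : K ^ m ≡ 1 [MOD orderOf a] := by
      refine Nat.ModEq.of_dvd (orderOf_dvd_natCard a) ?_
      exact (Nat.modEq_iff_dvd.2 (by exact_mod_cast h3)).symm
    calc a ^ K ^ m = a ^ 1 := pow_eq_pow_iff_modEq.2 h4
      _ = a := pow_one a
  set z₁ := ∏ i ∈ range m, ((σ ^ i) z) ^ K ^ (m - i) with hz₁
  have hσz₁ : σ z₁ = z₁ ^ K := by
    have e1 : σ z₁ = ∏ i ∈ range m, ((σ ^ (i + 1)) z) ^ K ^ (m - i) := by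
      rw [hz₁, map_prod]
      exact Finset.prod_congr rfl fun i _ => by rw [map_pow, pow_succ', MulAut.mul_apply]
    have e2 : z₁ ^ K = ∏ i ∈ range m, ((σ ^ i) z) ^ K ^ (m + 1 - i) := by
      rw [hz₁, ← Finset.prod_pow]
      refine Finset.prod_congr rfl fun i hi => ?_
      rw [← pow_mul, ← pow_succ]
      congr 2
      have := Finset.mem_range.1 hi
      omega
    have e3 := Finset.prod_range_succ' (fun i => ((σ ^ i) z) ^ K ^ (m + 1 - i)) m
    have e4 := Finset.prod_range_succ (fun i => ((σ ^ i) z) ^ K ^ (m + 1 - i)) m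
    rw [e4] at e3
    simp only [Nat.add_sub_add_right, hm, MulAut.one_apply, pow_zero, Nat.sub_zero,
      Nat.add_sub_cancel_left, pow_one] at e3
    rw [← e2, ← e1, pow_succ, pow_mul, hKm] at e3
    exact (mul_right_cancel e3).symm
  have hz₁q : (QuotientGroup.mk z₁ : A ⧸ F) = QuotientGroup.mk z ^ m := by
    rw [hz₁, ← QuotientGroup.mk'_apply, map_prod]
    have : ∀ i ∈ range m, QuotientGroup.mk' F (((σ ^ i) z) ^ K ^ (m - i)) = QuotientGroup.mk z := by
      intro i hi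
      rw [map_pow, QuotientGroup.mk'_apply, hiter, ← pow_mul]
      conv_rhs => rw [← pow_one (QuotientGroup.mk z : A ⧸ F)]
      rw [pow_eq_pow_iff_modEq, hzord, ← ZMod.natCast_eq_natCast_iff, Nat.cast_mul, Nat.cast_pow,
        Nat.cast_pow, Nat.cast_one, hKk, ← pow_add, Nat.add_sub_of_le (Finset.mem_range.1 hi).le, hkm]
    rw [Finset.prod_congr rfl this, Finset.prod_const, Finset.card_range]
  have hne : z₁ ≠ 1 := by
    intro h
    rw [h, QuotientGroup.mk_one] at hz₁q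
    have h1 := orderOf_dvd_of_pow_eq_one hz₁q.symm
    rw [hzord] at h1
    exact hp.out.not_dvd_one (hmp ▸ Nat.dvd_gcd h1 dvd_rfl)
  obtain ⟨j, hj⟩ := (IsPGroup.iff_orderOf.1 hA) z₁
  have hj0 : j ≠ 0 := fun h => hne (orderOf_eq_one_iff.1 (by rw [hj, h, pow_zero]))
  refine ⟨z₁ ^ p ^ (j - 1), K, ?_, hKk, ?_⟩
  · rw [orderOf_pow, hj, Nat.gcd_eq_right (pow_dvd_pow p (Nat.sub_le j 1)),
      Nat.pow_div (Nat.sub_le j 1) hp.out.pos, Nat.sub_sub_self (Nat.one_le_iff_ne_zero.2 hj0), pow_one]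
  · rw [map_pow, hσz₁, ← pow_mul, ← pow_mul, mul_comm]

/-- The same inside a group. -/
theorem exists_conj_eigen {G : Type*} [Group G] [Finite G] {Z F : Subgroup G} (hZ : IsPGroup p Z)
    (hZc : ∀ x ∈ Z, ∀ y ∈ Z, x * y = y * x) (hFZ : F ≤ Z) (hF : F.Normal) {h z : G}
    (hh : h ∈ Subgroup.normalizer (Z : Set G)) (hz : z ∈ Z) (hzF : z ∉ F) (hzp : z ^ p ∈ F) {k : ℕ}
    (hk : h * z * h⁻¹ * (z ^ k)⁻¹ ∈ F) :
    ∃ (h₁ c : G) (K : ℕ), h₁ ∈ Subgroup.zpowers h ∧ c ∈ Z ∧ orderOf c = p ∧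
      (K : ZMod p) = (k : ZMod p) ∧ h₁ * c * h₁⁻¹ = c ^ K := by
  letI : CommGroup Z :=
    { (inferInstance : Group Z) with mul_comm := fun a b => Subtype.ext (hZc a a.2 b b.2) }
  obtain ⟨a, m, hnd, hord⟩ := Nat.exists_eq_pow_mul_and_not_dvd (orderOf_pos h).ne' p hp.out.ne_one
  set h₁ := h ^ p ^ a with hh₁
  have hh₁N : h₁ ∈ Subgroup.normalizer (Z : Set G) := pow_mem hh _
  let σ : MulAut Z := Subgroup.normalizerMonoidHom Z ⟨h₁, hh₁N⟩
  have hσ : ∀ x : Z, ((σ x : Z) : G) = h₁ * (x : G) * h₁⁻¹ := fun _ => rfl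
  have hcop : m.Coprime p := ((hp.out.coprime_iff_not_dvd).2 hnd).symm
  have hm : σ ^ m = 1 := by
    refine (map_pow (Subgroup.normalizerMonoidHom Z) _ m).symm.trans ?_
    rw [show (⟨h₁, hh₁N⟩ : ↥(Subgroup.normalizer (Z : Set G))) ^ m = 1 from Subtype.ext (by
      show h₁ ^ m = 1; rw [hh₁, ← pow_mul, ← hord, pow_orderOf_eq_one]), map_one]
  have hstep : ∀ i : ℕ, h ^ i * z * (h ^ i)⁻¹ * (z ^ k ^ i)⁻¹ ∈ F := by
    intro i
    induction i with
    | zero => simp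
    | succ i ih =>
      set π := QuotientGroup.mk' F
      rw [← QuotientGroup.eq_one_iff (N := F), ← QuotientGroup.mk'_apply] at ih hk ⊢
      simp only [map_mul, map_pow, map_inv, mul_inv_eq_one] at ih hk ⊢
      rw [pow_succ', pow_succ, pow_mul]
      calc π h * π h ^ i * π z * (π h * π h ^ i)⁻¹ = π h * (π h ^ i * π z * (π h ^ i)⁻¹) * (π h)⁻¹ := by group
        _ = (π h * π z * (π h)⁻¹) ^ k ^ i := by rw [ih, conj_pow]
        _ = (π z ^ k ^ i) ^ k := by rw [hk, ← pow_mul, ← pow_mul, mul_comm]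
  obtain ⟨c, K, hc, hK, hσc⟩ := exists_eigen_order hZ (F.subgroupOf Z) σ
    (fun f hf => by
      rw [Subgroup.mem_subgroupOf, hσ]
      exact hF.conj_mem _ hf h₁)
    hm hcop (z := ⟨z, hz⟩) hzF hzp (k := k ^ p ^ a) (by
      rw [Subgroup.mem_subgroupOf]
      exact hstep (p ^ a))
  refine ⟨h₁, c, K, pow_mem (Subgroup.mem_zpowers h) _, c.2, ?_, ?_, ?_⟩
  · rwa [Subgroup.orderOf_coe]
  · rw [hK, Nat.cast_pow, ZMod.pow_card_pow]
  · rw [← hσ, hσc, SubmonoidClass.coe_pow]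

end Cfsg.Agent.FusionFp
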