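import Cfsg.Agent.Lib.FusionFp.Section
import Cfsg.Agent.Lib.FusionFp.Eigen
import Cfsg.Agent.Lib.FusionFp.Basic

/-!
From the data realized in `H` to the section and the element of order `p`.
-/

set_option autoImplicit false
set_option linter.style.haveILetI false

namespace Cfsg.Agent.FusionFp

open Cfsg.Agent.Functors

attribute [-simp] ZMod.inv_coe_unit

variable {G : Type*} [Group G] {p : ℕ}

/-- The data realized inside `H`: a root element and a torus element on `B` modulo `F`. -/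
structure HData (p : ℕ) (S F E H B : Subgroup G) (h e : G) (lam : (ZMod p)ˣ) : Prop where
  order_lam : orderOf lam = p - 1
  E_le : E ≤ B
  B_le : B ≤ S
  h_mem : h ∈ H
  e_mem : e ∈ S
  normalised : ∀ b ∈ B, h * b * h⁻¹ ∈ B
  abelian : ∀ b ∈ B, ∀ c ∈ B, b * c * b⁻¹ * c⁻¹ ∈ F
  exponent : ∀ b ∈ B, b ^ p ∈ F
  period : ∀ b ∈ B, h ^ (p - 1) * b * (h ^ (p - 1))⁻¹ * b⁻¹ ∈ F
  comm : h ^ ((p - 1) / 2) * e = e * h ^ ((p - 1) / 2)
  vectors : ∃ w₀ ∈ B, ∃ w₁ ∈ B, w₁ ∉ F ∧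
    e * w₀ * e⁻¹ * (w₀ * w₁)⁻¹ ∈ F ∧ e * w₁ * e⁻¹ * w₁⁻¹ ∈ F ∧
    h * w₀ * h⁻¹ * (w₀ ^ ((lam⁻¹ : (ZMod p)ˣ) : ZMod p).val)⁻¹ ∈ F ∧
    h * w₁ * h⁻¹ * (w₁ ^ (lam : ZMod p).val)⁻¹ ∈ F
  moves : ∃ v ∈ E, h ^ ((p - 1) / 2) * v * (h ^ ((p - 1) / 2))⁻¹ * v⁻¹ ∉ F
  eigen : ∀ x ∈ B, h ^ ((p - 1) / 2) * x * (h ^ ((p - 1) / 2))⁻¹ * x ∈ F →
    h * (h * x * h⁻¹ * (x ^ ((lam⁻¹ : (ZMod p)ˣ) : ZMod p).val)⁻¹) * h⁻¹ *
      ((h * x * h⁻¹ * (x ^ ((lam⁻¹ : (ZMod p)ˣ) : ZMod p).val)⁻¹) ^ (lam : ZMod p).val)⁻¹ ∈ F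

variable [Finite G] [hp : Fact p.Prime] {S F E H Z B : Subgroup G} {h e : G} {lam : (ZMod p)ˣ}

/-- The witness. -/
theorem witness_of_data (hp2 : p ≠ 2) (d : Setup p S F E H) [F.Normal] (hEZ : E ≤ Z) (hZS : Z ≤ S)
    (hZc : ∀ x ∈ Z, ∀ y ∈ Z, x * y = y * x) (hHZ : H ≤ Subgroup.normalizer (Z : Set G))
    (hSH : S ≤ H) (dt : HData p S F E H B h e lam) :
    Cfsg.Involves ↥(Cfsg.fOver (ZMod p)) ↥H ∧
      ∃ g ∈ H, ∃ c ∈ Z, ∃ k : ℕ, orderOf c = p ∧ orderOf (k : ZMod p) = p - 1 ∧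
        g * c * g⁻¹ = c ^ k := by
  set π := QuotientGroup.mk' F with hπ
  have hone : ∀ x : G, x ∈ F ↔ π x = 1 := fun x => (QuotientGroup.eq_one_iff x).symm
  refine ⟨?_, ?_⟩
  · obtain ⟨w₀, hw₀, w₁, hw₁, hne, e0, e1, h0, h1⟩ := dt.vectors
    refine involves_fOver hp2 H π dt.h_mem (hSH dt.e_mem) (hSH (dt.B_le hw₀)) (hSH (dt.B_le hw₁))
      dt.order_lam (commutator_mem_iff.1 (dt.abelian _ hw₀ _ hw₁)) ?_ ?_
      (fun hh => hne ((hone _).2 hh)) ?_ ?_ ?_ ?_ ?_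
    · rw [← map_pow, ← hone]; exact dt.exponent _ hw₀
    · rw [← map_pow, ← hone]; exact dt.exponent _ hw₁
    · rw [hone, map_mul, map_inv, mul_inv_eq_one] at e0; simpa using e0
    · rw [hone, map_mul, map_inv, mul_inv_eq_one] at e1; simpa using e1
    · rw [hone, map_mul, map_inv, mul_inv_eq_one] at h0; simpa using h0
    · rw [hone, map_mul, map_inv, mul_inv_eq_one] at h1; simpa using h1
    · rw [← map_mul, dt.comm, map_mul]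
  obtain ⟨v, hv, hmv⟩ := dt.moves
  set η := h ^ ((p - 1) / 2) with hη
  have hηH : η ∈ H := pow_mem dt.h_mem _
  have hηB : ∀ b ∈ B, η * b * η⁻¹ ∈ B := by
    rw [hη]
    intro b hb
    induction (p - 1) / 2 with
    | zero => simpa using hb
    | succ n ih =>
      have := dt.normalised _ ih
      rwa [show h * (h ^ n * b * (h ^ n)⁻¹) * h⁻¹ = h ^ (n + 1) * b * (h ^ (n + 1))⁻¹ by
        rw [pow_succ']; group] at this
  have hvB := dt.E_le hv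
  set x := v * (η * v * η⁻¹)⁻¹ with hx
  have hxZ : x ∈ Z := mul_mem (hEZ hv) (inv_mem
    ((Subgroup.mem_normalizer_iff.1 (hHZ hηH) v).1 (hEZ hv)))
  have hxB : x ∈ B := mul_mem hvB (inv_mem (hηB v hvB))
  have hxF : x ∉ F := fun hh => hmv (by
    have := inv_mem hh
    rwa [hx, show (v * (η * v * η⁻¹)⁻¹)⁻¹ = η * v * η⁻¹ * v⁻¹ by group] at this)
  have hanti : η * x * η⁻¹ * x ∈ F := by
    have hper := dt.period v hvB
    have hp' := hp.out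
    have h2 : η * η = h ^ (p - 1) := by
      rw [hη, ← pow_add]
      congr 1
      have := hp'.eq_two_or_odd.resolve_left hp2
      omega
    rw [← h2, hone] at hper
    rw [hone, hx]
    simp only [map_mul, map_inv, mul_inv_rev, inv_inv] at hper ⊢
    set a := π v
    set b := π η
    have h3 : b * b * a = a * (b * b) := by
      calc b * b * a = b * b * a * (b⁻¹ * b⁻¹) * a⁻¹ * (a * (b * b)) := by group
        _ = a * (b * b) := by rw [hper, one_mul]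
    calc b * (a * (b * (a⁻¹ * b⁻¹))) * b⁻¹ * (a * (b * (a⁻¹ * b⁻¹)))
        = b * a * b * a⁻¹ * (b⁻¹ * b⁻¹) * a * b * a⁻¹ * b⁻¹ := by group
      _ = b * a * b * a⁻¹ * (b⁻¹ * b⁻¹ * a * (b * b)) * b⁻¹ * a⁻¹ * b⁻¹ := by group
      _ = b * a * b * a⁻¹ * (b⁻¹ * b⁻¹ * (a * (b * b))) * b⁻¹ * a⁻¹ * b⁻¹ := by group
      _ = b * a * b * a⁻¹ * a * b⁻¹ * a⁻¹ * b⁻¹ := by rw [← h3]; group
      _ = 1 := by group
  set li := ((lam⁻¹ : (ZMod p)ˣ) : ZMod p).val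
  set y := h * x * h⁻¹ * (x ^ li)⁻¹ with hy
  have hyZ : y ∈ Z := mul_mem ((Subgroup.mem_normalizer_iff.1 (hHZ dt.h_mem) x).1 hxZ)
    (inv_mem (pow_mem hxZ _))
  have hyB : y ∈ B := mul_mem (dt.normalised x hxB) (inv_mem (pow_mem hxB _))
  have hord : ∀ u : (ZMod p)ˣ, orderOf u = p - 1 →
      orderOf (((u : ZMod p).val : ℕ) : ZMod p) = p - 1 := fun u hu => by
    rw [ZMod.natCast_zmod_val, orderOf_units, hu]
  have finish : ∀ z ∈ Z, z ∈ B → z ∉ F → ∀ u : (ZMod p)ˣ, orderOf u = p - 1 →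
      h * z * h⁻¹ * (z ^ (u : ZMod p).val)⁻¹ ∈ F →
      ∃ g ∈ H, ∃ c ∈ Z, ∃ k : ℕ, orderOf c = p ∧ orderOf (k : ZMod p) = p - 1 ∧
        g * c * g⁻¹ = c ^ k := by
    intro z hz hzB hzF u hu hk
    obtain ⟨h₁, c, K, hh₁, hc, hco, hK, hcK⟩ := exists_conj_eigen (d.isPGroup.to_le hZS) hZc
      ((d.F_le).trans hEZ) ‹F.Normal› (hHZ dt.h_mem) hz hzF (dt.exponent _ hzB) hk
    exact ⟨h₁, (Subgroup.zpowers_le.2 dt.h_mem) hh₁, c, hc, K, hco, by rw [hK]; exact hord u hu, hcK⟩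
  by_cases hyF : y ∈ F
  · exact finish x hxZ hxB hxF lam⁻¹ (by rw [orderOf_inv, dt.order_lam]) hyF
  · exact finish y hyZ hyB hyF lam dt.order_lam (dt.eigen x hxB hanti)

end Cfsg.Agent.FusionFp
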