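import Cfsg.Agent.Lib.FusionFp.CaseOne
import Cfsg.Agent.Lib.FusionFp.ModuleMul
import Cfsg.Agent.Lib.FusionFp.Witness
import Cfsg.Agent.Lib.Solvable.Coprime

/-!
The case `E ≤ O_p(X)`.
-/

set_option autoImplicit false
set_option linter.style.haveILetI false

namespace Cfsg.Agent.FusionFp

open Cfsg.Agent
open Cfsg.Agent.Functors

variable {G : Type*} [Group G] {F E X Y : Subgroup G} [F.Normal]

theorem Quad.conj {g a : G} (hg : g ∈ X) (ha : Quad F E X a) : Quad F E X (g * a * g⁻¹) := by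
  intro b hb
  have hb' : g⁻¹ * b * g ∈ clo E X := by
    have := (Subgroup.mem_normalizer_iff.1 (le_normalizer_clo E X (inv_mem hg)) b).1 hb
    rwa [inv_inv] at this
  have h := ‹F.Normal›.conj_mem _ (ha _ hb') g
  rwa [show g * (a * (a * (g⁻¹ * b * g) * a⁻¹ * (g⁻¹ * b * g)⁻¹) * a⁻¹ *
      (a * (g⁻¹ * b * g) * a⁻¹ * (g⁻¹ * b * g)⁻¹)⁻¹) * g⁻¹ =
    g * a * g⁻¹ * (g * a * g⁻¹ * b * (g * a * g⁻¹)⁻¹ * b⁻¹) * (g * a * g⁻¹)⁻¹ *
      (g * a * g⁻¹ * b * (g * a * g⁻¹)⁻¹ * b⁻¹)⁻¹ by group] at h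

theorem quad_of_mem {f : G} (hf : f ∈ F) : Quad F E X f := by
  intro b _
  have h1 : f * b * f⁻¹ * b⁻¹ ∈ F := by
    rw [show f * b * f⁻¹ * b⁻¹ = f * (b * f⁻¹ * b⁻¹) by group]
    exact mul_mem hf (‹F.Normal›.conj_mem _ (inv_mem hf) b)
  exact mul_mem (mul_mem (mul_mem hf h1) (inv_mem hf)) (inv_mem h1)

/-- The subgroup generated by the quadratic elements of `P`. -/
def quadGen (F E X P : Subgroup G) [F.Normal] : Subgroup G :=
  Subgroup.closure {x | x ∈ P ∧ Quad F E X x}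

variable [Finite G]

theorem normalizer_le_normalizer_quadGen {P : Subgroup G} :
    X ⊓ Subgroup.normalizer (P : Set G) ≤ Subgroup.normalizer (quadGen F E X P : Set G) := by
  intro n hn
  obtain ⟨hnX, hnP⟩ := Subgroup.mem_inf.1 hn
  refine map_cj_eq_iff.1 (Subgroup.eq_of_le_of_card_ge ?_ (card_map_cj _ n).ge)
  rw [quadGen, MonoidHom.map_closure, Subgroup.closure_le]
  rintro _ ⟨x, ⟨hxP, hx⟩, rfl⟩
  exact Subgroup.subset_closure ⟨(Subgroup.mem_normalizer_iff.1 hnP x).1 hxP, hx.conj hnX⟩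

variable {p : ℕ} [hp : Fact p.Prime] {S H : Subgroup G}

theorem quadGen_spec (d : Setup p S F E H) {Q P' : Subgroup G} (hEP' : E ≤ P') (hQC : Q ≤ ker F E X)
    (hD : ∃ x ∈ P', x ∈ X ∧ x ∉ ker F E X ∧ Quad F E X x) :
    F ≤ quadGen F E X P' ∧ quadGen F E X P' ≤ P' ∧ ¬ quadGen F E X P' ≤ Q ∧
      X ⊓ Subgroup.normalizer (P' : Set G) ≤ Subgroup.normalizer (quadGen F E X P' : Set G) ∧
      ∀ X₁ ≤ X, IsSylowIn p P' X₁ → GoodW p F E X₁ P' (quadGen F E X P') := by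
  refine ⟨fun f hf => Subgroup.subset_closure ⟨hEP' (d.F_le hf), quad_of_mem hf⟩,
    (Subgroup.closure_le _).2 fun x hx => hx.1, fun hle => ?_, normalizer_le_normalizer_quadGen,
    fun X₁ hX₁ _ => ⟨(inf_le_inf_right _ hX₁).trans normalizer_le_normalizer_quadGen,
      fun Y hY _ _ => ?_⟩⟩
  · obtain ⟨x, hx, -, hxC, hxq⟩ := hD
    exact hxC (hQC (hle (Subgroup.subset_closure ⟨hx, hxq⟩)))
  by_cases hall : ∀ x ∈ P', Quad F E X x → x ∈ ker F E Y
  · left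
    intro n hn
    obtain ⟨hnY, hnN⟩ := Subgroup.mem_inf.1 hn
    refine map_cj_eq_iff.1 (Subgroup.eq_of_le_of_card_ge ?_ (card_map_cj _ n).ge)
    rw [quadGen, MonoidHom.map_closure, Subgroup.closure_le]
    rintro _ ⟨x, ⟨hxP, hx⟩, rfl⟩
    have h1 := (Subgroup.mem_normalizer_iff.1 hnN x).1 (Subgroup.mem_inf.2 ⟨hxP, hall x hxP hx⟩)
    exact Subgroup.subset_closure ⟨(Subgroup.mem_inf.1 h1).1, hx.conj (hX₁ (hY hnY))⟩
  · push Not at hall
    obtain ⟨x, hxP, hx, hxK⟩ := hall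
    exact Or.inr ⟨x, hxP, hxK, hx.mono (hY.trans hX₁)⟩

/-- Splitting an element of `X = M L`. -/
theorem exists_split {X P M L : Subgroup G} (hP : IsSylowIn p P X) (hPM : P ≤ M) (hMX : M ≤ X)
    (hPL : P ≤ L) {A : Set G} (hA : A ⊆ P) {m l : G} (hm : m ∈ M) (hl : l ∈ L)
    (hg : cj (m * l) '' A ⊆ P) :
    ∃ m' ∈ M, ∃ l' ∈ L, m * l = m' * l' ∧ cj l' '' A ⊆ P := by
  have hsyl : IsSylowIn p P (M ⊓ L) := hP.of_le (le_inf hPM hPL) (inf_le_left.trans hMX)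
  set B := Subgroup.closure A with hB
  have hBP : B ≤ P := (Subgroup.closure_le P).2 hA
  have hBl : B.map (cj l) ≤ M ⊓ L := by
    rw [hB, MonoidHom.map_closure, Subgroup.closure_le]
    rintro _ ⟨b, hb, rfl⟩
    refine Subgroup.mem_inf.2 ⟨?_, mul_mem (mul_mem hl (hPL (hA hb))) (inv_mem hl)⟩
    have h1 := mul_mem (mul_mem (inv_mem hm) (hPM (hg ⟨b, hb, rfl⟩))) hm
    simpa [cj_apply, mul_assoc] using h1
  obtain ⟨n, hn, hnB⟩ := exists_conj_le_of_isSylowIn hsyl ((hP.isPGroup.to_le hBP).map _) hBl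
  rw [map_map_cj] at hnB
  refine ⟨m * n⁻¹, mul_mem hm (inv_mem (Subgroup.mem_inf.1 hn).1), n * l,
    mul_mem (Subgroup.mem_inf.1 hn).2 hl, by group, ?_⟩
  rintro _ ⟨a, ha, rfl⟩
  exact hnB ⟨a, Subgroup.subset_closure ha, rfl⟩

/-- The case `E ≤ O_p(X)`. -/
theorem good_case_two (hp2 : p ≠ 2) (d : Setup p S F E H) {P W₀ : Subgroup G}
    (hP : IsSylowIn p P X) (hPS : P ≤ S) (hEP : E ≤ P) (hW₀ : GoodW p F E X P W₀)
    (hN : Good H (X ⊓ Subgroup.normalizer (W₀ : Set G)) P) (hEQ : E ≤ opIn p X)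
    (hno : ∀ (B : Subgroup G) (h e : G) (lam : (ZMod p)ˣ), ¬ HData p S F E H B h e lam)
    (ih : ∀ X₁ < X, ∀ P₁ W₁ : Subgroup G, IsSylowIn p P₁ X₁ → P₁ ≤ S → E ≤ P₁ →
      GoodW p F E X₁ P₁ W₁ → Good H (X₁ ⊓ Subgroup.normalizer (W₁ : Set G)) P₁ → Good H X₁ P₁) :
    Good H X P := by
  classical
  set π := QuotientGroup.mk' F with hπ
  set Q := opIn p X with hQdef
  have hQP : Q ≤ P := opIn_le_sylow hP
  set B := clo E X with hBdef
  have hBQ : B ≤ Q := clo_le hEQ (le_normalizer_opIn X)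
  have hBS : B ≤ S := hBQ.trans (hQP.trans hPS)
  have hBX : B ≤ X := hBQ.trans (opIn_le X)
  set C := ker F E X with hC
  have hQC : Q ≤ C := le_ker d (hQP.trans hPS) (opIn_le X) (le_normalizer_opIn X)
  have hFQ : F ≤ Q := d.F_le.trans hEQ
  have hXC := le_normalizer_ker F E X
  rcases hW₀.2 X le_rfl hP.le ((hP.isPGroup.to_le (hBQ.trans hQP))) with hleft | ⟨a, haP, haC, hqa⟩
  · -- `X = C N(P ∩ C)`
    intro A hA g hg hgA
    obtain ⟨k, hk, hkg⟩ := exists_frattini (isSylowIn_inf_ker hP) hXC hg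
    set M := X ⊓ (Subgroup.centralizer ((E.map π : Subgroup (G ⧸ F)) : Set (G ⧸ F))).comap π with hM
    have hmemM : ∀ x ∈ X, (∀ f ∈ E, x * f * x⁻¹ * f⁻¹ ∈ F) → x ∈ M := fun x hx h => by
      refine Subgroup.mem_inf.2 ⟨hx, ?_⟩
      rw [Subgroup.mem_comap, Subgroup.mem_centralizer_iff]
      rintro _ ⟨f, hf, rfl⟩
      exact (commutator_mem_iff.1 (h f hf)).symm
    have hPM : P ≤ M := fun x hx => hmemM x (hP.le hx) (d.central x (hPS hx))
    have hPL : P ≤ X ⊓ Subgroup.normalizer (W₀ : Set G) :=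
      le_inf hP.le ((le_inf hP.le Subgroup.le_normalizer).trans hW₀.1)
    obtain ⟨m', hm', l', hl', heq, hl'A⟩ := exists_split hP hPM inf_le_left hPL hA (m := k⁻¹)
      (l := k * g) (hmemM _ (inv_mem (ker_le hk)) fun f hf => (mem_ker.1 (inv_mem hk)).2 f (le_clo E X hf))
      (Subgroup.mem_inf.2 ⟨mul_mem (ker_le hk) hg, hleft ⟨mul_mem (ker_le hk) hg, hkg⟩⟩)
      (by rwa [inv_mul_cancel_left])
    rw [inv_mul_cancel_left] at heq
    have r1 : Fus H A l' := hN A hA l' hl' hl'A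
    have r2 : Fus H (cj l' '' A) m' := by
      refine d.local_good _ (hl'A.trans (SetLike.coe_subset_coe.2 hPS)) m' (fun f hf => ?_) ?_
      · exact commutator_mem_iff.2
          (Subgroup.mem_centralizer_iff.1 (Subgroup.mem_inf.1 hm').2 _ ⟨f, hf, rfl⟩).symm
      · rw [cj_image_image, ← heq]
        exact hgA.trans (SetLike.coe_subset_coe.2 hPS)
    exact (r1.trans r2).congr fun _ _ => by rw [heq]
  exfalso
  -- the action on `B` modulo `F`
  set Bb := B.map π with hBb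
  have hBC : B ≤ C := hBQ.trans hQC
  letI : CommGroup Bb :=
    { (inferInstance : Group Bb) with
      mul_comm := by
        rintro ⟨_, x, hx, rfl⟩ ⟨_, y, hy, rfl⟩
        exact Subtype.ext (commutator_mem_iff.1 ((mem_ker.1 (hBC hx)).2 y hy)) }
  have hBexp : ∀ b ∈ B, b ^ p ∈ F := by
    let T : Subgroup Bb := (powMonoidHom p : Bb →* Bb).ker
    have key : B ≤ ((T.map Bb.subtype).comap π) := by
      refine iSup_le fun y => ?_
      rintro _ ⟨x, hx, rfl⟩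
      have hyx : cj (y : G) x ∈ B := le_iSup (fun y : X => E.map (cj (y : G))) y ⟨x, hx, rfl⟩
      refine ⟨⟨π (cj (y : G) x), _, hyx, rfl⟩, ?_, rfl⟩
      show (⟨π (cj (y : G) x), _⟩ : Bb) ^ p = 1
      refine Subtype.ext ?_
      rw [SubmonoidClass.coe_pow, ← map_pow, OneMemClass.coe_one, hπ, QuotientGroup.mk'_apply,
        QuotientGroup.eq_one_iff, ← map_pow, cj_apply]
      exact ‹F.Normal›.conj_mem _ (d.pow x hx) _
    intro b hb
    obtain ⟨w, hw, hwb⟩ := key hb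
    have h2 := congrArg Subtype.val (show w ^ p = 1 from hw)
    rw [SubmonoidClass.coe_pow, show (w : G ⧸ F) = π b from hwb, ← map_pow, OneMemClass.coe_one] at h2
    exact (QuotientGroup.eq_one_iff _).1 h2
  have hexp : ∀ b : Bb, b ^ p = 1 := by
    rintro ⟨_, b, hb, rfl⟩
    refine Subtype.ext ?_
    rw [SubmonoidClass.coe_pow, ← map_pow, OneMemClass.coe_one]
    exact (QuotientGroup.eq_one_iff _).2 (hBexp b hb)
  have hXN : ∀ x : X, π (x : G) ∈ Subgroup.normalizer (Bb : Set (G ⧸ F)) := fun x =>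
    Subgroup.le_normalizer_map π ⟨_, le_normalizer_clo E X x.2, rfl⟩
  let φ : X →* MulAut Bb := (Subgroup.normalizerMonoidHom Bb).comp
    ((π.comp X.subtype).codRestrict _ hXN)
  have hφ : ∀ (x : X) (w : Bb), ((φ x w : Bb) : G ⧸ F) = π x * (w : G ⧸ F) * (π x)⁻¹ := fun _ _ => rfl
  have hφ1 : ∀ x : X, φ x = 1 ↔ (x : G) ∈ C := by
    intro x
    constructor
    · intro h
      refine mem_ker.2 ⟨x.2, fun b hb => commutator_mem_iff.2 ?_⟩
      have h1 := congrArg Subtype.val (DFunLike.congr_fun h (⟨π b, b, hb, rfl⟩ : Bb))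
      rw [hφ] at h1
      exact mul_inv_eq_iff_eq_mul.1 h1
    · intro h
      refine MulEquiv.ext fun w => Subtype.ext ?_
      obtain ⟨_, b, hb, rfl⟩ := w
      rw [hφ, MulAut.one_apply]
      exact mul_inv_eq_iff_eq_mul.2 (commutator_mem_iff.1 ((mem_ker.1 h).2 b hb))
  have hφeq : ∀ x y : X, φ x = φ y ↔ (x : G) * (y : G)⁻¹ ∈ C := fun x y => by
    rw [← Subgroup.coe_inv, ← Subgroup.coe_mul, ← hφ1, map_mul, map_inv, mul_inv_eq_one]
  -- a moved element of `E`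
  have hmov : ∃ g : X, ∃ v ∈ E, (g : G) * a * (g : G)⁻¹ * v * ((g : G) * a * (g : G)⁻¹)⁻¹ * v⁻¹ ∉ F := by
    by_contra hcon
    push Not at hcon
    refine haC (mem_ker.2 ⟨hP.le haP, fun b hb => commutator_mem_iff.2 ?_⟩)
    have key : B ≤ (Subgroup.centralizer ({π a} : Set (G ⧸ F))).comap π := by
      refine iSup_le fun y => ?_
      rintro _ ⟨x, hx, rfl⟩
      rw [Subgroup.mem_comap, Subgroup.mem_centralizer_singleton_iff]
      have h := commutator_mem_iff.1 (hcon y⁻¹ x hx)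
      rw [Subgroup.coe_inv, inv_inv] at h
      simp only [map_mul, map_inv] at h
      rw [cj_apply, map_mul, map_mul, map_inv]
      calc _ = π (y : G) * (π x * ((π (y : G))⁻¹ * π a * π (y : G))) * (π (y : G))⁻¹ := by group
        _ = π (y : G) * ((π (y : G))⁻¹ * π a * π (y : G) * π x) * (π (y : G))⁻¹ := by rw [← h]
        _ = _ := by group
    exact ((Subgroup.mem_centralizer_singleton_iff).1 (key hb)).symm
  obtain ⟨g₀, v, hv, hgv⟩ := hmov
  set vb : Bb := ⟨π v, v, le_clo E X hv, rfl⟩ with hvb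
  obtain ⟨PX, hPX⟩ := hP.exists_sylow
  have hPX' : ∀ x : X, x ∈ (PX : Subgroup X) ↔ (x : G) ∈ P := fun x => by
    rw [hPX, Subgroup.mem_subgroupOf]
  obtain ⟨lam, t, a₁, a', ha₁, ha', td⟩ := exists_torusMul hp2 hexp φ PX (v := vb)
    (fun x hx => Subtype.ext (by
      rw [hφ]
      exact mul_inv_eq_iff_eq_mul.2 (commutator_mem_iff.1 (d.central _ (hPS ((hPX' x).1 hx)) v hv))))
    (a := ⟨a, hP.le haP⟩) ((hPX' _).2 haP) (fun w => by
      obtain ⟨_, b, hb, rfl⟩ := w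
      refine Subtype.ext ?_
      have h := (QuotientGroup.eq_one_iff (N := F) _).2 (hqa b hb)
      rw [← QuotientGroup.mk'_apply] at h
      simp only [map_mul, map_inv] at h
      rw [hφ, Subgroup.coe_mul, hφ, Subgroup.coe_inv]
      exact mul_inv_eq_one.1 h)
    ⟨g₀, fun h => hgv (commutator_mem_iff.2 (by
      have h1 := congrArg Subtype.val h
      rw [hφ] at h1
      exact mul_inv_eq_iff_eq_mul.1 h1))⟩
  rw [hPX'] at ha₁ ha'
  have hquad₁ : Quad F E X (a₁ : G) := by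
    intro b hb
    rw [← QuotientGroup.eq_one_iff (N := F), ← QuotientGroup.mk'_apply]
    have h := congrArg Subtype.val (td.quad ⟨π b, b, hb, rfl⟩)
    rw [hφ, Subgroup.coe_mul, hφ, Subgroup.coe_inv] at h
    simp only [map_mul, map_inv]
    exact mul_inv_eq_one.2 h
  -- the preimage of `⟨a'⟩`
  set K₁ : Subgroup G := ((Subgroup.zpowers (φ a')).comap φ).map X.subtype with hK₁
  have hK₁X : K₁ ≤ X := Subgroup.map_subtype_le _
  have hmemK₁ : ∀ x : X, (x : G) ∈ K₁ ↔ φ x ∈ Subgroup.zpowers (φ a') := fun x => by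
    rw [hK₁]; exact (Subgroup.mem_map_iff_mem X.subtype_injective).trans Subgroup.mem_comap
  have hCK₁ : C ≤ K₁ := fun x hx => (hmemK₁ ⟨x, ker_le hx⟩).2 (by
    rw [(hφ1 ⟨x, ker_le hx⟩).2 hx]; exact one_mem _)
  have ha'K₁ : (a' : G) ∈ K₁ := (hmemK₁ a').2 (Subgroup.mem_zpowers _)
  set E₁ := P ⊓ K₁ with hE₁
  have hQE₁ : Q ≤ E₁ := le_inf hQP (hQC.trans hCK₁)
  have hdec : ∀ x ∈ K₁, ∃ c ∈ C, ∃ e ∈ E₁, x = c * e := by
    intro x hx
    obtain ⟨i, hi⟩ := Subgroup.mem_zpowers_iff.1 ((hmemK₁ ⟨x, hK₁X hx⟩).1 hx)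
    rw [← map_zpow] at hi
    have h1 := (hφeq _ _).1 hi.symm
    exact ⟨_, h1, (a' : G) ^ i, Subgroup.mem_inf.2 ⟨zpow_mem ha' i, zpow_mem ha'K₁ i⟩, by
      rw [SubgroupClass.coe_zpow, inv_mul_cancel_right]⟩
  have hE₁syl : IsSylowIn p E₁ K₁ := by
    obtain ⟨T, hT, hle⟩ := exists_isSylowIn_ge (p := p)
      (hP.isPGroup.to_le (inf_le_left : E₁ ≤ P)) inf_le_right
    have hTC : P ⊓ C = T ⊓ C := (isSylowIn_inf_ker hP).eq_of_le (hT.isPGroup.to_le inf_le_left)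
      (le_inf ((inf_le_inf_left P hCK₁).trans hle) inf_le_right) inf_le_right
    have hTE : T ≤ E₁ := fun x hx => by
      obtain ⟨c, hc, e, he, rfl⟩ := hdec x (hT.le hx)
      have hcT : c ∈ T := by
        have := mul_mem hx (inv_mem (hle he))
        rwa [mul_inv_cancel_right] at this
      have hcP : c ∈ P := (Subgroup.mem_inf.1 (hTC.ge (Subgroup.mem_inf.2 ⟨hcT, hc⟩))).1
      exact Subgroup.mem_inf.2 ⟨mul_mem hcP (Subgroup.mem_inf.1 he).1, hT.le hx⟩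
    rwa [le_antisymm hTE hle] at hT
  have hnK₁ : ∀ x : X, φ (x * a' * x⁻¹) ∈ Subgroup.zpowers (φ a') →
      (x : G) ∈ Subgroup.normalizer (K₁ : Set G) := by
    intro x hx
    refine map_cj_eq_iff.1 (Subgroup.eq_of_le_of_card_ge ?_ (card_map_cj _ _).ge)
    rintro _ ⟨y, hy, rfl⟩
    obtain ⟨i, hi⟩ := Subgroup.mem_zpowers_iff.1 ((hmemK₁ ⟨y, hK₁X hy⟩).1 hy)
    have e1 : cj (x : G) y = ((x * ⟨y, hK₁X hy⟩ * x⁻¹ : X) : G) := rfl
    rw [e1, hmemK₁, map_mul, map_mul, ← hi, map_inv, ← conj_zpow, ← map_inv, ← map_mul, ← map_mul]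
    exact zpow_mem hx i
  -- an element over `t` normalizing `E₁`
  have htK : (t : G) ∈ Subgroup.normalizer (K₁ : Set G) :=
    hnK₁ t (by rw [td.conj, map_pow]; exact pow_mem (Subgroup.mem_zpowers _) _)
  obtain ⟨k, hk, hkt⟩ := exists_frattini (X := Subgroup.normalizer (K₁ : Set G)) hE₁syl le_rfl htK
  obtain ⟨c, hc, e₁, he₁, rfl⟩ := hdec k hk
  have he₁N : e₁⁻¹ ∈ Subgroup.normalizer (E₁ : Set G) := inv_mem (Subgroup.le_normalizer he₁)
  set t₁ : X := ⟨e₁⁻¹ * (c * e₁ * (t : G)), mul_mem (inv_mem (hK₁X (Subgroup.mem_inf.1 he₁).2))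
    (mul_mem (mul_mem (ker_le hc) (hK₁X (Subgroup.mem_inf.1 he₁).2)) t.2)⟩ with ht₁
  have ht₁N : (t₁ : G) ∈ Subgroup.normalizer (E₁ : Set G) := mul_mem he₁N hkt
  have ht₁φ : φ t₁ = φ t := by
    rw [hφeq]
    show e₁⁻¹ * (c * e₁ * (t : G)) * (t : G)⁻¹ ∈ C
    rw [show e₁⁻¹ * (c * e₁ * (t : G)) * (t : G)⁻¹ = e₁⁻¹ * c * e₁ by group]
    have := (Subgroup.mem_normalizer_iff.1 (hXC (inv_mem (hK₁X (Subgroup.mem_inf.1 he₁).2))) c).1 hc
    rwa [inv_inv] at this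
  obtain ⟨n₀, m, hnd, hord⟩ := Nat.exists_eq_pow_mul_and_not_dvd (orderOf_pos t₁).ne' p hp.out.ne_one
  set t₂ := t₁ ^ p ^ n₀ with ht₂
  have ht₂N : (t₂ : G) ∈ Subgroup.normalizer (E₁ : Set G) := by
    rw [ht₂, SubmonoidClass.coe_pow]; exact pow_mem ht₁N _
  have ht₂φ : φ t₂ = φ t := by
    rw [ht₂, map_pow, ht₁φ]
    have hper : φ t ^ (p - 1) = 1 := by rw [← map_pow]; exact td.period
    obtain ⟨q, hq⟩ := Nat.sub_dvd_pow_sub_pow p 1 n₀
    rw [one_pow] at hq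
    have h1 : 1 ≤ p ^ n₀ := Nat.one_le_pow _ _ hp.out.pos
    rw [show p ^ n₀ = (p - 1) * q + 1 by omega, pow_succ, pow_mul, hper, one_pow, one_mul]
  -- fusion of `E₁`
  have hclimb := (climb d hP hPS hEP hFQ (le_normalizer_opIn X)
    (fun W hW hn => le_opIn (hP.isPGroup.to_le hW) (hW.trans hP.le) hn) hW₀ hN
    (fun V => Q ≤ V ∧ ∃ x ∈ V, x ∈ X ∧ x ∉ C ∧ Quad F E X x)
    (fun V h => ⟨h.1, fun hle => by obtain ⟨x, hx, -, hxC, -⟩ := h.2; exact hxC (hQC (hle hx))⟩)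
    (fun V V' hle _ ⟨h1, x, hx, h2⟩ => ⟨h1.trans hle, x, hle hx, h2⟩)
    (fun g hg V h => by
      obtain ⟨h1, x, hx, hxX, hxC, hxq⟩ := h
      have hg' : Q.map (cj g) = Q := map_cj_eq_iff.2 (le_normalizer_opIn (p := p) X hg)
      refine ⟨by rw [← hg']; exact Subgroup.map_mono h1, g * x * g⁻¹, ⟨x, hx, rfl⟩,
        mul_mem (mul_mem hg hxX) (inv_mem hg), fun h => hxC ?_, hxq.conj hg⟩
      exact (Subgroup.mem_normalizer_iff.1 (hXC hg) x).2 h)
    (fun P' => quadGen F E X P') (fun P' _ hEP' hD => quadGen_spec d hEP' hQC hD.2) ih).2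
  have ha₁N : (a₁ : G) ∈ Subgroup.normalizer (E₁ : Set G) := by
    refine Subgroup.inf_normalizer_le_normalizer_inf ⟨Subgroup.le_normalizer ha₁, hnK₁ a₁ ?_⟩
    rw [map_mul, td.comm, ← map_mul, mul_inv_cancel_right]
    exact Subgroup.mem_zpowers _
  have hr := hclimb E₁ inf_le_left (hFQ.trans hQE₁)
    (fun hle => td.ne_one ((hφ1 a').2 (hQC (hle (Subgroup.mem_inf.2 ⟨ha', ha'K₁⟩)))))
    ⟨le_inf hQP (hQE₁.trans Subgroup.le_normalizer), (a₁ : G),
      Subgroup.mem_inf.2 ⟨ha₁, ha₁N⟩, a₁.2, fun h => td.ne_one₁ ((hφ1 a₁).2 h), hquad₁⟩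
    (E₁ : Set G) (SetLike.coe_subset_coe.2 (le_inf inf_le_left Subgroup.le_normalizer)) (t₂ : G)
    (Subgroup.mem_inf.2 ⟨t₂.2, ht₂N⟩) (by
      rw [cj_image_coe, map_cj_eq_iff.2 ht₂N]
      exact SetLike.coe_subset_coe.2 (le_inf inf_le_left Subgroup.le_normalizer))
  obtain ⟨h, hhH, hag⟩ := hr
  have hagn : ∀ n : ℕ, ∀ x ∈ E₁, h ^ n * x * (h ^ n)⁻¹ = (t₂ : G) ^ n * x * ((t₂ : G) ^ n)⁻¹ := by
    intro n
    induction n with
    | zero => simp
    | succ n ih =>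
      intro x hx
      have hx' : (t₂ : G) ^ n * x * ((t₂ : G) ^ n)⁻¹ ∈ E₁ :=
        (Subgroup.mem_normalizer_iff.1 (pow_mem ht₂N n) x).1 hx
      calc h ^ (n + 1) * x * (h ^ (n + 1))⁻¹ = h * (h ^ n * x * (h ^ n)⁻¹) * h⁻¹ := by
            rw [pow_succ']; group
        _ = (t₂ : G) * ((t₂ : G) ^ n * x * ((t₂ : G) ^ n)⁻¹) * (t₂ : G)⁻¹ := by rw [ih x hx, hag _ hx']
        _ = _ := by rw [pow_succ' (t₂ : G)]; group
  -- an element over `a'` fixed by the half turn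
  set μ := (p - 1) / 2 with hμ
  set τ := t₂ ^ μ with hτ
  have hτN : (τ : G) ∈ Subgroup.normalizer (E₁ : Set G) := by
    rw [hτ, SubmonoidClass.coe_pow]; exact pow_mem ht₂N _
  have hτcop : (orderOf (τ : G)).Coprime p := by
    rw [Subgroup.orderOf_coe]
    have h1 : orderOf t₂ ∣ m := orderOf_dvd_of_pow_eq_one (by
      rw [ht₂, ← pow_mul, ← hord, pow_orderOf_eq_one])
    exact Nat.Coprime.coprime_dvd_left ((orderOf_pow_dvd μ).trans h1)
      ((hp.out.coprime_iff_not_dvd).2 hnd).symm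
  have hτa' : (τ : G) * (a' : G) * (τ : G)⁻¹ * (a' : G)⁻¹ ∈ C := by
    have h : φ (τ * a' * τ⁻¹) = φ a' := by
      have hit : ∀ n : ℕ, φ t ^ n * φ a' * (φ t ^ n)⁻¹ = φ a' ^ (((lam : ZMod p) ^ 2).val ^ n) := by
        intro n
        induction n with
        | zero => simp
        | succ n ih =>
          rw [pow_succ', show φ t * φ t ^ n * φ a' * (φ t * φ t ^ n)⁻¹ =
            φ t * (φ t ^ n * φ a' * (φ t ^ n)⁻¹) * (φ t)⁻¹ by group, ih, ← conj_pow]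
          have := td.conj
          simp only [map_mul, map_inv, map_pow] at this
          rw [this, ← pow_mul]
          congr 1
          ring
      rw [map_mul, map_mul, map_inv, hτ, map_pow, ht₂φ, hit]
      conv_rhs => rw [← pow_one (φ a')]
      have hpa : φ a' ^ p = 1 := by rw [← map_pow]; exact td.pow
      rw [orderOf_eq_prime hpa td.ne_one |> fun ho => (pow_eq_pow_iff_modEq.trans (by rw [ho])),
        ← ZMod.natCast_eq_natCast_iff, Nat.cast_pow, ZMod.natCast_zmod_val, ← pow_mul, Nat.cast_one]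
      have h2 : 2 * μ = p - 1 := by
        have := hp.out.eq_two_or_odd.resolve_left hp2
        omega
      rw [h2, ← Units.val_pow_eq_pow_val, ← td.order_lam, pow_orderOf_eq_one, Units.val_one]
    have h2 := (hφeq _ _).1 h
    exact h2
  have hEC : IsPGroup p ↥E₁ := hE₁syl.isPGroup
  obtain ⟨e, he, hea⟩ := CoprimeAct.exists_mem_centralizer (A := Subgroup.zpowers (τ : G)) (K := E₁)
    (Subgroup.zpowers_le.2 hτN)
    (by
      rw [Nat.card_zpowers]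
      obtain ⟨j, hj⟩ := IsPGroup.iff_card.1 hEC
      rw [hj]; exact hτcop.pow_right j)
    (Or.inr (by haveI := hEC.isNilpotent; infer_instance))
    (N := E₁ ⊓ C) inf_le_left
    (fun x hx => Subgroup.inf_normalizer_le_normalizer_inf
      ⟨Subgroup.le_normalizer hx, hXC (hP.le (Subgroup.mem_inf.1 hx).1)⟩)
    (Subgroup.zpowers_le.2 (Subgroup.inf_normalizer_le_normalizer_inf ⟨hτN, hXC τ.2⟩))
    (k := (a' : G)) (Subgroup.mem_inf.2 ⟨ha', ha'K₁⟩) (fun x hx => by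
      obtain ⟨i, rfl⟩ := (mem_powers_iff_mem_zpowers (x := (τ : G))).2 hx
      dsimp only
      refine Subgroup.mem_inf.2 ⟨mul_mem ((Subgroup.mem_normalizer_iff.1 (pow_mem hτN i) _).1
        (Subgroup.mem_inf.2 ⟨ha', ha'K₁⟩)) (inv_mem (Subgroup.mem_inf.2 ⟨ha', ha'K₁⟩)), ?_⟩
      clear hx
      induction i with
      | zero => simp
      | succ i ih =>
        have h1 := (Subgroup.mem_normalizer_iff.1 (hXC τ.2) _).1 ih
        have h2 := mul_mem h1 hτa'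
        rwa [show (τ : G) * ((τ : G) ^ i * (a' : G) * ((τ : G) ^ i)⁻¹ * (a' : G)⁻¹) * (τ : G)⁻¹ *
          ((τ : G) * (a' : G) * (τ : G)⁻¹ * (a' : G)⁻¹) =
          (τ : G) ^ (i + 1) * (a' : G) * ((τ : G) ^ (i + 1))⁻¹ * (a' : G)⁻¹ by rw [pow_succ']; group] at h2)
  obtain ⟨heE₁, heτ⟩ := Subgroup.mem_inf.1 he
  set eX : X := ⟨e, hK₁X (Subgroup.mem_inf.1 heE₁).2⟩ with heX
  have heφ : φ eX = φ a' := by
    symm
    rw [← inv_mul_eq_one, ← map_inv, ← map_mul, hφ1]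
    exact (Subgroup.mem_inf.1 hea).2
  -- the data
  have hBE₁ : B ≤ E₁ := hBQ.trans hQE₁
  have hπh : ∀ n : ℕ, ∀ b (hb : b ∈ B), π (h ^ n * b * (h ^ n)⁻¹) =
      ((φ (t ^ n) ⟨π b, b, hb, rfl⟩ : Bb) : G ⧸ F) := fun n b hb => by
    rw [hagn n b (hBE₁ hb), map_pow φ t, ← ht₂φ, ← map_pow φ t₂, hφ]
    simp only [map_mul, map_inv]
    rfl
  have hπh1 : ∀ b (hb : b ∈ B), π (h * b * h⁻¹) = ((φ t ⟨π b, b, hb, rfl⟩ : Bb) : G ⧸ F) :=
    fun b hb => by simpa only [pow_one] using hπh 1 b hb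
  have hone : ∀ {x : G}, π x = 1 → x ∈ F := fun h => (QuotientGroup.eq_one_iff _).1 h
  have hnorm : ∀ b ∈ B, h * b * h⁻¹ ∈ B := fun b hb => by
    rw [hag b (hBE₁ hb)]
    exact (Subgroup.mem_normalizer_iff.1 (le_normalizer_clo E X t₂.2) b).1 hb
  refine hno B h e lam ⟨td.order_lam, le_clo E X, hBS, hhH, hPS (Subgroup.mem_inf.1 heE₁).1, hnorm,
    fun b hb b' hb' => (mem_ker.1 (hBC hb)).2 b' hb', hBexp, fun b hb => hone ?_, ?_, ?_,
    ⟨v, hv, fun hh => td.moves ?_⟩, fun x hx hxa => hone ?_⟩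
  · rw [map_mul, hπh _ b hb, td.period, MulAut.one_apply, map_inv, mul_inv_cancel]
  · have h1 : h ^ μ * e * (h ^ μ)⁻¹ = e := by
      rw [hagn μ e heE₁]
      have h2 := Subgroup.mem_centralizer_iff.1 heτ (τ : G) (Subgroup.mem_zpowers _)
      rw [← SubmonoidClass.coe_pow, ← hτ, h2, mul_inv_cancel_right]
    exact mul_inv_eq_iff_eq_mul.1 h1
  · obtain ⟨⟨_, w₀, hw₀, rfl⟩, ⟨_, w₁, hw₁, rfl⟩, e1, e2, e3, e4, e5⟩ := td.vectors
    have hπe : ∀ b (hb : b ∈ B), π (e * b * e⁻¹) = ((φ a' ⟨π b, b, hb, rfl⟩ : Bb) : G ⧸ F) :=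
      fun b hb => by rw [← heφ, hφ]; simp only [map_mul, map_inv]; rfl
    refine ⟨w₀, hw₀, w₁, hw₁, fun hh => e1 (Subtype.ext ((QuotientGroup.eq_one_iff _).2 hh)),
      hone ?_, hone ?_, hone ?_, hone ?_⟩
    · rw [map_mul, hπe w₀ hw₀, e2, Subgroup.coe_mul, map_inv, map_mul, mul_inv_cancel]
    · rw [map_mul, hπe w₁ hw₁, e3, map_inv, mul_inv_cancel]
    · rw [map_mul, hπh1 w₀ hw₀, e4, SubmonoidClass.coe_pow, map_inv, map_pow, mul_inv_cancel]
    · rw [map_mul, hπh1 w₁ hw₁, e5, SubmonoidClass.coe_pow, map_inv, map_pow, mul_inv_cancel]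
  · refine Subtype.ext ?_
    have h1 := (QuotientGroup.eq_one_iff (N := F) _).2 hh
    rw [← QuotientGroup.mk'_apply, map_mul, hπh μ v (le_clo E X hv), map_inv, mul_inv_eq_one] at h1
    exact h1
  · have h1 := (QuotientGroup.eq_one_iff (N := F) _).2 hxa
    rw [← QuotientGroup.mk'_apply, map_mul, hπh μ x hx] at h1
    have h2 := td.eigen ⟨π x, x, hx, rfl⟩ (eq_inv_of_mul_eq_one_left (Subtype.ext h1))
    set y := h * x * h⁻¹ * (x ^ ((lam⁻¹ : (ZMod p)ˣ) : ZMod p).val)⁻¹ with hy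
    have hyB : y ∈ B := mul_mem (hnorm x hx) (inv_mem (pow_mem hx _))
    have e3 : (⟨π y, y, hyB, rfl⟩ : Bb) = φ t ⟨π x, x, hx, rfl⟩ *
        ((⟨π x, x, hx, rfl⟩ : Bb) ^ ((lam⁻¹ : (ZMod p)ˣ) : ZMod p).val)⁻¹ := by
      refine Subtype.ext ?_
      rw [Subgroup.coe_mul, Subgroup.coe_inv, SubmonoidClass.coe_pow]
      show π y = _
      rw [hy, map_mul, hπh1 x hx, map_inv, map_pow]
    rw [← e3] at h2
    rw [map_mul, hπh1 y hyB, h2, SubmonoidClass.coe_pow, map_inv, map_pow, mul_inv_cancel]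

end Cfsg.Agent.FusionFp
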