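import Cfsg.Agent.Lib.FusionFp.Basic

/-!
Fusion of the subgroups in an upward closed class, by descending induction, from the fusion in the
normalizers of subgroups outside `O_p`.
-/

set_option autoImplicit false
set_option linter.style.haveILetI false

namespace Cfsg.Agent.FusionFp

open Cfsg.Agent.Functors

variable {G : Type*} [Group G] [Finite G] {p : ℕ} [hp : Fact p.Prime] {S F E H : Subgroup G}

/-- An extremal conjugate. -/
theorem exists_extremal {X P V : Subgroup G} (hP : IsSylowIn p P X) (hV : V ≤ P) :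
    ∃ h ∈ X, (P ⊓ Subgroup.normalizer (V : Set G)).map (cj h) ≤
        P ⊓ Subgroup.normalizer (V.map (cj h) : Set G) ∧ V.map (cj h) ≤ P ∧
      IsSylowIn p (P ⊓ Subgroup.normalizer (V.map (cj h) : Set G))
        (X ⊓ Subgroup.normalizer (V.map (cj h) : Set G)) := by
  obtain ⟨T, hT, hle⟩ := exists_isSylowIn_ge (p := p)
    (hP.isPGroup.to_le (inf_le_left : P ⊓ Subgroup.normalizer (V : Set G) ≤ P))
    (inf_le_inf_right _ hP.le)
  obtain ⟨h, hh, hTP⟩ := exists_conj_le_of_isSylowIn hP hT.isPGroup (hT.le.trans inf_le_left)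
  have hX : (X ⊓ Subgroup.normalizer (V : Set G)).map (cj h) =
      X ⊓ Subgroup.normalizer (V.map (cj h) : Set G) := by
    rw [Subgroup.map_inf _ _ _ (cj_injective h), map_cj_normalizer,
      map_cj_eq_iff.2 (Subgroup.le_normalizer hh)]
  have h1 : T.map (cj h) ≤ P ⊓ Subgroup.normalizer (V.map (cj h) : Set G) :=
    le_inf hTP ((Subgroup.map_mono hT.le).trans (hX.le.trans inf_le_right))
  have h2 : (P ⊓ Subgroup.normalizer (V : Set G)).map (cj h) ≤ _ := (Subgroup.map_mono hle).trans h1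
  refine ⟨h, hh, h2, (Subgroup.map_mono (le_inf hV Subgroup.le_normalizer)).trans
    (h2.trans inf_le_left), ?_⟩
  have h3 := hT.map_cj h
  rw [hX] at h3
  rwa [h3.eq_of_le (hP.isPGroup.to_le inf_le_left) h1 (inf_le_inf_right _ hP.le)] at h3

/-- The climbing lemma. -/
theorem climb (d : Setup p S F E H) [F.Normal] {X P Q W₀ : Subgroup G} (hP : IsSylowIn p P X)
    (hPS : P ≤ S) (hEP : E ≤ P) (hFQ : F ≤ Q) (hXQ : X ≤ Subgroup.normalizer (Q : Set G))
    (hQmax : ∀ W : Subgroup G, W ≤ P → X ≤ Subgroup.normalizer (W : Set G) → W ≤ Q)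
    (hW₀ : GoodW p F E X P W₀) (hN : Good H (X ⊓ Subgroup.normalizer (W₀ : Set G)) P)
    (D : Subgroup G → Prop) (hDQ : ∀ V, D V → Q ≤ V ∧ ¬ V ≤ Q)
    (hDup : ∀ V V', V ≤ V' → V' ≤ P → D V → D V')
    (hDcj : ∀ g ∈ X, ∀ V, D V → D (V.map (cj g)))
    (W' : Subgroup G → Subgroup G)
    (hW' : ∀ P' ≤ P, E ≤ P' → D P' → F ≤ W' P' ∧ W' P' ≤ P' ∧ ¬ W' P' ≤ Q ∧
      X ⊓ Subgroup.normalizer (P' : Set G) ≤ Subgroup.normalizer (W' P' : Set G) ∧
      ∀ X₁ ≤ X, IsSylowIn p P' X₁ → GoodW p F E X₁ P' (W' P'))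
    (ih : ∀ X₁ < X, ∀ P₁ W₁ : Subgroup G, IsSylowIn p P₁ X₁ → P₁ ≤ S → E ≤ P₁ →
      GoodW p F E X₁ P₁ W₁ → Good H (X₁ ⊓ Subgroup.normalizer (W₁ : Set G)) P₁ → Good H X₁ P₁) :
    (∀ V ≤ P, D V → ∀ g ∈ X, V.map (cj g) ≤ P → Fus H V g) ∧
      ∀ W ≤ P, F ≤ W → ¬ W ≤ Q → D (P ⊓ Subgroup.normalizer (W : Set G)) →
        Good H (X ⊓ Subgroup.normalizer (W : Set G)) (P ⊓ Subgroup.normalizer (W : Set G)) := by
  suffices key : ∀ (n m : ℕ), Nat.card ↥P < n + m →
      (∀ V ≤ P, D V → m ≤ Nat.card ↥V → ∀ g ∈ X, V.map (cj g) ≤ P → Fus H V g) ∧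
      ∀ W ≤ P, F ≤ W → ¬ W ≤ Q → D (P ⊓ Subgroup.normalizer (W : Set G)) →
        m ≤ Nat.card ↥(P ⊓ Subgroup.normalizer (W : Set G)) →
        Good H (X ⊓ Subgroup.normalizer (W : Set G)) (P ⊓ Subgroup.normalizer (W : Set G)) by
    obtain ⟨h1, h2⟩ := key (Nat.card ↥P + 1) 0 (by omega)
    exact ⟨fun V hV hD => h1 V hV hD (Nat.zero_le _), fun W a b c e => h2 W a b c e (Nat.zero_le _)⟩
  intro n
  induction n with
  | zero =>
    intro m hm
    refine ⟨fun V hV _ hVm => ?_, fun W _ _ _ _ hWm => ?_⟩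
    · exact absurd (hVm.trans (Subgroup.card_le_of_le hV)) (by omega)
    · exact absurd (hWm.trans (Subgroup.card_le_of_le inf_le_left)) (by omega)
  | succ n ihn =>
    intro m hm
    obtain ⟨ihR, ihL⟩ := ihn (m + 1) (by omega)
    have grow : ∀ V : Subgroup G, V ≤ P → V ≠ P →
        Nat.card ↥V < Nat.card ↥(P ⊓ Subgroup.normalizer (V : Set G)) := fun V hV hne =>
      Nat.lt_of_not_ge fun hle => (lt_inf_normalizer_of_lt hP.isPGroup (lt_of_le_of_ne hV hne)).ne
        (Subgroup.eq_of_le_of_card_ge (le_inf hV Subgroup.le_normalizer) hle)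
    have hRm : ∀ V ≤ P, D V → m ≤ Nat.card ↥V → ∀ g ∈ X, V.map (cj g) ≤ P → Fus H V g := by
      intro V hV hD hVm g hg hgV
      by_cases hlt : m + 1 ≤ Nat.card ↥V
      · exact ihR V hV hD hlt g hg hgV
      by_cases hVP : V = P
      · subst hVP
        have hgN := map_cj_eq_iff.1 (Subgroup.eq_of_le_of_card_ge hgV (card_map_cj _ _).ge)
        exact hN _ le_rfl g ⟨hg, hW₀.1 ⟨hg, hgN⟩⟩ (by rw [cj_image_coe]; exact hgV)
      set Y := V.map (cj g) with hY
      have hYD : D Y := hDcj g hg V hD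
      have hYP : Y ≠ P := fun h => hVP (Subgroup.eq_of_le_of_card_ge hV
        (by rw [← card_map_cj V g, ← hY, h]))
      obtain ⟨h, hh, hNV, hV'P, -⟩ := exists_extremal hP hV
      obtain ⟨k, hk, hNY, hY'P, hY'syl⟩ := exists_extremal hP hgV
      set V' := V.map (cj h) with hV'def
      set Y' := Y.map (cj k) with hY'def
      have hcardY : Nat.card ↥Y = Nat.card ↥V := card_map_cj V g
      have rh : Fus H (V : Set G) h := Fus.mono (le_inf hV Subgroup.le_normalizer)
        (ihR _ inf_le_left (hDup _ _ (le_inf hV Subgroup.le_normalizer) inf_le_left hD)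
          (by have := grow V hV hVP; omega) h hh (hNV.trans inf_le_left))
      have rk : Fus H (Y : Set G) k := Fus.mono (le_inf hgV Subgroup.le_normalizer)
        (ihR _ inf_le_left (hDup _ _ (le_inf hgV Subgroup.le_normalizer) inf_le_left hYD)
          (by have := grow Y hgV hYP; omega) k hk (hNY.trans inf_le_left))
      set x := k * g * h⁻¹ with hx
      have hxX : x ∈ X := mul_mem (mul_mem hk hg) (inv_mem hh)
      have hxV' : V'.map (cj x) = Y' := by
        rw [hV'def, hY'def, hY, map_map_cj, map_map_cj, hx, inv_mul_cancel_right]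
      have hN1 : (P ⊓ Subgroup.normalizer (V' : Set G)).map (cj x) ≤
          X ⊓ Subgroup.normalizer (Y' : Set G) := by
        refine le_inf ?_ ?_
        · exact (Subgroup.map_mono (inf_le_left.trans hP.le)).trans
            (map_cj_eq_iff.2 (Subgroup.le_normalizer hxX)).le
        · rw [← hxV', ← map_cj_normalizer V']
          exact Subgroup.map_mono inf_le_right
      obtain ⟨y, hy, hyle⟩ := exists_conj_le_of_isSylowIn hY'syl
        ((hP.isPGroup.to_le inf_le_left).map _) hN1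
      rw [map_map_cj] at hyle
      have hcard' : Nat.card ↥V' = Nat.card ↥V := card_map_cj V h
      have hcardY' : Nat.card ↥Y' = Nat.card ↥V := (card_map_cj Y k).trans hcardY
      have hV'D : D V' := hDcj h hh V hD
      have hY'D : D Y' := hDcj k hk Y hYD
      have hV'ne : V' ≠ P := fun e => hVP (Subgroup.eq_of_le_of_card_ge hV (by rw [← hcard', e]))
      have hY'ne : Y' ≠ P := fun e => hVP (Subgroup.eq_of_le_of_card_ge hV (by rw [← hcardY', e]))
      have ryx : Fus H (V' : Set G) (y * x) := Fus.mono (le_inf hV'P Subgroup.le_normalizer)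
        (ihR _ inf_le_left (hDup _ _ (le_inf hV'P Subgroup.le_normalizer) inf_le_left hV'D)
          (by have := grow V' hV'P hV'ne; omega) (y * x) (mul_mem (Subgroup.mem_inf.1 hy).1 hxX)
          (hyle.trans inf_le_left))
      have ry : Fus H (Y' : Set G) y⁻¹ := by
        refine ihL Y' hY'P (hFQ.trans (hDQ _ hY'D).1) (hDQ _ hY'D).2
          (hDup _ _ (le_inf hY'P Subgroup.le_normalizer) inf_le_left hY'D)
          (by have := grow Y' hY'P hY'ne; omega) _ (SetLike.coe_subset_coe.2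
            (le_inf hY'P Subgroup.le_normalizer)) y⁻¹ (inv_mem hy) ?_
        rw [cj_image_coe, map_cj_eq_iff.2 (inv_mem (Subgroup.mem_inf.1 hy).2)]
        exact SetLike.coe_subset_coe.2 (le_inf hY'P Subgroup.le_normalizer)
      have r1 : Fus H (V : Set G) (y * x * h) :=
        rh.trans (by rw [cj_image_coe, ← hV'def]; exact ryx)
      have e1 : V.map (cj (y * x * h)) = Y' := by
        rw [← map_map_cj V, ← hV'def, ← map_map_cj V', hxV',
          map_cj_eq_iff.2 (Subgroup.mem_inf.1 hy).2]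
      have r2 : Fus H (V : Set G) (y⁻¹ * (y * x * h)) := r1.trans (by rw [cj_image_coe, e1]; exact ry)
      have e2 : V.map (cj (y⁻¹ * (y * x * h))) = Y' := by
        rw [← map_map_cj V, e1, map_cj_eq_iff.2 (inv_mem (Subgroup.mem_inf.1 hy).2)]
      have rk' : Fus H (Y' : Set G) k⁻¹ := by rw [hY'def, ← cj_image_coe]; exact rk.symm
      have r3 := r2.trans (by rw [cj_image_coe, e2]; exact rk')
      exact r3.congr fun a _ => by rw [hx]; group
    refine ⟨hRm, fun W hW hFW hWQ hWD hWm => ?_⟩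
    by_cases hlt : m + 1 ≤ Nat.card ↥(P ⊓ Subgroup.normalizer (W : Set G))
    · exact ihL W hW hFW hWQ hWD hlt
    obtain ⟨h, hh, hNW, hW'P, hsyl⟩ := exists_extremal hP hW
    have rh : Fus H ((P ⊓ Subgroup.normalizer (W : Set G) : Subgroup G) : Set G) h :=
      hRm _ inf_le_left hWD hWm h hh (hNW.trans inf_le_left)
    set V := W.map (cj h) with hVdef
    set P' := P ⊓ Subgroup.normalizer (V : Set G) with hP'def
    have hFV : F ≤ V := fun f hf => by
      rw [hVdef, mem_map_cj]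
      have := ‹F.Normal›.conj_mem f hf h⁻¹
      rw [inv_inv] at this
      exact hFW this
    have hVQ : ¬ V ≤ Q := fun hle => hWQ (by
      rw [← map_cj_inv_map W h, ← hVdef]
      exact (Subgroup.map_mono hle).trans (map_cj_eq_iff.2 (hXQ (inv_mem hh))).le)
    have hP'D : D P' := hDup _ _ hNW inf_le_left (hDcj h hh _ hWD)
    have hm' : m ≤ Nat.card ↥P' := by
      have := Subgroup.card_le_of_le hNW
      rw [card_map_cj] at this
      exact hWm.trans this
    have hEP' : E ≤ P' := le_inf hEP (d.le_normalizer_of_le (hW'P.trans hPS) hFV)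
    have hX1 : X ⊓ Subgroup.normalizer (V : Set G) < X :=
      lt_of_le_of_ne inf_le_left fun e => hVQ (hQmax V hW'P (inf_eq_left.1 e))
    have hGood : Good H (X ⊓ Subgroup.normalizer (V : Set G)) P' := by
      by_cases hPP : P' = P
      · rw [hPP] at hsyl ⊢
        exact ih _ hX1 P W₀ hsyl hPS hEP (hW₀.mono inf_le_left)
          fun A hA g hg => hN A hA g ⟨(Subgroup.mem_inf.1 hg).1.1, hg.2⟩
      obtain ⟨hFW₁, hW₁P, hW₁Q, hW₁N, hgood⟩ := hW' P' inf_le_left hEP' hP'D
      have hg1 := hgood (X ⊓ Subgroup.normalizer (V : Set G)) inf_le_left hsyl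
      refine ih _ hX1 P' (W' P') hsyl (inf_le_left.trans hPS) hEP' hg1 fun A hA g hg hgA => ?_
      have hle : P' ≤ P ⊓ Subgroup.normalizer (W' P' : Set G) :=
        le_inf inf_le_left ((le_inf hsyl.le Subgroup.le_normalizer).trans hg1.1)
      have hbig : m + 1 ≤ Nat.card ↥(P ⊓ Subgroup.normalizer (W' P' : Set G)) := by
        have h2 : P ⊓ Subgroup.normalizer (P' : Set G) ≤ P ⊓ Subgroup.normalizer (W' P' : Set G) := by
          exact le_inf inf_le_left ((inf_le_inf_right _ hP.le).trans hW₁N)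
        have h3 := grow P' inf_le_left hPP
        have h4 := Subgroup.card_le_of_le h2
        omega
      exact ihL (W' P') (hW₁P.trans inf_le_left) hFW₁ hW₁Q (hDup _ _ hle inf_le_left hP'D) hbig
        A (hA.trans hle) g ⟨(Subgroup.mem_inf.1 hg).1.1, hg.2⟩ (hgA.trans hle)
    intro A hA g hg hgA
    obtain ⟨hgX, hgN⟩ := Subgroup.mem_inf.1 hg
    have hg' : h * g * h⁻¹ ∈ X ⊓ Subgroup.normalizer (V : Set G) := by
      refine Subgroup.mem_inf.2 ⟨mul_mem (mul_mem hh hgX) (inv_mem hh), ?_⟩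
      rw [hVdef, ← map_cj_normalizer]
      exact ⟨g, hgN, rfl⟩
    have hA' : cj h '' A ⊆ P' := by
      rintro _ ⟨a, ha, rfl⟩
      exact hNW ⟨a, hA ha, rfl⟩
    have hgA' : cj (h * g * h⁻¹) '' (cj h '' A) ⊆ P' := by
      rintro _ ⟨_, ⟨a, ha, rfl⟩, rfl⟩
      have : cj (h * g * h⁻¹) (cj h a) = cj h (cj g a) := by simp only [cj_apply]; group
      rw [this]
      exact hNW ⟨_, hgA ⟨a, ha, rfl⟩, rfl⟩
    have r1 := (Fus.mono hA rh).trans (hGood _ hA' _ hg' hgA')
    have r2 := (Fus.mono hgA rh).symm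
    have hset : cj h '' (cj g '' A) = cj (h * g * h⁻¹ * h) '' A := by
      rw [cj_image_image, inv_mul_cancel_right]
    rw [hset] at r2
    exact (r1.trans r2).congr fun a _ => by group

end Cfsg.Agent.FusionFp
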