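import Cfsg.Agent.Lib.PStable.DicksonMain

/-!
The normalised case of Dickson's theorem, with the data of the exceptional case.
-/

set_option autoImplicit false
set_option linter.style.haveILetI false
set_option linter.unusedVariables false
set_option maxHeartbeats 800000

namespace Cfsg.Agent.FusionFp

open Cfsg.Agent Cfsg.Agent.PStable
open Matrix
open scoped Pointwise

variable {F : Type*} [Field F] {p : ℕ} [hp : Fact p.Prime] [CharP F p]

local notation "SL2" => Matrix.SpecialLinearGroup (Fin 2) F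
local notation "M2" => Matrix (Fin 2) (Fin 2) F

theorem normalised_exc [Finite F] (hp2 : p ≠ 2) {H : Subgroup SL2} (hone : (1 : F) ∈ addPart H)
    (hzero : (0 : F) ∈ points H) :
    low 1 ∈ H ∨ (p = 3 ∧ Nat.card (addPart H) = 3 ∧ (points H).ncard = 9 ∧
      (∀ y ∈ H, y ^ p = 1 → ∃ h ∈ H, h⁻¹ * y * h ∈ transPart H) ∧
      ∃ K : Subgroup SL2, K ≤ H ∧ Nat.card K < Nat.card H ∧ HasTwo p K) := by
  classical
  set u : SL2 := upp 1
  have hu : ¬ IsSc u := not_isSc_upp one_ne_zero
  have huH : u ∈ H := hone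
  set q := Nat.card (addPart H) with hq
  set z := Nat.card (scPart H) with hz
  have hz0 : 0 < z := Nat.card_pos
  have hz2 : z = 1 ∨ z = 2 := by have := card_scPart_le H; omega
  -- `q` is a power of `p`
  have hUp : IsPGroup p (transPart H) := fun x => ⟨1, by
    obtain ⟨a, -, ha⟩ := x.2
    apply Subtype.ext
    rw [pow_one, SubmonoidClass.coe_pow, ha, upp_pow_char]; rfl⟩
  obtain ⟨n, hn⟩ := IsPGroup.iff_card.1 hUp
  rw [card_transPart, ← hq] at hn
  have hn0 : n ≠ 0 := fun h0 => by
    rw [h0, pow_zero, hq] at hn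
    have := (Nat.card_eq_one_iff_unique.1 hn).1
    exact one_ne_zero (congrArg Subtype.val
      (Subsingleton.elim (⟨1, hone⟩ : addPart H) ⟨0, (addPart H).zero_mem⟩))
  have hp3 : 3 ≤ p := by have := hp.out.two_le; omega
  have hq3 : 3 ≤ q := hn ▸ hp3.trans (Nat.le_self_pow hn0 p)
  have hqodd : Odd q := hn ▸ (hp.out.odd_of_ne_two hp2).pow
  have hpq : p ∣ q := hn ▸ dvd_pow_self p hn0
  -- orders
  have hcu : Nat.card (cent H u) = z * q := card_cent_upp hp2
  have hle : cent H u ≤ borel H := fun x hx =>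
    ⟨(mem_cent_upp_iff.1 hx).1, (mem_cent_upp_iff.1 hx).2.1⟩
  obtain ⟨d, hd⟩ := Subgroup.card_dvd_of_le hle
  have hdvd := dvd_of_borel hone hd
  rw [hcu] at hd
  have hd0 : 0 < d := Nat.pos_of_ne_zero fun h0 => by
    rw [h0, mul_zero] at hd; exact Nat.card_pos.ne' hd
  obtain ⟨k, hk⟩ := card_dvd_points H
  rw [← hq] at hk
  have hpts : 0 < (points H).ncard := (Set.ncard_pos (Set.toFinite _)).2 ⟨0, hzero⟩
  have hk1 : 1 ≤ k := Nat.pos_of_ne_zero fun h0 => by rw [h0, mul_zero] at hk; omega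
  set N := (points H).ncard + 1 with hN
  have hNk : N = 1 + k * q := by rw [hN, hk]; ring
  have hN4 : 4 ≤ N := by rw [hNk]; nlinarith
  set g := N * (d * q) with hg
  have hH : Nat.card H = g * z := by rw [card_cosets, hd, hg, hN]; ring
  have hpn : ¬ p ∣ N * (d * z) := by
    intro h
    rcases (Nat.Prime.dvd_mul hp.out).1 h with h1 | h1
    · rw [hNk, Nat.dvd_add_left (dvd_mul_of_dvd_right hpq k)] at h1
      exact hp.out.not_dvd_one h1
    · rcases (Nat.Prime.dvd_mul hp.out).1 h1 with h2 | h2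
      · have h3 : p ∣ q - 1 := h2.trans hdvd
        have h4 := Nat.dvd_sub hpq h3
        rw [show q - (q - 1) = 1 by omega] at h4
        exact hp.out.not_dvd_one h4
      · have := Nat.le_of_dvd hz0 h2; omega
  -- elements of order `p` are conjugate into the translations
  have hsyl : ∀ y ∈ H, y ^ p = 1 → ∃ h ∈ H, h⁻¹ * y * h ∈ transPart H := by
    intro y hy hyp
    set U' := (transPart H).subgroupOf H with hU'
    have hUle : transPart H ≤ H := by rintro _ ⟨a, ha, rfl⟩; exact ha
    have hP : IsPGroup p (Subgroup.zpowers (⟨y, hy⟩ : H)) := by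
      rcases (Nat.dvd_prime hp.out).1 (orderOf_dvd_of_pow_eq_one (x := (⟨y, hy⟩ : H)) (n := p)
        (Subtype.ext (by simpa using hyp))) with hi | hi
      · exact IsPGroup.of_card (n := 0) (by rw [Nat.card_zpowers, hi, pow_zero])
      · exact IsPGroup.of_card (n := 1) (by rw [Nat.card_zpowers, hi, pow_one])
    have hidx : Nat.card (H ⧸ U') = N * (d * z) := by
      have h1 := U'.card_eq_card_quotient_mul_card_subgroup
      rw [Nat.card_congr (Subgroup.subgroupOfEquivOfLe hUle).toEquiv, card_transPart, ← hq, hH,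
        hg] at h1
      exact (Nat.eq_of_mul_eq_mul_right (show 0 < q by omega) (by linarith)).symm
    obtain ⟨c, hc⟩ := hP.nonempty_fixed_point_of_prime_not_dvd_card (α := H ⧸ U') (hidx ▸ hpn)
    induction c using QuotientGroup.induction_on with
    | H h =>
      have := hc ⟨_, Subgroup.mem_zpowers _⟩
      change ((⟨y, hy⟩ * h : H) : H ⧸ U') = (h : H ⧸ U') at this
      rw [eq_comm, QuotientGroup.eq, Subgroup.mem_subgroupOf] at this
      exact ⟨h, h.2, by simpa [mul_assoc] using this⟩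
  have htrans_cent : transPart H ≤ cent H u := by
    rintro _ ⟨a, ha, rfl⟩
    exact mem_cent.2 ⟨ha, by rw [upp_mul, upp_mul, add_comm]⟩
  have hcls : ∀ y ∈ H, ¬ IsSc y → Matrix.trace (y : M2) ^ 2 = 4 → y ∈ cls H u := by
    intro y hy hys htr
    have hs : y ^ p ∈ scPart H := ⟨H.pow_mem hy p, pow_isSc_of_trace hp2 htr⟩
    have hs2 : y ^ p * y ^ p = 1 := by
      apply Subtype.ext
      rw [Matrix.SpecialLinearGroup.coe_mul]
      rcases hs.2.eq_or_eq with h | h <;> rw [h] <;> simp
    obtain ⟨h, hh, hmem⟩ := hsyl (y * y ^ p) (H.mul_mem hy hs.1) (by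
      rw [(Commute.self_pow y p).mul_pow]
      obtain ⟨m, hm⟩ := hp.out.odd_of_ne_two hp2
      calc y ^ p * (y ^ p) ^ p = (y ^ p * y ^ p) ^ (m + 1) := by
            rw [← pow_two, ← pow_mul (y ^ p), ← pow_succ']; congr 1; omega
        _ = 1 := by rw [hs2, one_pow])
    refine ⟨hy, hys, h, hh, ?_⟩
    have hsc : y ^ p ∈ cent H u := scPart_le_cent H u hs
    have := (cent H u).mul_mem (htrans_cent hmem) hsc
    rwa [show h⁻¹ * (y * y ^ p) * h * y ^ p = h⁻¹ * y * h by
      rw [mul_assoc (h⁻¹ * (y * y ^ p)), ← hs.2.commute h]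
      simp only [mul_assoc, ← mul_assoc (y ^ p) (y ^ p), hs2, one_mul]] at this
  have hclsu : (cls H u).ncard = z * (N * (q - 1)) := by
    have h1 := cls_card (H := H) hu
    rw [nz_upp_eq_borel hone, hd, hH, Set.ncard_diff (scPart_le_cent H u) (Set.toFinite _),
      ← Nat.card_coe_set_eq, ← Nat.card_coe_set_eq] at h1
    change _ = g * z * (Nat.card (cent H u) - Nat.card (scPart H)) at h1
    rw [hcu, ← hz] at h1
    refine Nat.eq_of_mul_eq_mul_right (show 0 < z * q * d by positivity) (h1.trans ?_)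
    obtain ⟨r, hr⟩ := Nat.exists_eq_add_of_le (show 1 ≤ q by omega)
    rw [hg, hr, show 1 + r - 1 = r by omega, show z * (1 + r) - z = z * r by
      rw [mul_add, mul_one, Nat.add_sub_cancel_left]]
    ring
  have hcut : ∀ {S : ℕ}, z * S + z = g * z → S + 1 = g := fun {S} h =>
    Nat.eq_of_mul_eq_mul_left hz0 (by linarith)
  have hcutle : ∀ {S : ℕ}, z * S + z ≤ g * z → S + 1 ≤ g := fun {S} h =>
    Nat.le_of_mul_le_mul_left (by linarith) hz0
  have hfin : N = q + 1 → low 1 ∈ H := fun h => finish (p := p) hone hzero (by omega)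
  -- the one-class data of an element outside the class of `u`
  have hdata : ∀ y ∈ H, ¬ IsSc y → y ∉ cls H u → ∃ M s t, (s = 1 ∨ s = 2) ∧ 1 ≤ t ∧
      M * (s * (t + 1)) = g ∧ (cls H y).ncard = z * (M * t) ∧
      Nat.card (cent H y) = z * (t + 1) ∧ Nat.card (nz H y) = s * Nat.card (cent H y) :=
    fun y hy hys hyu => exists_class_data hp2 hy hys (fun h => hyu (hcls y hy hys h)) hz.symm hH
  rcases Nat.lt_or_ge d 2 with hd1 | hd2
  · left
    obtain rfl : d = 1 := by omega
    rw [one_mul] at hg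
    obtain ⟨x, hxH, hxs, hxu⟩ : ∃ x ∈ H, ¬ IsSc x ∧ x ∉ cls H u := by
      by_contra hno
      push Not at hno
      have h1 := cls_sum_eq (H := H) [u] (List.pairwise_singleton _ _)
        fun y hy hys => ⟨u, List.mem_singleton.2 rfl, hno y hy hys⟩
      simp only [List.map_cons, List.map_nil, List.sum_cons, List.sum_nil, add_zero] at h1
      rw [hclsu, ← hz, hH] at h1
      have h2 := hcut h1
      have : N * (q - 1) + N = N * q := by
        rw [← Nat.mul_succ, show (q - 1).succ = q by omega]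
      omega
    obtain ⟨M, s, t, hs, ht, hM, hxc, -, -⟩ := hdata x hxH hxs hxu
    have hd12 : Disjoint (cls H u) (cls H x) := cls_disjoint hu hxs hxH hxu
    have hle := cls_sum_le (H := H) [u, x] (by simp [hd12])
    simp only [List.map_cons, List.map_nil, List.sum_cons, List.sum_nil, add_zero] at hle
    rw [hclsu, hxc, ← hz, hH, ← mul_add] at hle
    obtain ⟨rfl, rfl, hq3'⟩ := count_small_one hq3 ht hs hg hM (hcutle hle)
    by_cases hall : ∀ y ∈ H, ¬ IsSc y → y ∈ cls H u ∨ y ∈ cls H x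
    · have h1 := cls_sum_eq (H := H) [u, x] (by simp [hd12]) fun y hy hys => by
        rcases hall y hy hys with h | h
        · exact ⟨u, by simp, h⟩
        · exact ⟨x, by simp, h⟩
      simp only [List.map_cons, List.map_nil, List.sum_cons, List.sum_nil, add_zero] at h1
      rw [hclsu, hxc, ← hz, hH, ← mul_add] at h1
      have h2 := hcut h1
      rw [hq3'] at h2 hg
      exact hfin (by omega)
    · exfalso
      push Not at hall
      obtain ⟨y, hyH, hys, hyu, hyx⟩ := hall
      obtain ⟨M', s', t', hs', ht', hM', hyc, -, -⟩ := hdata y hyH hys hyu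
      have hd13 : Disjoint (cls H u) (cls H y) := cls_disjoint hu hys hyH hyu
      have hd23 : Disjoint (cls H x) (cls H y) := cls_disjoint hxs hys hyH hyx
      have hle3 := cls_sum_le (H := H) [u, x, y] (by simp [hd12, hd13, hd23])
      simp only [List.map_cons, List.map_nil, List.sum_cons, List.sum_nil, add_zero] at hle3
      rw [hclsu, hxc, hyc, ← hz, hH, ← mul_add, ← mul_add] at hle3
      have h3 := hcutle hle3
      obtain ⟨rfl, rfl, -⟩ := count_small_one hq3 ht' hs' hg hM' (by omega)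
      rw [hq3'] at h3 hg
      omega
  -- a torus element of the triangular subgroup
  obtain ⟨t₀, ht₀, ht₀c⟩ : ∃ t₀ ∈ borel H, t₀ ∉ cent H u := SetLike.exists_of_lt
    (lt_of_le_of_ne hle fun h => by
      have := congrArg (fun K : Subgroup SL2 => Nat.card K) h
      simp only [hcu, hd] at this
      nlinarith [show 0 < z * q by positivity])
  have hne : (t₀ : M2) 0 0 ≠ (t₀ : M2) 1 1 := fun h =>
    ht₀c (mem_cent_upp_iff.2 ⟨ht₀.1, ht₀.2, h⟩)
  have ht₀s : ¬ IsSc t₀ := fun h => hne (isSc_iff.1 h).2.2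
  have ht₀u : t₀ ∉ cls H u := by
    rintro ⟨-, -, h, -, hc⟩
    obtain ⟨hcH, hc10, hcd⟩ := mem_cent_upp_iff.1 hc
    have htr := trace_conj h⁻¹ t₀
    rw [inv_inv] at htr
    have hdc := det_one (h⁻¹ * t₀ * h)
    rw [hc10, mul_zero, sub_zero, ← hcd] at hdc
    rw [Matrix.trace_fin_two, Matrix.trace_fin_two, ← hcd] at htr
    have hdt := det_one t₀
    rw [ht₀.2, mul_zero, sub_zero] at hdt
    refine hne (sub_eq_zero.1 (mul_self_eq_zero.1 ?_))
    linear_combination -((t₀ : M2) 0 0 + (t₀ : M2) 1 1 +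
      2 * ((h⁻¹ * t₀ * h : SL2) : M2) 0 0) * htr + 4 * hdc - 4 * hdt
  have htc : Nat.card (cent H t₀) = z * d := by
    have h1 := card_cent_torus ht₀ hne
    rw [hd, ← hq] at h1
    exact Nat.eq_of_mul_eq_mul_left (show 0 < q by omega) (by linarith)
  obtain ⟨M1, s1, t1, hs1, ht1, hM1, hc1, hct1, hnt1⟩ := hdata t₀ ht₀.1 ht₀s ht₀u
  rw [htc] at hct1
  obtain rfl : d = t1 + 1 := Nat.eq_of_mul_eq_mul_left hz0 hct1
  have hd12 : Disjoint (cls H u) (cls H t₀) := cls_disjoint hu ht₀s ht₀.1 ht₀u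
  by_cases hall : ∀ y ∈ H, ¬ IsSc y → y ∈ cls H u ∨ y ∈ cls H t₀
  · exfalso
    have h1 := cls_sum_eq (H := H) [u, t₀] (by simp [hd12]) fun y hy hys => by
      rcases hall y hy hys with h | h
      · exact ⟨u, by simp, h⟩
      · exact ⟨t₀, by simp, h⟩
    simp only [List.map_cons, List.map_nil, List.sum_cons, List.sum_nil, add_zero] at h1
    rw [hclsu, hc1, ← hz, hH, ← mul_add] at h1
    have h2 := hcut h1
    have hM1' : M1 * s1 = N * q := Nat.eq_of_mul_eq_mul_right (show 0 < t1 + 1 by omega) (by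
      rw [mul_assoc, hM1, hg]; ring)
    obtain ⟨r, hr⟩ := Nat.exists_eq_add_of_le (show 1 ≤ q by omega)
    rw [hg, hr, show 1 + r - 1 = r by omega] at h2
    rw [hr] at hM1'
    rcases hs1 with rfl | rfl <;> nlinarith
  push Not at hall
  obtain ⟨x, hxH, hxs, hxu, hxt⟩ := hall
  obtain ⟨M, s, t, hs, ht, hM, hxc, hxcent, -⟩ := hdata x hxH hxs hxu
  have hd13 : Disjoint (cls H u) (cls H x) := cls_disjoint hu hxs hxH hxu
  have hd23 : Disjoint (cls H t₀) (cls H x) := cls_disjoint ht₀s hxs hxH hxt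
  have hle3 := cls_sum_le (H := H) [u, t₀, x] (by simp [hd12, hd13, hd23])
  simp only [List.map_cons, List.map_nil, List.sum_cons, List.sum_nil, add_zero] at hle3
  rw [hclsu, hc1, hxc, ← hz, hH, ← mul_add, ← mul_add] at hle3
  have hle3' : N * (q - 1) + M1 * t1 + M * t + 1 ≤ g := by have := hcutle hle3; omega
  have hd' : t1 + 1 - 1 = t1 := by omega
  rcases hs1 with rfl | rfl
  · exfalso
    rw [one_mul] at hM1
    have := count_split_one hq3 hd2 ht hg hM1 hs hM
    rw [hd'] at this
    omega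
  rcases hs with rfl | rfl
  · exfalso
    rw [one_mul] at hM
    have := count_half (M := M) (t := t) hq3 hd2 (by omega) hg hM1 (by rw [← hM]; nlinarith)
    rw [hd'] at this
    omega
  by_cases hall : ∀ y ∈ H, ¬ IsSc y → y ∈ cls H u ∨ y ∈ cls H t₀ ∨ y ∈ cls H x
  · have h1 := cls_sum_eq (H := H) [u, t₀, x] (by simp [hd12, hd13, hd23]) fun y hy hys => by
      rcases hall y hy hys with h | h | h
      · exact ⟨u, by simp, h⟩
      · exact ⟨t₀, by simp, h⟩
      · exact ⟨x, by simp, h⟩
    simp only [List.map_cons, List.map_nil, List.sum_cons, List.sum_nil, add_zero] at h1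
    rw [hclsu, hc1, hxc, ← hz, hH, ← mul_add, ← mul_add] at h1
    have h2 := hcut h1
    rcases count_final hq3 hd2 hdvd hqodd hNk hk1 hg hM1 hM (by rw [hd']; omega) with h | ⟨h3, hd2', h60, ht4⟩
    · exact Or.inl (hfin h)
    · right
      obtain rfl : t1 = 1 := by omega
      subst ht4
      have hp3' : p = 3 :=
        (Nat.prime_dvd_prime_iff_eq hp.out Nat.prime_three).1 (h3 ▸ hpq)
      obtain ⟨K, hKH, hK, h⟩ := exists_small (p := p) hone hz.symm hz2 (by rw [hH, h60]) hp3'
        ht₀.1 ht₀s htc (by rw [hnt1, htc]; ring) (by rw [hcu, h3]) hxcent hall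
        (fun y hy hyp hys => hcls y hy hys (by rw [trace_of_pow_char hyp]; norm_num))
      exact ⟨hp3', h3, by
        have : g = 60 := h60
        rw [hg, h3] at this
        omega, hsyl, K, hKH, hK, h⟩
  · exfalso
    push Not at hall
    obtain ⟨y, hyH, hys, hyu, hyt, hyx⟩ := hall
    obtain ⟨M', s', t', hs', ht', hM', hyc, -, -⟩ := hdata y hyH hys hyu
    have hd14 : Disjoint (cls H u) (cls H y) := cls_disjoint hu hys hyH hyu
    have hd24 : Disjoint (cls H t₀) (cls H y) := cls_disjoint ht₀s hys hyH hyt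
    have hd34 : Disjoint (cls H x) (cls H y) := cls_disjoint hxs hys hyH hyx
    have hle4 := cls_sum_le (H := H) [u, t₀, x, y] (by simp [hd12, hd13, hd23, hd14, hd24, hd34])
    simp only [List.map_cons, List.map_nil, List.sum_cons, List.sum_nil, add_zero] at hle4
    rw [hclsu, hc1, hxc, hyc, ← hz, hH, ← mul_add, ← mul_add, ← mul_add] at hle4
    have h4 := hcutle hle4
    have := count_half (M := 1) (t := M * t + M' * t') hq3 hd2 (by omega) hg hM1 (by
      rw [one_mul]
      have a1 : M * (2 * (t + 1)) ≤ M * (4 * t) := Nat.mul_le_mul_left _ (by omega)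
      have a2 : M' * (s' * (t' + 1)) ≤ M' * (4 * t') :=
        Nat.mul_le_mul_left _ (by rcases hs' with rfl | rfl <;> omega)
      rw [hM] at a1
      rw [hM'] at a2
      linarith)
    rw [hd', one_mul] at this
    omega

end Cfsg.Agent.FusionFp
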