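import Cfsg.Agent.Lib.FusionFp.Dickson

/-!
Two unipotent generators of a subgroup of `SL₂` whose proper pairs are all triangular: the group is
defined over the prime field, and a second such representation has the same parameter.
-/

set_option autoImplicit false
set_option linter.style.haveILetI false

namespace Cfsg.Agent.FusionFp

open Cfsg.Agent Cfsg.Agent.PStable
open Matrix

variable {F : Type*} [Field F] {p : ℕ} [hp : Fact p.Prime] [hcp : CharP F p]

local notation "SL2" => Matrix.SpecialLinearGroup (Fin 2) F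
local notation "M2" => Matrix (Fin 2) (Fin 2) F
local notation "SL2p" => Matrix.SpecialLinearGroup (Fin 2) (ZMod p)

variable {K : Type*} [Group K] {φ : K →* Matrix.SpecialLinearGroup (Fin 2) F} {a : K}

omit hcp hp in
theorem shift_one_zero (r : F) (x : SL2) : ((upp r)⁻¹ * x * upp r : SL2).1 1 0 = x.1 1 0 := by
  simp [upp_inv, upp_val, Matrix.mul_apply, Matrix.vecMul, dotProduct, Fin.sum_univ_two]

omit hcp hp in
/-- Shifting the coordinates by a translation. -/
theorem exists_shift (φ : K →* SL2) (r : F) :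
    ∃ φ' : K →* SL2, (∀ x, φ' x = (upp r)⁻¹ * φ x * upp r) ∧
      ∀ x, (φ' x).1 1 0 = (φ x).1 1 0 := by
  refine ⟨((MulAut.conj (upp r : SL2)⁻¹).toMonoidHom).comp φ, fun x => by simp, fun x => ?_⟩
  have h : ((MulAut.conj (upp r : SL2)⁻¹).toMonoidHom.comp φ) x = (upp r)⁻¹ * φ x * upp r := by simp
  rw [h, shift_one_zero]

omit hcp hp in
theorem shift_upp (r : F) : ((upp r : SL2))⁻¹ * upp 1 * upp r = upp 1 := by
  rw [upp_inv, upp_mul, upp_mul, neg_add_eq_sub, sub_add_cancel]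

include hp hcp in
/-- A generating pair `upp 1`, `g (upp 1) g⁻¹` with `g₁₀` in the prime field. -/
theorem c_mem_prime_of_pair (hφa : φ a = upp 1) {k : K}
    (hgen : Subgroup.closure ({a, k * a * k⁻¹} : Set K) = ⊤) (hC0 : (φ k).1 1 0 ≠ 0)
    (hC : ∃ n : ℕ, (φ k).1 1 0 = n) (x : K) : ∃ n : ℕ, (φ x).1 1 0 = n := by
  obtain ⟨n, hn⟩ := hC
  obtain ⟨φ', hφ', hc⟩ := exists_shift φ ((φ k).1 0 0 / (φ k).1 1 0)
  set Ψ : Matrix.SpecialLinearGroup (Fin 2) (ZMod p) →* Matrix.SpecialLinearGroup (Fin 2) F :=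
    Matrix.SpecialLinearGroup.map (ZMod.castHom dvd_rfl F) with hΨ
  have ha' : φ' a ∈ Ψ.range := ⟨upp 1, Subtype.ext (by
    rw [hφ', hφa, shift_upp]
    apply ext2 <;> simp [hΨ, upp_val])⟩
  have h00 : (φ' k).1 0 0 = 0 := by
    rw [hφ']
    simp [upp_inv, upp_val, Matrix.mul_apply, Matrix.vecMul, dotProduct, Fin.sum_univ_two, div_mul_cancel₀ _ hC0]
  have hb' : φ' (k * a * k⁻¹) ∈ Ψ.range := ⟨low (-(n : ZMod p) ^ 2), Subtype.ext (by
    have hd := det_one (φ' k)
    rw [h00, zero_mul, zero_sub, hc, hn] at hd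
    rw [map_mul, map_mul, map_inv, hφ' a, hφa, shift_upp]
    apply ext2 <;>
      simp [hΨ, upp_val, low_val, Matrix.SpecialLinearGroup.coe_inv, Matrix.adjugate_fin_two,
        Matrix.mul_apply, Fin.sum_univ_two, h00, hc, hn] <;>
      first | ring1 | linear_combination hd | linear_combination -hd | linear_combination (n : F) * hd |
        linear_combination -(n : F) * hd)⟩
  have hall : (φ' x) ∈ Ψ.range := by
    have hx : x ∈ Subgroup.closure ({a, k * a * k⁻¹} : Set K) := hgen ▸ Subgroup.mem_top x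
    exact (Subgroup.closure_le (Ψ.range.comap φ')).2
      (by rintro y (rfl | rfl) <;> assumption) hx
  obtain ⟨M, hM⟩ := hall
  refine ⟨(M.1 1 0).val, ?_⟩
  rw [← hc x, ← hM]
  simp [hΨ]

variable [Finite F]

theorem mem_transPart_prime {H : Subgroup SL2} (hone : (1 : F) ∈ addPart H)
    (hcard : Nat.card (addPart H) = p) {i : F} (hi : i ∈ addPart H) (hi0 : i ≠ 0) :
    (upp 1 : SL2) ∈ Subgroup.zpowers (upp i) := by
  have hle : ∀ j : F, j ∈ addPart H → ∃ n : ℕ, j = n := by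
    intro j hj
    have h1 : AddSubgroup.zmultiples (1 : F) = addPart H := by
      refine AddSubgroup.eq_of_le_of_card_ge (AddSubgroup.zmultiples_le_of_mem hone) ?_
      rw [hcard, Nat.card_zmultiples]
      exact le_of_eq (CharP.eq F (ringChar.of_eq (ringChar.eq F p)) (CharP.addOrderOf_one F) )
    rw [← h1] at hj
    obtain ⟨m, hm⟩ := AddSubgroup.mem_zmultiples_iff.1 hj
    refine ⟨((m : ℤ) : ZMod p).val, ?_⟩
    rw [← hm, zsmul_one]
    have := congrArg (ZMod.castHom dvd_rfl F) (ZMod.natCast_zmod_val ((m : ℤ) : ZMod p))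
    rw [map_natCast, map_intCast] at this
    exact this.symm
  obtain ⟨n, rfl⟩ := hle i hi
  have hn : (n : ZMod p) ≠ 0 := fun h => hi0 (by
    have := congrArg (ZMod.castHom dvd_rfl F) h
    rwa [map_natCast, map_zero] at this)
  refine ⟨((n : ZMod p)⁻¹.val : ℤ), ?_⟩
  show (upp (n : F)) ^ (((n : ZMod p)⁻¹.val : ℤ)) = upp 1
  rw [zpow_natCast, upp_pow]
  congr 1
  have := congrArg (ZMod.castHom dvd_rfl F) (inv_mul_cancel₀ hn)
  rw [map_mul, map_natCast, map_one, ← ZMod.natCast_zmod_val ((n : ZMod p)⁻¹), map_natCast] at this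
  exact this

/-- If every pair based at `a` with `g₁₀ ≠ 0` generates, the parameter is in the prime field. -/
theorem prime_of_min (hp2 : p ≠ 2) (hφa : φ a = upp 1) {b : K} (hb : (φ b).1 1 0 ≠ 0)
    (hmin : ∀ k : K, (φ k).1 1 0 ≠ 0 → Subgroup.closure ({a, k * a * k⁻¹} : Set K) = ⊤)
    (x : K) : ∃ n : ℕ, (φ x).1 1 0 = n := by
  classical
  obtain ⟨φ', hφ', hc⟩ := exists_shift φ ((φ b).1 0 0 / (φ b).1 1 0)
  have hφ'a : φ' a = upp 1 := by rw [hφ', hφa, shift_upp]
  have hone : (1 : F) ∈ addPart φ'.range := ⟨a, hφ'a⟩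
  have hzero : (0 : F) ∈ points φ'.range := by
    refine ⟨φ' b, ⟨b, rfl⟩, by rw [hc]; exact hb, ?_⟩
    rw [hφ']
    simp [upp_inv, upp_val, Matrix.mul_apply, Matrix.vecMul, dotProduct, Fin.sum_univ_two, div_mul_cancel₀ _ hb]
  rcases normalised_exc hp2 hone hzero with ⟨k, hk⟩ | ⟨hp3, hadd, -, hsyl, K', hK', hlt, hK2⟩
  · have hk1 : (φ k).1 1 0 = 1 := by rw [← hc, hk]; simp [low_val]
    exact c_mem_prime_of_pair hφa (hmin k (by rw [hk1]; exact one_ne_zero))
      (by rw [hk1]; exact one_ne_zero) ⟨1, by rw [hk1, Nat.cast_one]⟩ x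
  · exfalso
    obtain ⟨u, huK, v, hvK, hup, hvp, huv⟩ := hK2
    obtain ⟨h, hh, i, hi, hui⟩ := hsyl u (hK' huK) hup
    obtain ⟨h', hh', j, hj, hvj⟩ := hsyl v (hK' hvK) hvp
    have hu : u = h * upp i * h⁻¹ := by rw [← hui]; group
    have hv : v = h' * upp j * h'⁻¹ := by rw [← hvj]; group
    have hi0 : i ≠ 0 := fun e => huv (by rw [hu, e, upp_zero]; group)
    have hj0 : j ≠ 0 := fun e => huv (by rw [hv, e, upp_zero]; group)
    obtain ⟨g, hg⟩ : h⁻¹ * h' ∈ φ'.range := mul_mem (inv_mem hh) hh'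
    have hvu : h⁻¹ * v * h = φ' g * upp j * (φ' g)⁻¹ := by rw [hv, hg]; group
    have hgc : (φ g).1 1 0 ≠ 0 := by
      intro h0
      rw [← hc] at h0
      have hgb : φ' g ∈ borel φ'.range := ⟨⟨g, rfl⟩, h0⟩
      refine huv ?_
      have e : upp i * (h⁻¹ * v * h) = h⁻¹ * v * h * upp i := by
        rw [hvu, borel_conj_upp hgb, upp_mul, upp_mul, add_comm]
      calc u * v = h * (upp i * (h⁻¹ * v * h)) * h⁻¹ := by rw [hu]; group
        _ = v * u := by rw [e, hu]; group
    have hadd' : Nat.card (addPart φ'.range) = p := by rw [hadd, hp3]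
    have h1 : φ'.range ≤ K'.map (MulAut.conj h⁻¹).toMonoidHom := by
      rw [MonoidHom.range_eq_map, ← hmin g hgc, MonoidHom.map_closure, Subgroup.closure_le]
      have hmem : ∀ y ∈ K', h⁻¹ * y * h ∈ K'.map (MulAut.conj h⁻¹).toMonoidHom :=
        fun y hy => ⟨y, hy, by simp⟩
      rintro _ ⟨y, hy, rfl⟩
      rcases hy with rfl | rfl
      · have h2 := hmem u huK
        rw [hui] at h2
        rw [hφ'a]
        exact (Subgroup.zpowers_le.2 h2) (mem_transPart_prime hone hadd' hi hi0)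
      · rw [map_mul, map_mul, map_inv φ', hφ'a]
        obtain ⟨m, hm⟩ := Subgroup.mem_zpowers_iff.1 (mem_transPart_prime hone hadd' hj hj0)
        rw [← hm, ← conj_zpow, ← hvu]
        exact Subgroup.zpow_mem _ (hmem v hvK) m
    have h2 := Subgroup.card_le_of_le h1
    rw [Subgroup.card_map_of_injective (MulAut.conj h⁻¹).injective] at h2
    omega

theorem index_borel_comap (ψ : K →* SL2) (B : Subgroup K)
    (hB : ∀ k, k ∈ B ↔ (ψ k).1 1 0 = 0) : B.index = (points ψ.range).ncard + 1 := by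
  have he : B = ((borel ψ.range).subgroupOf ψ.range).comap ψ.rangeRestrict := by
    ext k
    rw [hB, Subgroup.mem_comap, Subgroup.mem_subgroupOf]
    exact ⟨fun h => ⟨⟨k, rfl⟩, h⟩, fun h => h.2⟩
  rw [he, Subgroup.index_comap_of_surjective _ ψ.rangeRestrict_surjective]
  have h1 := card_cosets ψ.range
  have h2 := ((borel ψ.range).subgroupOf ψ.range).card_mul_index
  rw [Nat.card_congr (Subgroup.subgroupOfEquivOfLe
    (show borel ψ.range ≤ ψ.range from fun x hx => hx.1)).toEquiv, h1, mul_comm] at h2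
  exact Nat.eq_of_mul_eq_mul_right Nat.card_pos h2

variable [Finite K] in
/-- A second representation of a minimal pair has parameter `-1`. -/
theorem param_eq_neg_one (hp2 : p ≠ 2) (φ₁ : K →* SL2p) {b : K} (h1a : φ₁ a = upp 1)
    (h1b : φ₁ b = low (-1)) (hgen : Subgroup.closure ({a, b} : Set K) = ⊤)
    (hφa : φ a = upp 1) {μ : F} (hμ : μ ≠ 0) (hφb : φ b = low μ)
    (hmin : ∀ k : K, (φ₁ k).1 1 0 ≠ 0 → Subgroup.closure ({a, k * a * k⁻¹} : Set K) = ⊤) :
    μ = -1 := by
  classical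
  have hbμ : (φ b).1 1 0 = μ := by rw [hφb]; simp [low_val]
  -- nonzero parameter in one representation, nonzero in the other
  have htrans : ∀ k : K, (φ₁ k).1 1 0 ≠ 0 → (φ k).1 1 0 ≠ 0 := by
    intro k hk h0
    refine hμ (hbμ ▸ ?_)
    have hb : b ∈ Subgroup.closure ({a, k * a * k⁻¹} : Set K) := hmin k hk ▸ Subgroup.mem_top b
    have h := (Subgroup.closure_le ((borel φ.range).comap φ)).2 (by
      rintro y (rfl | rfl)
      · exact ⟨⟨_, rfl⟩, by rw [hφa]; simp [upp_val]⟩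
      · refine Subgroup.mul_mem _ (Subgroup.mul_mem _ ?_ ?_) (Subgroup.inv_mem _ ?_)
        · exact ⟨⟨_, rfl⟩, h0⟩
        · exact ⟨⟨_, rfl⟩, by rw [hφa]; simp [upp_val]⟩
        · exact ⟨⟨_, rfl⟩, h0⟩) hb
    exact h.2
  -- prime field
  obtain ⟨n, hn⟩ : ∃ n : ℕ, μ = n := by
    obtain ⟨φ', hφ', hc⟩ := exists_shift φ μ⁻¹
    have hφ'a : φ' a = upp 1 := by rw [hφ', hφa, shift_upp]
    have hφ'b : (φ' b).1 = !![0, -μ⁻¹; μ, 2] := by
      rw [hφ', hφb]
      apply ext2 <;> simp [upp_inv, upp_val, low_val, Matrix.mul_apply, Fin.sum_univ_two, hμ] <;>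
        field_simp <;> ring
    have hone : (1 : F) ∈ addPart φ'.range := ⟨a, hφ'a⟩
    have hzero : (0 : F) ∈ points φ'.range :=
      ⟨φ' b, ⟨b, rfl⟩, by rw [hφ'b]; simpa using hμ, by rw [hφ'b]; simp⟩
    rcases normalised_exc hp2 hone hzero with ⟨k, hk⟩ | ⟨hp3, -, hpts, -⟩
    · by_cases hk1 : (φ₁ k).1 1 0 = 0
      · set l := b * a⁻¹ * k with hl
        have hc2 : (φ l).1 1 0 = 2 := by
          rw [← hc, hl, map_mul, map_mul, map_inv, hφ'a, hk, upp_inv]
          simp [hφ'b, upp_val, low_val, Matrix.mul_apply, Fin.sum_univ_two]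
        have hc1 : (φ₁ l).1 1 0 ≠ 0 := by
          have hd := det_one (φ₁ k)
          rw [hk1, mul_zero, sub_zero] at hd
          rw [hl, map_mul, map_mul, map_inv, h1a, h1b, upp_inv]
          simp [upp_val, low_val, Matrix.mul_apply, Fin.sum_univ_two, hk1]
          intro h0
          rw [h0, zero_mul] at hd
          exact zero_ne_one hd
        obtain ⟨m, hm⟩ := c_mem_prime_of_pair hφa (hmin l hc1)
          (by rw [hc2]; exact two_ne_zero' hp2) ⟨2, by rw [hc2, Nat.cast_ofNat]⟩ b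
        exact ⟨m, by rw [← hbμ, hm]⟩
      · have hk2 : (φ k).1 1 0 = 1 := by rw [← hc, hk]; simp [low_val]
        obtain ⟨m, hm⟩ := c_mem_prime_of_pair hφa (hmin k hk1)
          (by rw [hk2]; exact one_ne_zero) ⟨1, by rw [hk2, Nat.cast_one]⟩ b
        exact ⟨m, by rw [← hbμ, hm]⟩
    · exfalso
      let B₁ : Subgroup K := (borel φ₁.range).comap φ₁
      let B₂ : Subgroup K := (borel φ'.range).comap φ'
      have hB₁ : ∀ k, k ∈ B₁ ↔ (φ₁ k).1 1 0 = 0 := fun k => ⟨fun h => h.2, fun h => ⟨⟨k, rfl⟩, h⟩⟩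
      have hB₂ : ∀ k, k ∈ B₂ ↔ (φ' k).1 1 0 = 0 := fun k => ⟨fun h => h.2, fun h => ⟨⟨k, rfl⟩, h⟩⟩
      have hle : B₂ ≤ B₁ := fun k hk => (hB₁ k).2 (by
        by_contra h
        exact htrans k h (hc k ▸ (hB₂ k).1 hk))
      have huniv : points φ₁.range = Set.univ := by
        refine Set.eq_univ_of_forall fun r => ⟨φ₁ (a ^ (1 + r).val * b), ⟨_, rfl⟩, ?_, ?_⟩ <;>
          rw [map_mul, map_pow, h1a, h1b, upp_pow] <;>
          simp [upp_val, low_val, Matrix.mul_apply, Fin.sum_univ_two]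
      have h := Subgroup.index_dvd_of_le hle
      rw [index_borel_comap φ₁ B₁ hB₁, index_borel_comap φ' B₂ hB₂, huniv, Set.ncard_univ,
        Nat.card_zmod, hpts, hp3] at h
      norm_num at h
  by_contra hne
  have hn0 : (n : ZMod p) ≠ 0 := fun h => hμ (by
    have := congrArg (ZMod.castHom dvd_rfl F) h
    rw [map_natCast, map_zero] at this
    rw [hn, this])
  set x : ZMod p := -2 / (n : ZMod p) with hx
  have hxn : x * n = -2 := by rw [hx, div_mul_cancel₀ _ hn0]
  set k := b * a ^ x.val * b with hk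
  have hc1 : (φ₁ k).1 1 0 ≠ 0 := by
    rw [hk, map_mul, map_mul, map_pow, h1a, h1b, upp_pow]
    simp [upp_val, low_val, Matrix.mul_apply, Fin.sum_univ_two]
    intro h0
    have hx2 : x = 2 := by linear_combination h0
    rw [hx2] at hxn
    refine hne ?_
    have h3 : (n : ZMod p) = -1 := mul_left_cancel₀ (two_ne_zero' hp2) (by linear_combination hxn)
    have := congrArg (ZMod.castHom dvd_rfl F) h3
    rw [map_natCast, map_neg, map_one] at this
    rw [hn, this]
  refine htrans k hc1 ?_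
  have hxF : (x.val : F) * μ = -2 := by
    have := congrArg (ZMod.castHom dvd_rfl F) hxn
    rw [← ZMod.natCast_zmod_val x, map_mul, map_natCast, map_natCast, map_neg, map_ofNat] at this
    rw [hn, this]
  clear_value x
  rw [hk, map_mul, map_mul, map_pow, hφa, hφb, upp_pow]
  rw [ZMod.natCast_val] at hxF
  simp [upp_val, low_val, Matrix.mul_apply, Fin.sum_univ_two]
  linear_combination μ * hxF

end Cfsg.Agent.FusionFp
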