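import Cfsg.Agent.Lib.FusionFp.CaseTwo
import Cfsg.Agent.Lib.Solvable.Structure
import Cfsg.Agent.Lib.Fusion.ModelLocal

/-!
Failure of `Z(J(S))` to control strong fusion.
-/

set_option autoImplicit false
set_option linter.style.haveILetI false

open scoped commutatorElement

namespace Cfsg.Agent.FusionFp

open Cfsg.Agent
open Cfsg.Agent.Functors

variable {G : Type*} [Group G] [Finite G] {p : ℕ} [hp : Fact p.Prime]

/-- The section and the element of order `p`. -/
def Wit (p : ℕ) [Fact p.Prime] (H Z : Subgroup G) : Prop :=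
  Cfsg.Involves ↥(Cfsg.fOver (ZMod p)) ↥H ∧
    ∃ g ∈ H, ∃ c ∈ Z, ∃ k : ℕ, orderOf c = p ∧ orderOf (k : ZMod p) = p - 1 ∧
      g * c * g⁻¹ = c ^ k

/-- Induction over the subgroups of `G`. -/
theorem good_of_no_data (hp2 : p ≠ 2) {S F E H : Subgroup G} (d : Setup p S F E H) [F.Normal]
    (hno : ∀ (B : Subgroup G) (h e : G) (lam : (ZMod p)ˣ), ¬ HData p S F E H B h e lam) :
    ∀ (n : ℕ) (X P W₀ : Subgroup G), Nat.card X ≤ n → IsSylowIn p P X → P ≤ S → E ≤ P →
      GoodW p F E X P W₀ → Good H (X ⊓ Subgroup.normalizer (W₀ : Set G)) P → Good H X P := by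
  intro n
  induction n with
  | zero => intro X P W₀ hX; exact absurd hX (not_le.2 Nat.card_pos)
  | succ n ihn =>
    intro X P W₀ hX hP hPS hEP hW₀ hN
    have ih : ∀ X₁ < X, ∀ P₁ W₁ : Subgroup G, IsSylowIn p P₁ X₁ → P₁ ≤ S → E ≤ P₁ →
        GoodW p F E X₁ P₁ W₁ → Good H (X₁ ⊓ Subgroup.normalizer (W₁ : Set G)) P₁ → Good H X₁ P₁ := by
      intro X₁ hlt P₁ W₁
      refine ihn X₁ P₁ W₁ ?_
      have := Set.ncard_lt_ncard (SetLike.coe_ssubset_coe.2 hlt) (Set.toFinite _)
      rw [← Nat.card_coe_set_eq, ← Nat.card_coe_set_eq] at this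
      exact Nat.lt_succ_iff.1 (lt_of_lt_of_le this hX)
    by_cases hEQ : E ≤ opIn p X
    · exact good_case_two hp2 d hP hPS hEP hW₀ hN hEQ hno ih
    · exact good_case_one hp2 d hP hPS hEP hW₀ hN hEQ ih

/-- The Thompson subgroup of `S` is good. -/
theorem goodW_jSub (hp2 : p ≠ 2) (S : Sylow p G) {F E H : Subgroup G}
    (d : Setup p (S : Subgroup G) F E H) [F.Normal] (hEZ : E ≤ ZJ.zJ p False (S : Subgroup G)) :
    GoodW p F E ⊤ S (ZJ.jSub p False (S : Subgroup G)) := by
  refine ⟨inf_le_right.trans (ZJ.normalizer_le_normalizer_jSub _), fun Y _ hSY hclo => ?_⟩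
  have hPY : IsSylowIn p (S : Subgroup G) Y := (isSylowIn_sylow S).of_le hSY le_top
  set B := clo E Y
  have hBS : B ≤ S := le_of_normalized hPY hclo (clo_le_self (d.E_le.trans hSY)) (le_normalizer_clo E Y)
  have hBK : B ≤ ker F E Y := le_ker d hBS (hBS.trans hSY) (le_normalizer_clo E Y)
  rcases ZJ.exists_isMaxIn p False (S : Subgroup G) with ⟨A₀, -⟩
  rcases jSub_alternative hp2 (K := ker F E Y) S.isPGroup' hBS
      (fun s hs => le_normalizer_clo E Y (hSY hs))
      (fun A hA => by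
        refine le_trans ?_ ((d.F_le.trans hEZ).trans ((ZJ.zCore_eq_zJ (p := p) (e := False) not_false _).ge.trans
          (ZJ.zCore_le_of_isMaxIn hA)))
        rw [Subgroup.commutator_le]
        intro x hx y hy
        exact (mem_ker.1 (hBK hx)).2 y hy)
      (fun hJ => by
        have hcen : E ≤ Subgroup.centralizer (ZJ.jSub p False ((S : Subgroup G) ⊓ ker F E Y) : Set G) :=
          (hEZ.trans inf_le_right).trans (Subgroup.centralizer_le (SetLike.coe_subset_coe.2 hJ))
        refine clo_le_of_frattini (F := F) (E := E) (Y := Y) hPY (d.F_le.trans hcen) fun n hn x hx => ?_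
        exact (Subgroup.mem_normalizer_iff.1 (normalizer_le_normalizer_centralizer _
          (ZJ.normalizer_le_normalizer_jSub _ (Subgroup.mem_inf.1 hn).2)) x).1 (hcen hx)) with h | ⟨a, ha, haK, hq⟩
  · left
    intro n hn
    rw [← h]
    exact ZJ.normalizer_le_normalizer_jSub _ (Subgroup.mem_inf.1 hn).2
  · exact Or.inr ⟨a, ha, haK, fun b hb => by rw [hq b hb]; exact one_mem F⟩

/-- Either `N(Z(J(S)))` realizes all fusion in `S`, or there is a witness. -/
theorem good_or_wit (hp2 : p ≠ 2) : ∀ (n : ℕ) {G : Type*} [Group G] [Finite G], Nat.card G ≤ n →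
    ∀ S : Sylow p G,
      Good (Subgroup.normalizer ((ZJ.zJ p False (S : Subgroup G)) : Set G)) ⊤ (S : Subgroup G) ∨
        Wit p (Subgroup.normalizer ((ZJ.zJ p False (S : Subgroup G)) : Set G))
          (ZJ.zJ p False (S : Subgroup G)) := by
  intro n
  induction n with
  | zero => intro G _ _ h; exact absurd h (not_le.2 Nat.card_pos)
  | succ n ihn =>
    intro G _ _ hn S
    classical
    set Z := ZJ.zJ p False (S : Subgroup G) with hZdef
    set H := Subgroup.normalizer (Z : Set G) with hH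
    by_cases hwit : Wit p H Z
    · exact Or.inr hwit
    left
    set F := Z.normalCore with hF
    by_cases hZF : Z ≤ F
    · intro A _ g _ _
      refine ⟨g, ?_, fun a _ => rfl⟩
      haveI : Z.Normal := by rw [le_antisymm hZF (Subgroup.normalCore_le _)]; exact Subgroup.normalCore_normal _
      rw [hH, Subgroup.normalizer_eq_top_iff.2 inferInstance]
      trivial
    haveI : F.Normal := Subgroup.normalCore_normal _
    have hZS : Z ≤ S := ZJ.zJ_le _
    have hSH : (S : Subgroup G) ≤ H := ZJ.le_normalizer_zJ _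
    have hZc : ∀ x ∈ Z, ∀ y ∈ Z, x * y = y * x := fun x hx y hy => ZJ.zJ_comm hx hy
    set π := QuotientGroup.mk' F with hπ
    -- the subgroup `E`
    obtain ⟨x, hxZ, hxF, hxc, hxp⟩ : ∃ x ∈ Z, x ∉ F ∧ (∀ s ∈ (S : Subgroup G), s * x * s⁻¹ * x⁻¹ ∈ F) ∧
        x ^ p ∈ F := by
      set Sb := (S : Subgroup G).map π
      have hSbp : IsPGroup p Sb := S.isPGroup'.map π
      haveI := hSbp.isNilpotent
      haveI : ((Z.map π).subgroupOf Sb).Normal := Subgroup.normal_subgroupOf_of_le_normalizer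
        (by rintro _ ⟨s, hs, rfl⟩; exact Subgroup.le_normalizer_map π ⟨s, hSH hs, rfl⟩)
      have hne : (Z.map π).subgroupOf Sb ≠ ⊥ := by
        intro h
        refine hZF fun z hz => ?_
        have h1 : (⟨π z, z, hZS hz, rfl⟩ : Sb) ∈ (Z.map π).subgroupOf Sb := ⟨z, hz, rfl⟩
        rw [h, Subgroup.mem_bot] at h1
        exact (QuotientGroup.eq_one_iff z).1 (congrArg Subtype.val h1)
      have hne2 := SolvStruct.inf_center_ne_bot (N := (Z.map π).subgroupOf Sb) hne
      obtain ⟨y, hy⟩ := exists_prime_orderOf_dvd_card' (G := ↥((Z.map π).subgroupOf Sb ⊓ Subgroup.center Sb)) p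
        (by
          obtain ⟨k, hk⟩ := IsPGroup.iff_card.1 (hSbp.to_subgroup ((Z.map π).subgroupOf Sb ⊓ Subgroup.center Sb))
          rw [hk]
          refine dvd_pow_self p fun h0 => hne2 (Subgroup.eq_bot_of_card_eq _ (by rw [hk, h0, pow_zero])))
      obtain ⟨⟨z, hz, hzy⟩, hyc⟩ := Subgroup.mem_inf.1 y.2
      have hzy' : π z = ((y.1 : Sb) : G ⧸ F) := hzy
      have hy1 : ((y.1 : Sb) : G ⧸ F) ^ p = 1 := by
        rw [← SubmonoidClass.coe_pow, ← SubmonoidClass.coe_pow, ← hy, pow_orderOf_eq_one]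
        rfl
      refine ⟨z, hz, fun hzF => ?_, fun s hs => ?_, ?_⟩
      · have h1 : y = 1 := Subtype.ext (Subtype.ext (hzy'.symm.trans ((QuotientGroup.eq_one_iff z).2 hzF)))
        rw [h1, orderOf_one] at hy
        exact hp.out.one_lt.ne hy
      · refine commutator_mem_iff.2 ?_
        rw [← hπ, hzy']
        exact congrArg Subtype.val (Subgroup.mem_center_iff.1 hyc ⟨π s, s, hs, rfl⟩)
      · rw [← QuotientGroup.eq_one_iff (N := F), ← QuotientGroup.mk'_apply, map_pow, hzy', hy1]
    let T : Subgroup G :=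
      { carrier := {y | y ∈ Z ∧ y ^ p ∈ F ∧ ∀ s ∈ (S : Subgroup G), π s * π y = π y * π s}
        one_mem' := ⟨one_mem _, by rw [one_pow]; exact one_mem _, fun s _ => by simp⟩
        mul_mem' := fun {a b} ha hb => ⟨mul_mem ha.1 hb.1, by
          rw [Commute.mul_pow (hZc a ha.1 b hb.1)]; exact mul_mem ha.2.1 hb.2.1, fun s hs => by
          rw [map_mul, ← mul_assoc, ha.2.2 s hs, mul_assoc, hb.2.2 s hs, mul_assoc]⟩
        inv_mem' := fun {a} ha => ⟨inv_mem ha.1, by rw [inv_pow]; exact inv_mem ha.2.1, fun s hs => by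
          rw [map_inv]; exact (Commute.inv_right (ha.2.2 s hs)).eq⟩ }
    set E := F ⊔ Subgroup.zpowers x with hE
    have hET : E ≤ T := by
      refine sup_le (fun f hf => ⟨Subgroup.normalCore_le _ hf, pow_mem hf p, fun s _ => ?_⟩)
        (Subgroup.zpowers_le.2 ⟨hxZ, hxp, fun s hs => commutator_mem_iff.1 (hxc s hs)⟩)
      rw [show π f = 1 from (QuotientGroup.eq_one_iff f).2 hf, mul_one, one_mul]
    have hEZ : E ≤ Z := fun y hy => (hET hy).1
    set L := (Subgroup.centralizer ((E.map π : Subgroup (G ⧸ F)) : Set (G ⧸ F))).comap π with hL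
    have hmemL : ∀ l : G, (∀ y ∈ E, l * y * l⁻¹ * y⁻¹ ∈ F) → l ∈ L := fun l h => by
      rw [hL, Subgroup.mem_comap, Subgroup.mem_centralizer_iff]
      rintro _ ⟨y, hy, rfl⟩
      exact (commutator_mem_iff.1 (h y hy)).symm
    have hSL : (S : Subgroup G) ≤ L := fun s hs => hmemL s fun y hy =>
      commutator_mem_iff.2 ((hET hy).2.2 s hs)
    have hLtop : L ≠ ⊤ := by
      intro htop
      have hn : E.Normal := ⟨fun y hy g => by
        have h1 : g ∈ L := htop ▸ Subgroup.mem_top g
        rw [hL, Subgroup.mem_comap, Subgroup.mem_centralizer_iff] at h1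
        have h2 : g * y * g⁻¹ * y⁻¹ ∈ F := commutator_mem_iff.2 (h1 _ ⟨y, hy, rfl⟩).symm
        have h3 := mul_mem (Subgroup.mem_sup_left (T := Subgroup.zpowers x) h2) hy
        rwa [inv_mul_cancel_right] at h3⟩
      exact hxF ((Subgroup.normal_le_normalCore.2 hEZ) (Subgroup.mem_sup_right (Subgroup.mem_zpowers x)))
    -- fusion inside `L`
    set SL := S.subtype hSL with hSLdef
    have hmapS : (SL : Subgroup L).map L.subtype = (S : Subgroup G) := by
      rw [hSLdef, Sylow.coe_subtype, Subgroup.map_subgroupOf_eq_of_le hSL]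
    have hmapZ : (ZJ.zJ p False (SL : Subgroup L)).map L.subtype = Z := by
      rw [ZJ.zJ_map L.subtype L.subtype_injective.injOn, hmapS]
    have hmapH : (Subgroup.normalizer ((ZJ.zJ p False (SL : Subgroup L)) : Set L)).map L.subtype ≤ H := by
      rw [hH, ← hmapZ]
      exact Subgroup.le_normalizer_map _
    have hlg : Good (Subgroup.normalizer ((ZJ.zJ p False (SL : Subgroup L)) : Set L)) ⊤ (SL : Subgroup L) := by
      refine (ihn (G := ↥L) ?_ SL).resolve_right fun hw => hwit ?_
      · have := Subgroup.card_le_card_group L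
        have h2 : Nat.card L ≠ Nat.card G := fun h => hLtop (Subgroup.eq_top_of_card_eq L h)
        omega
      obtain ⟨hinv, g, hg, c, hc, k, hco, hk, hgc⟩ := hw
      refine ⟨?_, (g : G), hmapH ⟨g, hg, rfl⟩, (c : G), hmapZ.le ⟨c, hc, rfl⟩, k, ?_, hk, ?_⟩
      · refine FusionSys.involves_of_injective
          ((Subgroup.inclusion hmapH).comp
            (Subgroup.equivMapOfInjective _ L.subtype L.subtype_injective).toMonoidHom) ?_ hinv
        exact (Subgroup.inclusion_injective hmapH).comp (MulEquiv.injective _)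
      · rwa [Subgroup.orderOf_coe]
      · simpa using congrArg Subtype.val hgc
    have d : Setup p (S : Subgroup G) F E H := by
      refine ⟨S.isPGroup', le_sup_left, hEZ.trans hZS, inferInstance,
        fun y hy f hf => hZc y (hEZ hy) f (Subgroup.normalCore_le _ hf),
        fun s hs y hy => commutator_mem_iff.2 ((hET hy).2.2 s hs), fun y hy => (hET hy).2.1,
        fun A hA l hl hlA => ?_⟩
      obtain ⟨h, hh, he⟩ := hlg {y : L | (y : G) ∈ A} (fun y hy => hA hy) ⟨l, hmemL l hl⟩ trivial (by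
        rintro _ ⟨y, hy, rfl⟩
        exact hlA ⟨(y : G), hy, rfl⟩)
      exact ⟨(h : G), hmapH ⟨h, hh, rfl⟩, fun a ha =>
        congrArg Subtype.val (he ⟨a, hSL (hA ha)⟩ ha)⟩
    have hno : ∀ (B : Subgroup G) (h e : G) (lam : (ZMod p)ˣ), ¬ HData p (S : Subgroup G) F E H B h e lam :=
      fun B h e lam dt => hwit (witness_of_data hp2 d hEZ hZS hZc le_rfl hSH dt)
    refine good_of_no_data hp2 d hno (Nat.card (⊤ : Subgroup G)) ⊤ S (ZJ.jSub p False (S : Subgroup G))
      le_rfl (isSylowIn_sylow S) le_rfl d.E_le (goodW_jSub hp2 S d hEZ) fun A _ g hg _ => ?_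
    exact ⟨g, ZJ.normalizer_jSub_le_normalizer_zJ _ (Subgroup.mem_inf.1 hg).2, fun a _ => rfl⟩

end Cfsg.Agent.FusionFp
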