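import Cfsg.Agent.Lib.FusionFp.Quad
import Cfsg.Agent.Lib.FusionFp.Field

/-!
A minimal pair moving a vector maps onto `SL₂(p)`.
-/

set_option autoImplicit false
set_option linter.style.haveILetI false

namespace Cfsg.Agent.FusionFp

open Cfsg.Agent Cfsg.Agent.PStable
open Matrix

variable {p : ℕ} [hp : Fact p.Prime] {V : Type*} [AddCommGroup V] [Module (ZMod p) V] [Finite V]
  {K : Type*} [Group K] [Finite K] {ρ : K →* Module.End (ZMod p) V} {a b : K}

/-- An irreducible quotient on which a given fixed vector survives. -/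
theorem exists_irred_image (ha : (ρ a - 1) ^ 2 = 0) (hb : (ρ b - 1) ^ 2 = 0)
    (hgen : Subgroup.closure ({a, b} : Set K) = ⊤) {v₁ : V} (hv0 : v₁ ≠ 0) (hav : ρ a v₁ = v₁)
    (hinj : ∀ (n : ℕ), ∀ w ∈ Submodule.span (ZMod p) (Set.range fun x : K => ρ x v₁),
      (quadOp ρ a b ^ n) w = 0 → w = 0) :
    ∃ (E : Type) (_ : Field E) (_ : Finite E) (_ : CharP E p) (μ : E)
      (φ : K →* Matrix.SpecialLinearGroup (Fin 2) E) (W : Submodule (ZMod p) V)
      (hW : ∀ x : K, ∀ w ∈ W, ρ x w ∈ W) (π : W → (Fin 2 → E)) (hv : v₁ ∈ W),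
      μ ≠ 0 ∧ φ a = upp 1 ∧ φ b = low μ ∧ (∀ x y, π (x - y) = π x - π y) ∧
      (∀ x y, π (x + y) = π x + π y) ∧
      (∀ (x : K) (w : W), π ⟨ρ x w, hW x w w.2⟩ = (φ x : Matrix (Fin 2) (Fin 2) E) *ᵥ π w) ∧
      π ⟨v₁, hv⟩ ≠ 0 ∧ π ⟨v₁, hv⟩ 1 = 0 := by
  classical
  set S := Submodule.span (ZMod p) (Set.range fun x : K => ρ x v₁) with hS
  have hS1 : v₁ ∈ S := Submodule.subset_span ⟨1, by simp⟩
  have hSi : ∀ x : K, ∀ w ∈ S, ρ x w ∈ S := by
    intro x w hw
    have h : S ≤ S.comap (ρ x) := by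
      rw [hS, Submodule.span_le]
      rintro _ ⟨y, rfl⟩
      exact Submodule.subset_span ⟨x * y, by simp⟩
    exact h hw
  set ρ₁ := restrictRep ρ S hSi with hρ₁
  obtain ⟨T, ⟨hTi, hTv⟩, hTmax⟩ := exists_maximal_of_wellFoundedGT
    (fun T : Submodule (ZMod p) S =>
      (∀ x : K, ∀ w ∈ T, ρ₁ x w ∈ T) ∧ (⟨v₁, hS1⟩ : S) ∉ T) ⟨⊥, fun x w hw => by
        rw [Submodule.mem_bot] at hw ⊢; rw [hw, map_zero],
      fun h => hv0 (congrArg Subtype.val ((Submodule.mem_bot _).1 h))⟩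
  have hTc : ∀ x, T ≤ T.comap (ρ₁ x) := fun x w hw => hTi x w hw
  let σ : K →* Module.End (ZMod p) (S ⧸ T) :=
    { toFun := fun x => T.mapQ T (ρ₁ x) (hTc x)
      map_one' := by
        refine Submodule.linearMap_qext _ (LinearMap.ext fun w => ?_)
        show Submodule.Quotient.mk (ρ₁ 1 w) = Submodule.Quotient.mk w
        rw [map_one]; rfl
      map_mul' := fun x y => by
        refine Submodule.linearMap_qext _ (LinearMap.ext fun w => ?_)
        simp [map_mul] }
  have hσ : ∀ x (w : S), σ x (Submodule.Quotient.mk w) = Submodule.Quotient.mk (ρ₁ x w) :=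
    fun x w => rfl
  have hq : ∀ c, (ρ c - 1) ^ 2 = 0 → (σ c - 1) ^ 2 = 0 := by
    intro c hc
    refine Submodule.linearMap_qext _ (LinearMap.ext fun w => ?_)
    have h1 := LinearMap.congr_fun (restrictRep_quad S hSi hc) w
    simp only [pow_two, Module.End.mul_apply, LinearMap.sub_apply, Module.End.one_apply,
      LinearMap.zero_apply, map_sub] at h1
    simp only [pow_two, LinearMap.comp_apply, Submodule.mkQ_apply, Module.End.mul_apply,
      LinearMap.sub_apply, Module.End.one_apply, hσ, ← Submodule.Quotient.mk_sub, map_sub,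
      LinearMap.zero_apply, hρ₁]
    rw [h1, Submodule.Quotient.mk_zero]
  have hirr : ∀ U : Submodule (ZMod p) (S ⧸ T), (∀ x, ∀ w ∈ U, σ x w ∈ U) → U ≠ ⊥ → U = ⊤ := by
    intro U hU hne
    set U' := U.comap T.mkQ with hU'
    have hTU : T ≤ U' := fun w hw => by
      show Submodule.Quotient.mk w ∈ U
      rw [(Submodule.Quotient.mk_eq_zero T).2 hw]; exact U.zero_mem
    have hU'i : ∀ x : K, ∀ w ∈ U', ρ₁ x w ∈ U' := fun x w hw => hU x _ hw
    have hvU : (⟨v₁, hS1⟩ : S) ∈ U' := by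
      by_contra hvU
      have heq : U' = T := le_antisymm (hTmax ⟨hU'i, hvU⟩ hTU) hTU
      refine hne (eq_bot_iff.2 fun q hq => ?_)
      obtain ⟨w, rfl⟩ := Submodule.Quotient.mk_surjective T q
      rw [Submodule.mem_bot, Submodule.Quotient.mk_eq_zero, ← heq]
      exact hq
    rw [eq_top_iff]
    rintro q -
    obtain ⟨w, rfl⟩ := Submodule.Quotient.mk_surjective T q
    have hle : S ≤ U'.map S.subtype := by
      conv_lhs => rw [hS]
      rw [Submodule.span_le]
      rintro _ ⟨x, rfl⟩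
      exact ⟨ρ₁ x ⟨v₁, hS1⟩, hU'i x _ hvU, rfl⟩
    obtain ⟨w', hw', e⟩ := hle w.2
    rwa [show w = w' from Subtype.ext e.symm]
  have hv₁q : (Submodule.Quotient.mk (⟨v₁, hS1⟩ : S) : S ⧸ T) ≠ 0 := fun h =>
    hTv ((Submodule.Quotient.mk_eq_zero T).1 h)
  obtain ⟨k₀, hk₀⟩ : ∃ x : K, σ x ≠ 1 := by
    by_contra hall
    push Not at hall
    have hC : ∀ w : S, quadOp ρ a b (w : V) ∈ S := fun w => by
      simpa using quadOp_pow_mem (a := a) (b := b) hSi 1 (w : V) w.2
    let f : S → S := fun w => ⟨quadOp ρ a b (w : V), hC w⟩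
    have hf : Function.Injective f := fun x y h => by
      have h' : quadOp ρ a b ((x : V) - y) = 0 := by
        rw [map_sub, sub_eq_zero]; exact congrArg Subtype.val h
      exact Subtype.ext (sub_eq_zero.1 (hinj 1 _ (S.sub_mem x.2 y.2) (by rwa [pow_one])))
    obtain ⟨w, hw⟩ := (Finite.injective_iff_surjective.1 hf) ⟨v₁, hS1⟩
    refine hv₁q ?_
    rw [← hw]
    have hzero : ∀ (c : K) (y : S), (Submodule.Quotient.mk (ρ₁ c y - y) : S ⧸ T) = 0 := fun c y => by
      rw [Submodule.Quotient.mk_sub, ← hσ, hall, Module.End.one_apply, sub_self]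
    have e : f w = (ρ₁ a (ρ₁ b w - w) - (ρ₁ b w - w)) + (ρ₁ b (ρ₁ a w - w) - (ρ₁ a w - w)) :=
      Subtype.ext (by simp [f, quadOp, hρ₁, restrictRep_apply])
    rw [e, Submodule.Quotient.mk_add, hzero, hzero, add_zero]
  obtain ⟨E, hEf, hEa, hEfin, μ, φ, e, hμ0, hφa, hφb, heq, -⟩ :=
    irreducible_pair σ hgen (hq a ha) (hq b hb) hk₀ hirr
  haveI : Finite E := Module.finite_of_finite (ZMod p)
  haveI : CharP E p := charP_of_injective_algebraMap (algebraMap (ZMod p) E).injective p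
  set g : GL (Fin 2) E := Matrix.GeneralLinearGroup.mkOfDetNeZero !![μ, 0; 0, 1]
    (by simpa [Matrix.det_fin_two] using hμ0) with hg
  have hgi : ((g⁻¹ : GL (Fin 2) E) : Matrix (Fin 2) (Fin 2) E) = !![μ⁻¹, 0; 0, 1] := by
    rw [Units.inv_eq_of_mul_eq_one_right]
    simp [hg, Matrix.GeneralLinearGroup.mkOfDetNeZero, Matrix.mul_fin_two, Matrix.one_fin_two, hμ0]
  set φ' := (conjGL g).comp φ with hφ'
  set π : S → (Fin 2 → E) := fun w =>
    ((g⁻¹ : GL (Fin 2) E) : Matrix (Fin 2) (Fin 2) E) *ᵥ e (Submodule.Quotient.mk w) with hπdef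
  have hπeq : ∀ (x : K) (w : S), π ⟨ρ x w, hSi x w w.2⟩ =
      (φ' x : Matrix (Fin 2) (Fin 2) E) *ᵥ π w := fun x w => by
    show _ *ᵥ e (σ x (Submodule.Quotient.mk w)) = _
    rw [heq]
    simp only [hπdef, hφ', MonoidHom.comp_apply, conjGL_val, Matrix.mulVec_mulVec, mul_assoc,
      Units.mul_inv, mul_one]
  have hφ'a : φ' a = upp 1 := by
    refine Subtype.ext ?_
    rw [hφ', MonoidHom.comp_apply, hφa, conjGL_val, hgi]
    simp [hg, Matrix.GeneralLinearGroup.mkOfDetNeZero, upp_val, Matrix.mul_fin_two, hμ0]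
  refine ⟨E, hEf, inferInstance, inferInstance, μ, φ', S, hSi, π, hS1, hμ0, hφ'a, ?_, fun x y => ?_,
    fun x y => ?_, hπeq, fun h => hv₁q ?_, ?_⟩
  · refine Subtype.ext ?_
    rw [hφ', MonoidHom.comp_apply, hφb, conjGL_val, hgi]
    simp [hg, Matrix.GeneralLinearGroup.mkOfDetNeZero, low_val, Matrix.mul_fin_two, hμ0]
  · simp only [hπdef, Submodule.Quotient.mk_sub, map_sub, Matrix.mulVec_sub]
  · simp only [hπdef, Submodule.Quotient.mk_add, map_add, Matrix.mulVec_add]
  · have h' := congrArg (fun u => (g : Matrix (Fin 2) (Fin 2) E) *ᵥ u) h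
    simp only [hπdef, Matrix.mulVec_mulVec, Units.mul_inv, Matrix.one_mulVec, Matrix.mulVec_zero] at h'
    exact e.map_eq_zero_iff.1 h'
  · have h := hπeq a ⟨v₁, hS1⟩
    rw [show (⟨ρ a v₁, hSi a v₁ hS1⟩ : S) = ⟨v₁, hS1⟩ from Subtype.ext hav, hφ'a] at h
    have h0 := congrFun h 0
    simpa [upp_val, Matrix.mulVec, dotProduct, Fin.sum_univ_two] using h0

/-- A minimal pair moving `v` maps onto `SL₂(p)`. -/
theorem exists_sl2_pair (hp2 : p ≠ 2) (ha : (ρ a - 1) ^ 2 = 0) (hb : (ρ b - 1) ^ 2 = 0)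
    (hgen : Subgroup.closure ({a, b} : Set K) = ⊤) {v : V} (hav : ρ a v = v) {k₀ : K}
    (hk₀ : (orderOf k₀).Coprime p) (hk₀v : ρ k₀ v ≠ v)
    (hmin : ∀ k : K, Subgroup.closure ({a, k * a * k⁻¹} : Set K) ≠ ⊤ →
      ∀ j ∈ Subgroup.closure ({a, k * a * k⁻¹} : Set K), (orderOf j).Coprime p → ρ j v = v) :
    ∃ (φ₁ : K →* Matrix.SpecialLinearGroup (Fin 2) (ZMod p)) (k : K),
      Subgroup.closure ({a, k * a * k⁻¹} : Set K) = ⊤ ∧ φ₁ a = upp 1 ∧
      φ₁ (k * a * k⁻¹) = low (-1) ∧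
      ∀ x : K, (φ₁ x).1 1 0 ≠ 0 → Subgroup.closure ({a, x * a * x⁻¹} : Set K) = ⊤ := by
  classical
  obtain ⟨n, -, hcompl, hinj⟩ := exists_fitting (quadOp ρ a b)
  set R := LinearMap.range (quadOp ρ a b ^ n) with hR
  have hRi : ∀ x : K, ∀ w ∈ R, ρ x w ∈ R := by
    rintro x _ ⟨y, rfl⟩
    exact ⟨ρ x y, quadOp_pow_comm ha hb hgen n x y⟩
  set v₁ := (quadOp ρ a b ^ n) v with hv₁
  have hv0 : v₁ ≠ 0 := fun h => hk₀v (fixes_ker_pow ha hb hgen hk₀ h)
  have hav₁ : ρ a v₁ = v₁ := by rw [hv₁, ← quadOp_pow_comm ha hb hgen, hav]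
  have hSR : Submodule.span (ZMod p) (Set.range fun x : K => ρ x v₁) ≤ R := by
    rw [Submodule.span_le]
    rintro _ ⟨x, rfl⟩
    exact hRi x _ ⟨v, rfl⟩
  have hinjn : ∀ (m : ℕ), ∀ w ∈ R, (quadOp ρ a b ^ m) w = 0 → w = 0 := by
    intro m
    induction m with
    | zero => intro w _ h; simpa using h
    | succ m ih =>
      intro w hw h
      rw [pow_succ, Module.End.mul_apply] at h
      refine hinj w hw (ih _ ?_ h)
      simpa using quadOp_pow_mem (a := a) (b := b) hRi 1 w hw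
  obtain ⟨E, hEf, hEfin, hEchar, μ, φ, W, hW, π, hvW, hμ0, hφa, hφb, hπsub, hπadd, hπ, hπv, hπv1⟩ :=
    exists_irred_image ha hb hgen hv0 hav₁ fun m w hw => hinjn m w (hSR hw)
  -- nonzero parameters generate
  have hgenk : ∀ x : K, (φ x).1 1 0 ≠ 0 →
      Subgroup.closure ({a, x * a * x⁻¹} : Set K) = ⊤ := by
    intro x hx
    by_contra hne
    set H := Subgroup.closure ({a, x * a * x⁻¹} : Set K) with hH
    have haH : a ∈ H := Subgroup.subset_closure (Set.mem_insert _ _)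
    have hbH : x * a * x⁻¹ ∈ H := Subgroup.subset_closure (Set.mem_insert_of_mem _ rfl)
    have hgenH : Subgroup.closure ({(⟨a, haH⟩ : H), ⟨_, hbH⟩} : Set H) = ⊤ := by
      refine Subgroup.map_injective H.subtype_injective ?_
      rw [MonoidHom.map_closure, Set.image_insert_eq, Set.image_singleton, ← MonoidHom.range_eq_map,
        Subgroup.range_subtype]
      rfl
    obtain ⟨j, hj, hjv⟩ := exists_moved (ρ := ρ.comp H.subtype) (a := ⟨a, haH⟩) (b := ⟨_, hbH⟩)
      (v := v) ha (quad_conj ha x) hgenH fun m hm => by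
        have hv' : (quadOp ρ a (x * a * x⁻¹) ^ m) v₁ = 0 := by
          have hc : Commute (quadOp ρ a b ^ n) (quadOp ρ a (x * a * x⁻¹) ^ m) := by
            refine (Commute.pow_pow ?_ n m)
            have hc1 : ∀ y, Commute (quadOp ρ a b) (ρ y - 1) := fun y =>
              (quadOp_comm ha hb hgen y).sub_right (Commute.one_right _)
            exact ((hc1 _).mul_right (hc1 _)).add_right ((hc1 _).mul_right (hc1 _))
          rw [hv₁, ← Module.End.mul_apply, ← hc.eq, Module.End.mul_apply]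
          exact (congrArg (quadOp ρ a b ^ n) hm).trans (map_zero _)
        obtain ⟨φ', hφ', -⟩ := exists_shift φ ((φ x).1 0 0 / (φ x).1 1 0)
        set r := (φ x).1 0 0 / (φ x).1 1 0 with hr
        have h00 : (φ' x).1 0 0 = 0 := by
          rw [hφ']
          simp [hr, upp_inv, upp_val, Matrix.mul_apply, Matrix.vecMul, dotProduct, Fin.sum_univ_two,
            div_mul_cancel₀ _ hx]
        have h10 : (φ' x).1 1 0 = (φ x).1 1 0 := by rw [hφ', shift_one_zero]
        have hb' : φ' (x * a * x⁻¹) = low (-((φ x).1 1 0) ^ 2) := by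
          have hd := det_one (φ' x)
          rw [h00, zero_mul, zero_sub, h10] at hd
          rw [map_mul, map_mul, map_inv φ', hφ' a, hφa, shift_upp]
          refine Subtype.ext ?_
          apply ext2 <;>
            simp [upp_val, low_val, Matrix.SpecialLinearGroup.coe_inv, Matrix.adjugate_fin_two,
              Matrix.mul_apply, Fin.sum_univ_two, h00, h10] <;>
            first | ring1 | linear_combination hd | linear_combination -hd
        have h1 := map_quadOp (ρ := ρ) φ' (by rw [hφ', hφa, shift_upp]) hb'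
          (fun w => ((upp (-r) : Matrix.SpecialLinearGroup (Fin 2) E) : Matrix (Fin 2) (Fin 2) E) *ᵥ π w)
          (fun u w => by rw [hπsub, Matrix.mulVec_sub]) (fun u w => by rw [hπadd, Matrix.mulVec_add])
          hW (fun y w => by
            rw [hπ, hφ', upp_inv, Matrix.mulVec_mulVec, Matrix.mulVec_mulVec]
            congr 1
            rw [Matrix.SpecialLinearGroup.coe_mul, Matrix.SpecialLinearGroup.coe_mul, mul_assoc,
              ← Matrix.SpecialLinearGroup.coe_mul (upp r), upp_mul, add_neg_cancel, upp_zero,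
              Matrix.SpecialLinearGroup.coe_one, mul_one])
          m ⟨v₁, hvW⟩
        have h2 : (⟨(quadOp ρ a (x * a * x⁻¹) ^ m) v₁, quadOp_pow_mem hW m v₁ hvW⟩ : W) =
            ⟨v₁, hvW⟩ - ⟨v₁, hvW⟩ := by rw [sub_self]; exact Subtype.ext hv'
        have h3 : π ⟨v₁, hvW⟩ 0 = 0 := by
          have h4 := congrFun h1 0
          rw [h2, hπsub, sub_self, Matrix.mulVec_zero] at h4
          simp [upp_val, Matrix.mulVec, dotProduct, Fin.sum_univ_two, hπv1] at h4
          rcases h4 with h4 | h4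
          · exact absurd h4.1 hx
          · exact h4
        exact hπv (funext fun i => by fin_cases i <;> assumption)
    exact hjv (hmin x hne j.1 j.2 (by rwa [Subgroup.orderOf_coe]))
  have hb10 : (φ b).1 1 0 = μ := by rw [hφb]; simp [low_val]
  have hprime := prime_of_min hp2 hφa (b := b) (by rw [hb10]; exact hμ0) hgenk
  obtain ⟨m, hm⟩ := hprime b
  rw [hb10] at hm
  set Ψ : Matrix.SpecialLinearGroup (Fin 2) (ZMod p) →* Matrix.SpecialLinearGroup (Fin 2) E :=
    Matrix.SpecialLinearGroup.map (ZMod.castHom dvd_rfl E) with hΨ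
  have hΨinj : Function.Injective Ψ := fun u w huw => by
    ext i j
    have h2 := congrArg (fun m : Matrix.SpecialLinearGroup (Fin 2) E => m.1 i j) huw
    exact (ZMod.castHom dvd_rfl E).injective (by simpa [hΨ] using h2)
  have hΨa : Ψ (upp 1) = upp 1 := Subtype.ext (by apply ext2 <;> simp [hΨ, upp_val])
  have hΨl : ∀ j : ℕ, Ψ (low (j : ZMod p)) = low (j : E) := fun j =>
    Subtype.ext (by apply ext2 <;> simp [hΨ, low_val])
  have hrange : ∀ y : K, φ y ∈ Ψ.range := fun y => by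
    have hy : y ∈ Subgroup.closure ({a, b} : Set K) := hgen ▸ Subgroup.mem_top y
    refine (Subgroup.closure_le (Ψ.range.comap φ)).2 ?_ hy
    rintro z (rfl | rfl)
    · exact ⟨upp 1, by rw [hφa, hΨa]⟩
    · exact ⟨low (m : ZMod p), by rw [hΨl, hφb, hm]⟩
  let φ₁ : K →* Matrix.SpecialLinearGroup (Fin 2) (ZMod p) :=
    (MonoidHom.ofInjective hΨinj).symm.toMonoidHom.comp (φ.codRestrict Ψ.range hrange)
  have hφ₁ : ∀ y, Ψ (φ₁ y) = φ y := fun y =>
    congrArg Subtype.val ((MonoidHom.ofInjective hΨinj).apply_symm_apply ⟨φ y, hrange y⟩)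
  have h₁a : φ₁ a = upp 1 := hΨinj (by rw [hφ₁, hφa, hΨa])
  have h₁b : φ₁ b = low (m : ZMod p) := hΨinj (by rw [hφ₁, hφb, hm, hΨl])
  have hm0 : (m : ZMod p) ≠ 0 := fun h => hμ0 (by
    have := congrArg (ZMod.castHom dvd_rfl E) h
    rw [map_natCast, map_zero] at this
    rw [hm, this])
  have hlow : ∀ i : ℕ, (low (m : ZMod p) : Matrix.SpecialLinearGroup (Fin 2) (ZMod p)) ^ i =
      low ((i : ZMod p) * m) := by
    intro i
    induction i with
    | zero => exact Subtype.ext (by apply ext2 <;> simp [low_val])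
    | succ i ih => rw [pow_succ, ih, low_mul, Nat.cast_succ, add_mul, one_mul]
  set k := a⁻¹ * b ^ ((m : ZMod p)⁻¹).val * a⁻¹ with hk
  have h₁k : (φ₁ k).1 = !![0, -1; 1, 0] := by
    rw [hk, map_mul, map_mul, map_inv, map_pow, h₁a, h₁b, hlow, ZMod.natCast_zmod_val,
      inv_mul_cancel₀ hm0, upp_inv]
    apply ext2 <;> simp [upp_val, low_val, Matrix.mul_apply, Fin.sum_univ_two]
  have htrans : ∀ y : K, (φ₁ y).1 1 0 ≠ 0 → Subgroup.closure ({a, y * a * y⁻¹} : Set K) = ⊤ := by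
    intro y hy
    refine hgenk y fun h => hy ?_
    rw [← hφ₁] at h
    exact (ZMod.castHom dvd_rfl E).injective (by simpa [hΨ] using h)
  refine ⟨φ₁, k, htrans k (by rw [h₁k]; simp), h₁a, ?_, htrans⟩
  rw [map_mul, map_mul, map_inv φ₁, h₁a]
  refine Subtype.ext ?_
  apply ext2 <;>
    simp [upp_val, low_val, Matrix.SpecialLinearGroup.coe_inv, Matrix.adjugate_fin_two,
      Matrix.mul_apply, Fin.sum_univ_two, h₁k]

end Cfsg.Agent.FusionFp
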