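import Cfsg.Agent.Lib.FusionFp.MinPair
import Cfsg.Agent.Lib.Classical.SL
import Mathlib.RingTheory.IntegralDomain

/-!
The torus element and the root element attached to a minimal pair.
-/

set_option autoImplicit false
set_option linter.style.haveILetI false

namespace Cfsg.Agent.FusionFp

open Cfsg.Agent Cfsg.Agent.PStable
open Matrix

attribute [-simp] ZMod.inv_coe_unit

variable {p : ℕ} [hp : Fact p.Prime] {V : Type*} [AddCommGroup V] [Module (ZMod p) V] [Finite V]
  {K : Type*} [Group K] [Finite K] {ρ : K →* Module.End (ZMod p) V} {a b : K}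

/-- A homomorphism hitting both root elements is onto. -/
theorem surjective_of_roots (φ : K →* Matrix.SpecialLinearGroup (Fin 2) (ZMod p)) (hφa : φ a = upp 1)
    (hφb : φ b = low (-1)) : Function.Surjective φ := by
  rw [← MonoidHom.range_eq_top, eq_top_iff, ← ClassicalSL.closure_elemTransvections,
    Subgroup.closure_le]
  rintro _ ⟨i, j, hij, c, rfl⟩
  have hlowpow : ∀ n : ℕ, (low (-1) : Matrix.SpecialLinearGroup (Fin 2) (ZMod p)) ^ n = low (-(n : ZMod p)) := by
    intro n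
    induction n with
    | zero => exact Subtype.ext (by apply ext2 <;> simp [low_val])
    | succ n ih => rw [pow_succ, ih, low_mul, Nat.cast_succ, neg_add]
  fin_cases i <;> fin_cases j
  · exact absurd rfl hij
  · refine ⟨a ^ c.val, ?_⟩
    rw [map_pow, hφa, upp_pow, ZMod.natCast_zmod_val, mul_one]
    apply Subtype.ext
    ext r s
    fin_cases r <;> fin_cases s <;>
      simp [Matrix.SpecialLinearGroup.transvection_coe, upp_val, Matrix.single]
  · refine ⟨b ^ (-c).val, ?_⟩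
    rw [map_pow, hφb, hlowpow, ZMod.natCast_zmod_val, neg_neg]
    apply Subtype.ext
    ext r s
    fin_cases r <;> fin_cases s <;>
      simp [Matrix.SpecialLinearGroup.transvection_coe, low_val, Matrix.single]
  · exact absurd rfl hij

/-- `αβ + βα = -1` on the stable range of a minimal pair. -/
theorem quadOp_eq_neg (hp2 : p ≠ 2) (ha : (ρ a - 1) ^ 2 = 0) (hb : (ρ b - 1) ^ 2 = 0)
    (hgen : Subgroup.closure ({a, b} : Set K) = ⊤)
    (φ₁ : K →* Matrix.SpecialLinearGroup (Fin 2) (ZMod p)) (h₁a : φ₁ a = upp 1)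
    (h₁b : φ₁ b = low (-1))
    (htrans : ∀ x : K, (φ₁ x).1 1 0 ≠ 0 → Subgroup.closure ({a, x * a * x⁻¹} : Set K) = ⊤)
    (R : Submodule (ZMod p) V) (hR : ∀ x : K, ∀ w ∈ R, ρ x w ∈ R)
    (hinj : ∀ w ∈ R, quadOp ρ a b w = 0 → w = 0) : ∀ w ∈ R, quadOp ρ a b w = -w := by
  set C := quadOp ρ a b with hC
  set N := C + 1 with hN
  have hCρ : ∀ x w, C (ρ x w) = ρ x (C w) := fun x w => by
    simpa using quadOp_pow_comm ha hb hgen 1 x w
  have hNρ : ∀ x w, N (ρ x w) = ρ x (N w) := fun x w => by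
    simp only [hN, LinearMap.add_apply, Module.End.one_apply, hCρ, map_add]
  have hNpow : ∀ (n : ℕ) x w, (N ^ n) (ρ x w) = ρ x ((N ^ n) w) := by
    intro n
    induction n with
    | zero => intro x w; simp
    | succ n ih => intro x w; rw [pow_succ, Module.End.mul_apply, hNρ, ih]; rfl
  -- `C + 1` is nilpotent on `R`
  obtain ⟨m, -, hcompl, hNinj⟩ := exists_fitting N
  have hnil : ∀ w ∈ R, (N ^ m) w = 0 := by
    set Wd := R ⊓ LinearMap.range (N ^ m) with hWd
    have hWdi : ∀ x : K, ∀ w ∈ Wd, ρ x w ∈ Wd := by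
      rintro x _ ⟨hwR, y, rfl⟩
      exact ⟨hR x _ hwR, ρ x y, hNpow m x y⟩
    suffices hbot : Wd = ⊥ by
      intro w hw
      have h1 : (N ^ m) w ∈ Wd := by
        refine ⟨?_, w, rfl⟩
        clear hNinj hcompl hWdi hbot
        induction m with
        | zero => simpa using hw
        | succ m ih =>
          rw [pow_succ', Module.End.mul_apply]
          have h1 := quadOp_pow_mem (a := a) (b := b) hR 1 _ (ih rfl)
          rw [pow_one] at h1
          simpa [hN] using R.add_mem h1 (ih rfl)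
      rwa [hbot, Submodule.mem_bot] at h1
    by_contra hne
    have hCW : ∀ w ∈ Wd, quadOp ρ a b w = 0 → w = 0 := fun w hw => hinj w hw.1
    obtain ⟨k, hk, w₀, hw₀, hkw⟩ : ∃ k : K, (orderOf k).Coprime p ∧ ∃ w ∈ Wd, ρ k w ≠ w := by
      by_contra hno
      push Not at hno
      exact hne (eq_bot_of_fixed Wd hWdi hno hCW)
    obtain ⟨E, hEf, hEa, hEfin, μ, φ, W₁, π, hW₁, hμ0, hφa, hφb, -, hπ, heq, -⟩ :=
      exists_pair_section (p := p) (restrictRep ρ Wd hWdi) hgen (restrictRep_quad Wd hWdi ha)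
        (restrictRep_quad Wd hWdi hb) (k₀ := k) (fun h => hkw (by
          have := congrArg Subtype.val (LinearMap.congr_fun h (⟨w₀, hw₀⟩ : Wd))
          simpa [restrictRep_apply] using this)) hk
    haveI : Finite E := Module.finite_of_finite (ZMod p)
    haveI : CharP E p := charP_of_injective_algebraMap (algebraMap (ZMod p) E).injective p
    set g : GL (Fin 2) E := Matrix.GeneralLinearGroup.mkOfDetNeZero !![μ, 0; 0, 1]
      (by simpa [Matrix.det_fin_two] using hμ0) with hg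
    have hgi : ((g⁻¹ : GL (Fin 2) E) : Matrix (Fin 2) (Fin 2) E) = !![μ⁻¹, 0; 0, 1] := by
      rw [Units.inv_eq_of_mul_eq_one_right]
      simp [hg, Matrix.GeneralLinearGroup.mkOfDetNeZero, Matrix.mul_fin_two, Matrix.one_fin_two, hμ0]
    have hμ : μ = -1 := by
      refine param_eq_neg_one (φ := (conjGL g).comp φ) hp2 φ₁ h₁a h₁b hgen ?_ hμ0 ?_ htrans
      · refine Subtype.ext ?_
        rw [MonoidHom.comp_apply, hφa, conjGL_val, hgi]
        simp [hg, Matrix.GeneralLinearGroup.mkOfDetNeZero, upp_val, Matrix.mul_fin_two, hμ0]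
      · refine Subtype.ext ?_
        rw [MonoidHom.comp_apply, hφb, conjGL_val, hgi]
        simp [hg, Matrix.GeneralLinearGroup.mkOfDetNeZero, low_val, Matrix.mul_fin_two, hμ0]
    -- `C + 1` is bijective on `W₁` and killed by `π`
    have hmem : ∀ w : W₁, (quadOp (restrictRep ρ Wd hWdi) a b) (w : Wd) + (w : Wd) ∈ W₁ := fun w => by
      refine W₁.add_mem ?_ w.2
      simpa using quadOp_pow_mem (a := a) (b := b) hW₁ 1 (w : Wd) w.2
    let f : W₁ → W₁ := fun w => ⟨_, hmem w⟩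
    have hval : ∀ y : Wd, ((quadOp (restrictRep ρ Wd hWdi) a b y + y : Wd) : V) = N (y : V) := fun y => by
      simp [hN, hC, quadOp, restrictRep_apply]
    have hf : Function.Injective f := fun x y h => by
      have h' := congrArg (fun z : W₁ => ((z : Wd) : V)) h
      simp only [f, hval] at h'
      refine Subtype.ext (Subtype.ext (sub_eq_zero.1 (hNinj _ ?_ (by rw [map_sub, h', sub_self]))))
      exact Submodule.sub_mem _ (x : Wd).2.2 (y : Wd).2.2
    obtain ⟨x, hx⟩ := hπ ![1, 0]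
    obtain ⟨y, rfl⟩ := Finite.injective_iff_surjective.1 hf x
    have h1 := map_quadOp φ hφa hφb π (fun x y => map_sub π x y) (fun x y => map_add π x y) hW₁ heq 1 y
    have h2 : f y = ⟨(quadOp (restrictRep ρ Wd hWdi) a b ^ 1) (y : Wd),
        quadOp_pow_mem hW₁ 1 y y.2⟩ + y := Subtype.ext (by simp [f])
    rw [h2, map_add, h1, hμ, mul_one, pow_one, neg_one_smul, neg_add_cancel] at hx
    have h3 := congrFun hx 0
    simp at h3
  -- square-zero part
  have hsq : ∀ u ∈ R, (ρ a - 1) u = 0 → N (N u) = 0 → N u = 0 := by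
    intro u hu hau hNN
    set k := b * a * b with hk
    have hk1 : (φ₁ k).1 1 0 ≠ 0 := by
      rw [hk, map_mul, map_mul, h₁a, h₁b]
      simp [upp_val, low_val, Matrix.mul_apply, Fin.sum_univ_two]
    have hau' : ρ a u = u := sub_eq_zero.1 hau
    have hCu : (ρ a - 1) ((ρ b - 1) u) = C u := by
      rw [hC, quadOp, LinearMap.add_apply, Module.End.mul_apply, Module.End.mul_apply, hau, map_zero,
        add_zero]
    have hinvb : ∀ w, ρ b⁻¹ w = w - (ρ b - 1) w := fun w => by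
      have h1 : ρ b (w - (ρ b - 1) w) = w := by
        have h := quad_apply hb w
        simp only [LinearMap.sub_apply, Module.End.one_apply, map_sub] at h ⊢
        linear_combination (norm := module) -h
      conv_lhs => rw [← h1]
      rw [← Module.End.mul_apply, ← map_mul, inv_mul_cancel, map_one, Module.End.one_apply]
    have hinva : ∀ w, ρ a⁻¹ w = w - (ρ a - 1) w := fun w => by
      have h1 : ρ a (w - (ρ a - 1) w) = w := by
        have h := quad_apply ha w
        simp only [LinearMap.sub_apply, Module.End.one_apply, map_sub] at h ⊢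
        linear_combination (norm := module) -h
      conv_lhs => rw [← h1]
      rw [← Module.End.mul_apply, ← map_mul, inv_mul_cancel, map_one, Module.End.one_apply]
    have hαN : ∀ w, (ρ a - 1) w = 0 → (ρ a - 1) (N w) = 0 := fun w hw => by
      rw [LinearMap.sub_apply, Module.End.one_apply, ← hNρ, ← map_sub,
        show ρ a w - w = 0 from hw, map_zero]
    have hCN : ∀ w, (ρ a - 1) w = 0 → (ρ a - 1) ((ρ b - 1) w) = N w - w := fun w hw => by
      rw [hN, LinearMap.add_apply, Module.End.one_apply, add_sub_cancel_right, hC, quadOp,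
        LinearMap.add_apply, Module.End.mul_apply, Module.End.mul_apply, hw, map_zero, add_zero]
    have hβ2 : ∀ w, (ρ b - 1) ((ρ b - 1) w) = 0 := quad_apply hb
    have hNu := hαN u hau
    -- `k⁻¹ u`
    have e1 : ρ k⁻¹ u = N u - (ρ b - 1) (u + N u) := by
      have s1 : ρ a⁻¹ (ρ b⁻¹ u) = N u - (ρ b - 1) u := by
        rw [hinvb u, hinva, map_sub (ρ a - 1), hau, hCN u hau]; abel
      rw [hk, _root_.mul_inv_rev, _root_.mul_inv_rev, map_mul, map_mul, Module.End.mul_apply,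
        Module.End.mul_apply, s1, hinvb, map_sub (ρ b - 1), hβ2, sub_zero, map_add (ρ b - 1)]
      abel
    have e2 : (ρ a - 1) (ρ k⁻¹ u) = u := by
      rw [e1, map_sub, hNu, map_add, map_add, hCN u hau, hCN _ hNu, hNN]
      abel
    -- `k u`
    have e3 : ρ k u = N u + (ρ b - 1) (u + N u) := by
      have hb1 : ∀ w, ρ b w = w + (ρ b - 1) w := fun w => by simp
      have ha1 : ∀ w, ρ a w = w + (ρ a - 1) w := fun w => by simp
      have s1 : ρ a (ρ b u) = N u + (ρ b - 1) u := by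
        rw [hb1 u, ha1, map_add (ρ a - 1), hau, hCN u hau]; abel
      rw [hk, map_mul, map_mul, Module.End.mul_apply, Module.End.mul_apply, s1, hb1,
        map_add (ρ b - 1), hβ2, add_zero, map_add (ρ b - 1)]
      abel
    set y := (ρ (k * a * k⁻¹) - 1) u with hy
    have hy' : y = ρ k u := by
      rw [hy, LinearMap.sub_apply, Module.End.one_apply, map_mul, map_mul, Module.End.mul_apply,
        Module.End.mul_apply, show ρ a (ρ k⁻¹ u) = ρ k⁻¹ u + (ρ a - 1) (ρ k⁻¹ u) by simp, e2, map_add,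
        ← Module.End.mul_apply, ← map_mul, mul_inv_cancel, map_one, Module.End.one_apply,
        add_sub_cancel_left]
    have hay : (ρ a - 1) y = -u := by
      rw [hy', e3, map_add, hNu, map_add, map_add, hCN u hau, hCN _ hNu, hNN]
      abel
    have hby : (ρ (k * a * k⁻¹) - 1) y = 0 := quad_apply (quad_conj ha k) u
    set S := Submodule.span (ZMod p) ({u, y} : Set V) with hS
    have huS : u ∈ S := Submodule.subset_span (Set.mem_insert _ _)
    have hyS : y ∈ S := Submodule.subset_span (Set.mem_insert_of_mem _ rfl)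
    have hSa : ∀ w ∈ S, ρ a w ∈ S := by
      intro w hw
      have hle : S ≤ S.comap (ρ a) := by
        rw [hS, Submodule.span_le]
        rintro z (hz | hz) <;> (rw [show z = _ from hz]; show ρ a _ ∈ S)
        · rw [hau']; exact huS
        · rw [show ρ a y = y + (ρ a - 1) y by simp, hay]
          exact S.add_mem hyS (S.neg_mem huS)
      exact hle hw
    have hSb : ∀ w ∈ S, ρ (k * a * k⁻¹) w ∈ S := by
      intro w hw
      have hle : S ≤ S.comap (ρ (k * a * k⁻¹)) := by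
        rw [hS, Submodule.span_le]
        rintro z (hz | hz) <;> (rw [show z = _ from hz]; show ρ (k * a * k⁻¹) _ ∈ S)
        · rw [show ρ (k * a * k⁻¹) u = u + (ρ (k * a * k⁻¹) - 1) u by simp, ← hy]
          exact S.add_mem huS hyS
        · rw [show ρ (k * a * k⁻¹) y = y + (ρ (k * a * k⁻¹) - 1) y by simp, hby, add_zero]
          exact hyS
      exact hle hw
    have hbu : (ρ b - 1) u ∈ S :=
      S.sub_mem (invariant_of_gen ρ (htrans k hk1) S hSa hSb b u huS) huS
    obtain ⟨s, r, hsr⟩ := Submodule.mem_span_pair.1 hbu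
    have h1 : N u - u = (-r) • u := by
      rw [← hCN u hau, ← hsr, map_add, map_smul, map_smul, hau, hay, smul_zero, zero_add, smul_neg,
        neg_smul]
    have h2 : N u = (1 - r) • u := by rw [sub_smul, one_smul, ← sub_add_cancel (N u) u, h1, neg_smul]; abel
    rw [h2, map_smul, h2, smul_smul] at hNN
    rw [h2]
    rcases smul_eq_zero.1 hNN with h | h
    · rw [mul_self_eq_zero.1 h, zero_smul]
    · rw [h, smul_zero]
  have hU : ∀ u ∈ R, (ρ a - 1) u = 0 → N u = 0 := by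
    have key : ∀ (d : ℕ) (u : V), u ∈ R → (ρ a - 1) u = 0 → (N ^ (d + 1)) u = 0 → N u = 0 := by
      intro d
      induction d with
      | zero => intro u _ _ h; simpa using h
      | succ d ih =>
        intro u hu hau h
        refine hsq u hu hau (ih _ ?_ ?_ ?_)
        · have h1 := quadOp_pow_mem (a := a) (b := b) hR 1 u hu
          rw [pow_one] at h1
          simpa [hN] using R.add_mem h1 hu
        · rw [LinearMap.sub_apply, Module.End.one_apply, ← hNρ, ← map_sub,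
            show ρ a u - u = 0 from hau, map_zero]
        · rwa [pow_succ, Module.End.mul_apply] at h
    intro u hu hau
    exact key m u hu hau (by rw [pow_succ', Module.End.mul_apply, hnil u hu, map_zero])
  intro w hw
  -- `C` is surjective on `R`
  have hCR : ∀ z : R, C (z : V) ∈ R := fun z => by
    simpa using quadOp_pow_mem (a := a) (b := b) hR 1 (z : V) z.2
  have hinjf : Function.Injective (fun z : R => (⟨C z, hCR z⟩ : R)) := fun x y h =>
    Subtype.ext (sub_eq_zero.1 (hinj _ (R.sub_mem x.2 y.2)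
      (by rw [map_sub, sub_eq_zero]; exact congrArg Subtype.val h)))
  obtain ⟨⟨z, hz⟩, hzw⟩ := Finite.injective_iff_surjective.1 hinjf ⟨w, hw⟩
  have hzw' : C z = w := congrArg Subtype.val hzw
  have hαR : ∀ y ∈ R, (ρ a - 1) y ∈ R := fun y hy => R.sub_mem (hR a y hy) hy
  have hβR : ∀ y ∈ R, (ρ b - 1) y ∈ R := fun y hy => R.sub_mem (hR b y hy) hy
  have hNCz : N w = 0 := by
    have hCz : C z = (ρ a - 1) ((ρ b - 1) z) + (ρ b - 1) ((ρ a - 1) z) := rfl
    rw [← hzw', hCz, map_add N,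
      hU _ (hαR _ (hβR z hz)) (quad_apply ha _), zero_add, LinearMap.sub_apply (ρ b),
      Module.End.one_apply, map_sub, hNρ, hU _ (hαR z hz) (quad_apply ha _), map_zero, sub_zero]
  rw [hN, LinearMap.add_apply, Module.End.one_apply] at hNCz
  exact eq_neg_of_add_eq_zero_left hNCz

/-- The root element, the torus element and their eigenvectors. -/
theorem exists_torus (hp2 : p ≠ 2) (ha : (ρ a - 1) ^ 2 = 0) (hb : (ρ b - 1) ^ 2 = 0)
    (hgen : Subgroup.closure ({a, b} : Set K) = ⊤)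
    (φ₁ : K →* Matrix.SpecialLinearGroup (Fin 2) (ZMod p)) (h₁a : φ₁ a = upp 1)
    (h₁b : φ₁ b = low (-1))
    (htrans : ∀ x : K, (φ₁ x).1 1 0 ≠ 0 → Subgroup.closure ({a, x * a * x⁻¹} : Set K) = ⊤)
    {v : V} (hav : ρ a v = v) {k₀ : K} (hk₀ : (orderOf k₀).Coprime p) (hk₀v : ρ k₀ v ≠ v) :
    ∃ (lam : (ZMod p)ˣ) (t a' : K), orderOf lam = p - 1 ∧ (orderOf t).Coprime p ∧
      ρ (a * a') = ρ (a' * a) ∧ ρ a' v = v ∧ ρ a' ≠ 1 ∧ ρ (a' ^ p) = 1 ∧
      ρ (t * a' * t⁻¹) = ρ (a' ^ (((lam : ZMod p) ^ 2).val)) ∧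
      (∃ w₀ w₁ : V, w₁ ≠ 0 ∧ ρ a' w₀ = w₀ + w₁ ∧ ρ a' w₁ = w₁ ∧
        ρ t w₀ = ((lam⁻¹ : (ZMod p)ˣ) : ZMod p) • w₀ ∧ ρ t w₁ = (lam : ZMod p) • w₁) ∧
      ρ (t ^ (p - 1)) = 1 ∧ ρ (t ^ ((p - 1) / 2)) v ≠ v ∧
      ∀ x, ρ (t ^ ((p - 1) / 2)) x = -x →
        ρ t (ρ t x - ((lam⁻¹ : (ZMod p)ˣ) : ZMod p) • x) =
          (lam : ZMod p) • (ρ t x - ((lam⁻¹ : (ZMod p)ˣ) : ZMod p) • x) := by
  classical
  obtain ⟨n, -, hcompl, hinj⟩ := exists_fitting (quadOp ρ a b)
  set K₀ := LinearMap.ker (quadOp ρ a b ^ n) with hK₀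
  set R := LinearMap.range (quadOp ρ a b ^ n) with hR
  have hRi : ∀ x : K, ∀ w ∈ R, ρ x w ∈ R := by
    rintro x _ ⟨y, rfl⟩
    exact ⟨ρ x y, quadOp_pow_comm ha hb hgen n x y⟩
  have hK₀i : ∀ x : K, ∀ w ∈ K₀, ρ x w ∈ K₀ := fun x w hw => by
    rw [hK₀, LinearMap.mem_ker] at hw ⊢
    rw [quadOp_pow_comm ha hb hgen, hw, map_zero]
  have hC := quadOp_eq_neg hp2 ha hb hgen φ₁ h₁a h₁b htrans R hRi hinj
  set U := R ⊓ LinearMap.ker (ρ a - 1) with hU
  let Ψ : V → (Fin 2 → ZMod p) → V := fun u w => w 0 • u - w 1 • (ρ b - 1) u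
  -- the natural action on the stable range
  have hnat : ∀ x : K, ∀ u ∈ U, ∀ w, ρ x (Ψ u w) = Ψ u ((φ₁ x).1 *ᵥ w) := by
    let N : Subgroup K :=
      { carrier := {x | ∀ u ∈ U, ∀ w, ρ x (Ψ u w) = Ψ u ((φ₁ x).1 *ᵥ w)}
        one_mem' := fun u _ w => by simp
        mul_mem' := fun {x y} hx hy u hu w => by
          rw [map_mul, Module.End.mul_apply, hy u hu, hx u hu, map_mul,
            Matrix.SpecialLinearGroup.coe_mul, Matrix.mulVec_mulVec]
        inv_mem' := fun {x} hx u hu w => by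
          have h := hx u hu ((φ₁ x⁻¹).1 *ᵥ w)
          rw [Matrix.mulVec_mulVec, ← Matrix.SpecialLinearGroup.coe_mul, ← map_mul, mul_inv_cancel,
            map_one, Matrix.SpecialLinearGroup.coe_one, Matrix.one_mulVec] at h
          rw [← h, ← Module.End.mul_apply, ← map_mul, inv_mul_cancel, map_one, Module.End.one_apply] }
    intro x
    have hx : x ∈ Subgroup.closure ({a, b} : Set K) := hgen ▸ Subgroup.mem_top x
    refine (Subgroup.closure_le N).2 ?_ hx
    rintro y (rfl | rfl) u hu w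
    · have hau : (ρ y - 1) u = 0 := hu.2
      have hau' : ρ y u = u := sub_eq_zero.1 hau
      have hay : (ρ y - 1) ((ρ b - 1) u) = -u := by
        rw [← hC u hu.1, quadOp, LinearMap.add_apply, Module.End.mul_apply, Module.End.mul_apply,
          hau, map_zero, add_zero]
      have e : ρ y ((ρ b - 1) u) = (ρ b - 1) u - u := by
        rw [show ρ y ((ρ b - 1) u) = (ρ b - 1) u + (ρ y - 1) ((ρ b - 1) u) by simp, hay,
          ← sub_eq_add_neg]
      simp only [Ψ, map_sub, map_smul, hau', e, h₁a]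
      simp only [upp_val, Matrix.mulVec, dotProduct, Fin.sum_univ_two, Matrix.of_apply,
        Matrix.cons_val', Matrix.cons_val_zero, Matrix.cons_val_one, Matrix.cons_val_fin_one,
        Matrix.empty_val']
      module
    · have e1 : ρ y u = u + (ρ y - 1) u := by simp
      have e2 : ρ y ((ρ y - 1) u) = (ρ y - 1) u := sub_eq_zero.1 (quad_apply hb u)
      simp only [Ψ, map_sub, map_smul, e2, h₁b]
      rw [e1]
      simp only [low_val, Matrix.mulVec, dotProduct, Fin.sum_univ_two, Matrix.of_apply,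
        Matrix.cons_val', Matrix.cons_val_zero, Matrix.cons_val_one, Matrix.cons_val_fin_one,
        Matrix.empty_val']
      module
  have hRspan : ∀ w ∈ R, ∃ u₁ ∈ U, ∃ u₂ ∈ U, w = Ψ u₁ ![1, 0] + Ψ u₂ ![0, 1] := by
    intro w hw
    have hαR : ∀ y ∈ R, (ρ a - 1) y ∈ R := fun y hy => R.sub_mem (hRi a y hy) hy
    have hβR : ∀ y ∈ R, (ρ b - 1) y ∈ R := fun y hy => R.sub_mem (hRi b y hy) hy
    refine ⟨-(ρ a - 1) ((ρ b - 1) w), U.neg_mem ⟨hαR _ (hβR w hw), quad_apply ha _⟩,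
      (ρ a - 1) w, ⟨hαR w hw, quad_apply ha _⟩, ?_⟩
    have h := hC w hw
    rw [quadOp, LinearMap.add_apply, Module.End.mul_apply, Module.End.mul_apply] at h
    simp only [Ψ, Matrix.cons_val_zero, Matrix.cons_val_one, one_smul, zero_smul, sub_zero, zero_sub]
    linear_combination (norm := module) h
  have hext : ∀ x y : K, (∀ w ∈ K₀, ρ x w = ρ y w) → φ₁ x = φ₁ y → ρ x = ρ y := by
    intro x y h0 h1
    refine LinearMap.ext fun w => ?_
    obtain ⟨w₁, hw₁, w₂, hw₂, rfl⟩ := Submodule.mem_sup.1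
      (show w ∈ K₀ ⊔ R from hcompl.sup_eq_top ▸ Submodule.mem_top)
    obtain ⟨u₁, hu₁, u₂, hu₂, rfl⟩ := hRspan w₂ hw₂
    simp only [map_add, h0 w₁ hw₁, hnat x _ hu₁, hnat x _ hu₂, hnat y _ hu₁, hnat y _ hu₂, h1]
  -- the torus element
  obtain ⟨lam, hlam'⟩ := IsCyclic.exists_generator (α := (ZMod p)ˣ)
  have hlam : orderOf lam = p - 1 := by
    rw [orderOf_eq_card_of_forall_mem_zpowers hlam', Nat.card_eq_fintype_card, ZMod.card_units]
  obtain ⟨dl, hdl⟩ : ∃ M : Matrix.SpecialLinearGroup (Fin 2) (ZMod p),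
      M.1 = !![(lam : ZMod p), 0; 0, ((lam⁻¹ : (ZMod p)ˣ) : ZMod p)] :=
    ⟨⟨!![(lam : ZMod p), 0; 0, ((lam⁻¹ : (ZMod p)ˣ) : ZMod p)], by simp [Matrix.det_fin_two]⟩, rfl⟩
  obtain ⟨k₁, hk₁⟩ := surjective_of_roots φ₁ h₁a h₁b dl
  obtain ⟨e, e', he', hke⟩ := Nat.exists_eq_pow_mul_and_not_dvd (orderOf_pos k₁).ne' p hp.out.ne_one
  set t := k₁ ^ p ^ e with ht
  have htc : (orderOf t).Coprime p := by
    rw [ht, orderOf_pow_of_dvd (pow_ne_zero _ hp.out.ne_zero) ⟨e', hke⟩, hke,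
      Nat.mul_div_cancel_left _ (pow_pos hp.out.pos _)]
    exact (hp.out.coprime_iff_not_dvd.2 he').symm
  have hdiagpow : ∀ j : ℕ, (dl ^ j).1 =
      !![(lam : ZMod p) ^ j, 0; 0, ((lam⁻¹ : (ZMod p)ˣ) : ZMod p) ^ j] := by
    intro j
    induction j with
    | zero => simp [Matrix.one_fin_two]
    | succ j ih =>
      rw [pow_succ, Matrix.SpecialLinearGroup.coe_mul, ih, hdl]
      simp [Matrix.mul_fin_two, pow_succ]
  have h₁t : (φ₁ t).1 = !![(lam : ZMod p), 0; 0, ((lam⁻¹ : (ZMod p)ˣ) : ZMod p)] := by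
    rw [ht, map_pow, hk₁, hdiagpow, ZMod.pow_card_pow, ZMod.pow_card_pow]
  have htj : ∀ j : ℕ, ∀ w ∈ K₀, ρ (t ^ j) w = w := fun j w hw =>
    fixes_ker_pow ha hb hgen (Nat.Coprime.coprime_dvd_left (orderOf_pow_dvd j) htc) hw
  have ht0 : ∀ w ∈ K₀, ρ t w = w := fun w hw => by simpa using htj 1 w hw
  have hti0 : ∀ w ∈ K₀, ρ t⁻¹ w = w := fun w hw =>
    fixes_ker_pow ha hb hgen (by rw [orderOf_inv]; exact htc) hw
  set q : ZMod p := (lam : ZMod p) ^ 2 with hq
  have hconjupp : ∀ x : ZMod p, φ₁ t * upp x * (φ₁ t)⁻¹ = upp (q * x) := by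
    intro x
    rw [mul_inv_eq_iff_eq_mul]
    refine Subtype.ext ?_
    rw [Matrix.SpecialLinearGroup.coe_mul, Matrix.SpecialLinearGroup.coe_mul, h₁t, upp_val, upp_val]
    rw [Matrix.mul_fin_two, Matrix.mul_fin_two]
    ext i j
    fin_cases i <;> fin_cases j <;> simp [hq, pow_two]
    field_simp
  have h2ne : (2 : ZMod p) ≠ 0 := two_ne_zero' hp2
  -- the root element
  obtain ⟨a', h₁a', ha'0⟩ : ∃ a' : K, φ₁ a' = upp 1 ∧
      ((∀ w ∈ K₀, ρ a' w = w) ∨ ((∀ w ∈ K₀, ρ a' w = ρ a w) ∧ q = 1)) := by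
    by_cases hq1 : q = 1
    · exact ⟨a, h₁a, Or.inr ⟨fun _ _ => rfl, hq1⟩⟩
    · refine ⟨(t * a * t⁻¹ * a⁻¹) ^ (q - 1)⁻¹.val, ?_, Or.inl fun w hw => ?_⟩
      · rw [map_pow, map_mul, map_mul, map_mul, map_inv, map_inv, h₁a, hconjupp, upp_inv, upp_mul,
          upp_pow, ZMod.natCast_zmod_val, mul_one, ← sub_eq_add_neg,
          inv_mul_cancel₀ (sub_ne_zero.2 hq1)]
      · induction (q - 1)⁻¹.val with
        | zero => simp
        | succ i ih =>
          rw [pow_succ', map_mul, Module.End.mul_apply, ih, map_mul, map_mul, map_mul,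
            Module.End.mul_apply, Module.End.mul_apply, Module.End.mul_apply,
            hti0 _ (hK₀i a⁻¹ w hw), ← Module.End.mul_apply (ρ a), ← map_mul, mul_inv_cancel, map_one,
            Module.End.one_apply, ht0 w hw]
  have ha'j : ∀ j : ℕ, φ₁ (a' ^ j) = upp (j : ZMod p) := fun j => by
    rw [map_pow, h₁a', upp_pow, mul_one]
  -- the fixed vector
  obtain ⟨v₀, hv₀, v₁, hv₁, hvsum⟩ := Submodule.mem_sup.1
    (show v ∈ K₀ ⊔ R from hcompl.sup_eq_top ▸ Submodule.mem_top)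
  have hav01 : ρ a v₀ = v₀ ∧ ρ a v₁ = v₁ := by
    have h : (ρ a v₀ - v₀) + (ρ a v₁ - v₁) = 0 := by
      rw [← hvsum, map_add] at hav
      rw [← sub_eq_zero] at hav
      rw [← hav]; abel
    have h1 : ρ a v₀ - v₀ ∈ K₀ := K₀.sub_mem (hK₀i a v₀ hv₀) hv₀
    have h2 : ρ a v₁ - v₁ ∈ R := R.sub_mem (hRi a v₁ hv₁) hv₁
    have h3 : ρ a v₀ - v₀ = 0 := Submodule.disjoint_def.1 hcompl.disjoint _ h1
      (by rw [eq_neg_of_add_eq_zero_left h]; exact R.neg_mem h2)
    rw [h3, zero_add] at h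
    exact ⟨sub_eq_zero.1 h3, sub_eq_zero.1 h⟩
  have hv₁U : v₁ ∈ U := ⟨hv₁, LinearMap.mem_ker.2 (by simp [hav01.2])⟩
  have hv₁0 : v₁ ≠ 0 := by
    intro h
    rw [h, add_zero] at hvsum
    exact hk₀v (fixes_ker_pow ha hb hgen hk₀ (LinearMap.mem_ker.1 (hvsum ▸ hv₀)))
  have hΨ1 : ∀ u, Ψ u ![1, 0] = u := fun u => by simp [Ψ]
  have hΨ0 : ∀ u, Ψ u ![0, 1] = -(ρ b - 1) u := fun u => by simp [Ψ]
  have hm : ((lam : ZMod p)) ^ ((p - 1) / 2) = -1 := by
    have h1 : ((lam : ZMod p) ^ ((p - 1) / 2)) * ((lam : ZMod p) ^ ((p - 1) / 2)) = 1 := by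
      rw [← pow_add, show (p - 1) / 2 + (p - 1) / 2 = p - 1 by
        obtain ⟨r, hr⟩ := hp.out.odd_of_ne_two hp2; omega, ← Units.val_pow_eq_pow_val, ← hlam,
        pow_orderOf_eq_one, Units.val_one]
    rcases mul_self_eq_one_iff.1 h1 with h | h
    · exfalso
      have h' : lam ^ ((p - 1) / 2) = 1 := Units.ext (by rw [Units.val_pow_eq_pow_val, h, Units.val_one])
      have h3 := hp.out.two_le
      have h4 := Nat.le_of_dvd (by omega) (orderOf_dvd_of_pow_eq_one h')
      omega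
    · exact h
  have hτ1 : ∀ u ∈ U, ∀ w, ρ (t ^ ((p - 1) / 2)) (Ψ u w) = -Ψ u w := by
    intro u hu w
    rw [hnat _ u hu, map_pow]
    have : (φ₁ t ^ ((p - 1) / 2)).1 = -1 := by
      rw [show φ₁ t = dl from Subtype.ext (by rw [h₁t, hdl]), hdiagpow, hm]
      rw [show ((lam⁻¹ : (ZMod p)ˣ) : ZMod p) ^ ((p - 1) / 2) = -1 by
        rw [← Units.val_pow_eq_pow_val, inv_pow, Units.val_inv_eq_inv_val, Units.val_pow_eq_pow_val, hm]
        norm_num]
      ext i j; fin_cases i <;> fin_cases j <;> simp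
    rw [this, Matrix.neg_mulVec, Matrix.one_mulVec]
    simp [Ψ]
    abel
  refine ⟨lam, t, a', hlam, htc, hext _ _ (fun w hw => ?_) ?_, ?_, ?_,
    (hext _ 1 (fun w hw => ?_) ?_).trans (map_one ρ), hext _ _ (fun w hw => ?_) ?_,
    ⟨Ψ v₁ ![0, 1], Ψ v₁ ![1, 0], ?_, ?_, ?_, ?_, ?_⟩,
    (hext _ 1 (fun w hw => ?_) ?_).trans (map_one ρ), ?_, ?_⟩
  · -- commute
    rcases ha'0 with h | ⟨h, -⟩
    · rw [map_mul, map_mul, Module.End.mul_apply, Module.End.mul_apply, h w hw, h _ (hK₀i a w hw)]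
    · rw [map_mul, map_mul, Module.End.mul_apply, Module.End.mul_apply, h w hw, h _ (hK₀i a w hw)]
  · rw [map_mul, map_mul, h₁a, h₁a', upp_mul]
  · -- fixes `v`
    rw [← hvsum, map_add, ← hΨ1 v₁, hnat _ v₁ hv₁U, h₁a']
    congr 1
    · rcases ha'0 with h | ⟨h, -⟩
      · exact h v₀ hv₀
      · rw [h v₀ hv₀, hav01.1]
    · simp [Ψ, upp_val]
  · intro h
    have h1 := hnat a' v₁ hv₁U ![0, 1]
    rw [h, Module.End.one_apply, h₁a'] at h1
    simp [Ψ, upp_val] at h1
    exact hv₁0 (sub_eq_self.1 h1.symm)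
  · rw [map_one, Module.End.one_apply, map_pow]
    rcases ha'0 with h | ⟨h, -⟩
    · have : ∀ j : ℕ, (ρ a' ^ j) w = w := by
        intro j
        induction j with
        | zero => simp
        | succ j ih => rw [pow_succ, Module.End.mul_apply, h w hw]; exact ih
      exact this p
    · have : ∀ j : ℕ, (ρ a' ^ j) w = (ρ a ^ j) w := by
        intro j
        induction j with
        | zero => rfl
        | succ j ih =>
          rw [pow_succ', pow_succ', Module.End.mul_apply, Module.End.mul_apply, ih,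
            h _ (by rw [← map_pow]; exact hK₀i _ w hw)]
      rw [this, one_add_pow_of_sq_zero ha, CharP.cast_eq_zero, zero_smul, add_zero,
        Module.End.one_apply]
  · rw [ha'j, ZMod.natCast_self, upp_zero, map_one]
  · rcases ha'0 with h | ⟨h, hq1⟩
    · have hl : ρ (t * a' * t⁻¹) w = w := by
        rw [map_mul, map_mul, Module.End.mul_apply, Module.End.mul_apply, hti0 w hw, h w hw, ht0 w hw]
      rw [hl, map_pow]
      induction ((lam : ZMod p) ^ 2).val with
      | zero => simp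
      | succ j ih => rw [pow_succ, Module.End.mul_apply, h w hw]; exact ih
    · rw [show (lam : ZMod p) ^ 2 = 1 from hq1, ZMod.val_one, pow_one, map_mul, map_mul, Module.End.mul_apply, Module.End.mul_apply,
        hti0 w hw, ht0 _ (hK₀i a' w hw)]
  · rw [ha'j, map_mul, map_mul, map_inv φ₁, h₁a', hconjupp, mul_one, ZMod.natCast_zmod_val]
  · rw [hΨ1]; exact hv₁0
  · rw [hnat _ v₁ hv₁U, h₁a']
    simp [Ψ, upp_val]
    abel
  · rw [hnat _ v₁ hv₁U, h₁a']
    simp [Ψ, upp_val]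
  · rw [hnat _ v₁ hv₁U, h₁t]
    simp [Ψ]
    module
  · rw [hnat _ v₁ hv₁U, h₁t]
    simp [Ψ]
  · rw [map_one, Module.End.one_apply, htj _ w hw]
  · rw [map_pow, show φ₁ t = dl from Subtype.ext (by rw [h₁t, hdl]), map_one]
    refine Subtype.ext ?_
    rw [hdiagpow, ← Units.val_pow_eq_pow_val, ← Units.val_pow_eq_pow_val, inv_pow,
      ← hlam, pow_orderOf_eq_one]
    simp [Matrix.one_fin_two]
  · intro h
    rw [← hvsum, map_add, htj _ v₀ hv₀, ← hΨ1 v₁, hτ1 v₁ hv₁U, add_right_inj, hΨ1] at h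
    have h' : (2 : ZMod p) • v₁ = 0 := by
      rw [two_smul]
      nth_rw 1 [← h]
      rw [neg_add_cancel]
    exact hv₁0 ((smul_eq_zero.1 h').resolve_left h2ne)
  · intro x hx
    obtain ⟨x₀, hx₀, x₁, hx₁, rfl⟩ := Submodule.mem_sup.1
      (show x ∈ K₀ ⊔ R from hcompl.sup_eq_top ▸ Submodule.mem_top)
    obtain ⟨u₁, hu₁, u₂, hu₂, rfl⟩ := hRspan x₁ hx₁
    rw [map_add, map_add, htj _ x₀ hx₀, hτ1 _ hu₁, hτ1 _ hu₂] at hx
    have h' : (2 : ZMod p) • x₀ = 0 := by
      rw [two_smul]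
      rw [← sub_eq_zero] at hx
      rw [← hx]; abel
    rw [(smul_eq_zero.1 h').resolve_left h2ne, zero_add, map_add, hnat _ _ hu₁, hnat _ _ hu₂, h₁t]
    simp only [Ψ, Matrix.mulVec, dotProduct, Fin.sum_univ_two, Matrix.of_apply, Matrix.cons_val',
      Matrix.cons_val_zero, Matrix.cons_val_one, Matrix.cons_val_fin_one, Matrix.empty_val', mul_zero,
      mul_one, add_zero, zero_add, zero_smul, sub_zero, zero_sub]
    have hu₁t : ρ t u₁ = (lam : ZMod p) • u₁ := by
      have := hnat t u₁ hu₁ ![1, 0]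
      rw [h₁t] at this
      simpa [Ψ] using this
    have hu₂t : ρ t ((ρ b - 1) u₂) = ((lam⁻¹ : (ZMod p)ˣ) : ZMod p) • (ρ b - 1) u₂ := by
      have := hnat t u₂ hu₂ ![0, 1]
      rw [h₁t] at this
      simp [Ψ] at this ⊢
      linear_combination (norm := module) -this
    simp only [map_sub, map_add, map_smul, map_neg, hu₁t, hu₂t]
    module

end Cfsg.Agent.FusionFp
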