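import Cfsg.Agent.Lib.FusionFp.Pair
import Cfsg.Agent.Lib.FusionFp.Torus

/-!
A quadratic element of a Sylow subgroup fixing a vector that some conjugate moves: a root element in
the Sylow subgroup and a torus element with primitive eigenvalues moving the vector.
-/

set_option autoImplicit false
set_option linter.style.haveILetI false

namespace Cfsg.Agent.FusionFp

open Cfsg.Agent Cfsg.Agent.PStable
open Cfsg.Agent.Functors

variable {p : ℕ} [hp : Fact p.Prime] {V : Type*} [AddCommGroup V] [Module (ZMod p) V] [Finite V]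
  {Γ : Type*} [Group Γ] [Finite Γ]

/-- Root and torus element with their eigenvectors. -/
structure TorusData (ρ : Γ →* Module.End (ZMod p) V) (v : V) (lam : (ZMod p)ˣ) (t a₁ a' : Γ) : Prop where
  order_lam : orderOf lam = p - 1
  coprime : (orderOf t).Coprime p
  comm : a₁ * a' = a' * a₁
  fix : ρ a' v = v
  ne_one : a' ≠ 1
  pow : a' ^ p = 1
  conj : t * a' * t⁻¹ = a' ^ (((lam : ZMod p) ^ 2).val)
  vectors : ∃ w₀ w₁ : V, w₁ ≠ 0 ∧ ρ a' w₀ = w₀ + w₁ ∧ ρ a' w₁ = w₁ ∧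
    ρ t w₀ = ((lam⁻¹ : (ZMod p)ˣ) : ZMod p) • w₀ ∧ ρ t w₁ = (lam : ZMod p) • w₁
  period : t ^ (p - 1) = 1
  moves : ρ (t ^ ((p - 1) / 2)) v ≠ v
  eigen : ∀ x, ρ (t ^ ((p - 1) / 2)) x = -x →
    ρ t (ρ t x - ((lam⁻¹ : (ZMod p)ˣ) : ZMod p) • x) =
      (lam : ZMod p) • (ρ t x - ((lam⁻¹ : (ZMod p)ˣ) : ZMod p) • x)

omit [Finite V] [Finite Γ] in
theorem TorusData.map {ρ : Γ →* Module.End (ZMod p) V} {v : V} {lam : (ZMod p)ˣ} {t a₁ a' : Γ}
    (h : TorusData ρ v lam t a₁ a') {y : Γ} (hy : ρ y v = v) :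
    TorusData ρ v lam (y * t * y⁻¹) (y * a₁ * y⁻¹) (y * a' * y⁻¹) := by
  have hyi : ρ y⁻¹ v = v := by
    conv_lhs => rw [← hy]
    rw [← Module.End.mul_apply, ← map_mul, inv_mul_cancel, map_one, Module.End.one_apply]
  have hcj : ∀ (x : Γ) (w : V), ρ (y * x * y⁻¹) (ρ y w) = ρ y (ρ x w) := fun x w => by
    rw [← Module.End.mul_apply, ← map_mul, ← Module.End.mul_apply, ← map_mul]; group
  have hyy : ∀ w : V, ρ y (ρ y⁻¹ w) = w := fun w => by
    rw [← Module.End.mul_apply, ← map_mul, mul_inv_cancel, map_one, Module.End.one_apply]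
  obtain ⟨w₀, w₁, h1, h2, h3, h4, h5⟩ := h.vectors
  refine ⟨h.order_lam, ?_, ?_, ?_, ?_, ?_, ?_, ⟨ρ y w₀, ρ y w₁, ?_, ?_, ?_, ?_, ?_⟩, ?_, ?_, ?_⟩
  · rw [show y * t * y⁻¹ = MulAut.conj y t by simp, MulEquiv.orderOf_eq]; exact h.coprime
  · rw [conj_mul, conj_mul, h.comm]
  · rw [← hy, hcj, h.fix]
  · simpa [conj_eq_one_iff] using h.ne_one
  · rw [conj_pow, h.pow, mul_one, mul_inv_cancel]
  · rw [conj_pow, ← h.conj]; group
  · intro h0
    exact h1 (by rw [← Module.End.one_apply (R := ZMod p) w₁, ← map_one ρ, ← inv_mul_cancel y, map_mul,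
      Module.End.mul_apply, h0, map_zero])
  · rw [hcj, h2, map_add]
  · rw [hcj, h3]
  · rw [hcj, h4, map_smul]
  · rw [hcj, h5, map_smul]
  · rw [conj_pow, h.period, mul_one, mul_inv_cancel]
  · intro h0
    refine h.moves ?_
    rw [conj_pow] at h0
    have h' : ρ y⁻¹ (ρ (y * t ^ ((p - 1) / 2) * y⁻¹) v) = ρ y⁻¹ v := by rw [h0]
    rw [hyi, map_mul, map_mul, Module.End.mul_apply, Module.End.mul_apply, hyi,
      ← Module.End.mul_apply, ← map_mul, inv_mul_cancel, map_one, Module.End.one_apply] at h'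
    exact h'
  · intro x hx
    rw [conj_pow] at hx
    rw [← hyy x] at hx ⊢
    generalize ρ y⁻¹ x = z at hx ⊢
    rw [hcj, ← map_neg] at hx
    have hz : ρ (t ^ ((p - 1) / 2)) z = -z := by
      have hyl : ∀ w : V, ρ y⁻¹ (ρ y w) = w := fun w => by
        rw [← Module.End.mul_apply, ← map_mul, inv_mul_cancel, map_one, Module.End.one_apply]
      have h' := congrArg (ρ y⁻¹) hx
      rwa [hyl, hyl] at h'
    rw [hcj, ← map_smul, ← map_sub, hcj, h.eigen z hz, map_smul]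

/-- The module lemma. -/
theorem exists_torusData (hp2 : p ≠ 2) (ρ : Γ →* Module.End (ZMod p) V) (hinj : Function.Injective ρ)
    (P : Sylow p Γ) {v : V} (hPv : ∀ x ∈ (P : Subgroup Γ), ρ x v = v) {a : Γ}
    (haP : a ∈ (P : Subgroup Γ)) (ha : (ρ a - 1) ^ 2 = 0) (hmov : ∃ g : Γ, ρ (g * a * g⁻¹) v ≠ v) :
    ∃ (lam : (ZMod p)ˣ) (t a₁ a' : Γ), a₁ ∈ (P : Subgroup Γ) ∧ a' ∈ (P : Subgroup Γ) ∧ IsConj a a₁ ∧
      TorusData ρ v lam t a₁ a' := by
  classical
  let St : Subgroup Γ :=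
    { carrier := {x | ρ x v = v}
      one_mem' := by show ρ 1 v = v; simp
      mul_mem' := fun {x y} hx hy => by
        show ρ (x * y) v = v
        rw [map_mul, Module.End.mul_apply, hy, hx]
      inv_mem' := fun {x} hx => by
        show ρ x⁻¹ v = v
        conv_lhs => rw [← show ρ x v = v from hx]
        rw [← Module.End.mul_apply, ← map_mul, inv_mul_cancel, map_one, Module.End.one_apply] }
  have hquad : ∀ x, IsConj a x → (ρ x - 1) ^ 2 = 0 := fun x hx => by
    obtain ⟨g, rfl⟩ := isConj_iff.1 hx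
    exact quad_conj ha g
  obtain ⟨d₀, hd₀, hd₀a, e₀, he₀a, hk⟩ := exists_mixed_pair P St hPv haP hmov
  -- minimal pair
  obtain ⟨⟨d, e⟩, ⟨hdP, hda, hea, k₀, hk₀, hk₀p, hk₀v⟩, hmin⟩ := Set.exists_min_image
    {de : Γ × Γ | de.1 ∈ (P : Subgroup Γ) ∧ IsConj a de.1 ∧ IsConj a de.2 ∧
      ∃ k ∈ Subgroup.closure ({de.1, de.2} : Set Γ), (orderOf k).Coprime p ∧ k ∉ St}
    (fun de => Nat.card ↥(Subgroup.closure ({de.1, de.2} : Set Γ))) (Set.toFinite _)
    ⟨(d₀, e₀), hd₀, hd₀a, he₀a, hk⟩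
  set K := Subgroup.closure ({d, e} : Set Γ) with hK
  have hdK : d ∈ K := Subgroup.subset_closure (Set.mem_insert _ _)
  have heK : e ∈ K := Subgroup.subset_closure (Set.mem_insert_of_mem _ rfl)
  set ρK := ρ.comp K.subtype with hρK
  set dK : K := ⟨d, hdK⟩ with hdKdef
  set eK : K := ⟨e, heK⟩ with heKdef
  have hgen : Subgroup.closure ({dK, eK} : Set K) = ⊤ := by
    refine Subgroup.map_injective K.subtype_injective ?_
    rw [MonoidHom.map_closure, Set.image_insert_eq, Set.image_singleton, ← MonoidHom.range_eq_map,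
      Subgroup.range_subtype]
    rfl
  have hmap : ∀ k : K, (Subgroup.closure ({dK, k * dK * k⁻¹} : Set K)).map K.subtype =
      Subgroup.closure ({d, (k : Γ) * d * (k : Γ)⁻¹} : Set Γ) := fun k => by
    rw [MonoidHom.map_closure, Set.image_insert_eq, Set.image_singleton]
    rfl
  obtain ⟨φ₁, k, hgen', h₁a, h₁b, htrans⟩ := exists_sl2_pair (ρ := ρK) hp2 (a := dK) (b := eK)
    (hquad d hda) (hquad e hea) hgen (v := v) (hPv d hdP) (k₀ := ⟨k₀, hk₀⟩)
    (by rw [← Subgroup.orderOf_coe]; exact hk₀p) hk₀v (by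
      intro k hne j hj hjp
      by_contra hjv
      have hle : Subgroup.closure ({d, (k : Γ) * d * (k : Γ)⁻¹} : Set Γ) ≤ K := by
        rw [← hmap]; exact Subgroup.map_subtype_le _
      have h1 := hmin (d, (k : Γ) * d * (k : Γ)⁻¹) ⟨hdP, hda,
        hda.trans (isConj_iff.2 ⟨(k : Γ), rfl⟩), (j : Γ), hmap k ▸ Subgroup.mem_map_of_mem _ hj,
        by rw [Subgroup.orderOf_coe]; exact hjp, hjv⟩
      have heq := Subgroup.eq_of_le_of_card_ge hle h1
      refine hne (Subgroup.map_injective K.subtype_injective ?_)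
      rw [hmap, heq, ← MonoidHom.range_eq_map, Subgroup.range_subtype])
  obtain ⟨lam, t, a', hlam, htc, hcomm, hfix, hne, hpow, hconj, hvec, hper, hmoves, heig⟩ :=
    exists_torus (ρ := ρK) hp2 (a := dK) (b := k * dK * k⁻¹) (hquad d hda)
      (quad_conj (hquad d hda) k) hgen' φ₁ h₁a h₁b htrans (v := v) (hPv d hdP) (k₀ := ⟨k₀, hk₀⟩)
      (by rw [← Subgroup.orderOf_coe]; exact hk₀p) hk₀v
  have hinjK : Function.Injective ρK := hinj.comp K.subtype_injective
  have hdata : TorusData ρ v lam (t : Γ) d (a' : Γ) := by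
    refine ⟨hlam, by rw [Subgroup.orderOf_coe]; exact htc, congrArg Subtype.val (hinjK hcomm), hfix,
      fun h => hne ?_, congrArg Subtype.val (hinjK (hpow.trans (map_one ρK).symm)),
      congrArg Subtype.val (hinjK hconj), hvec,
      congrArg Subtype.val (hinjK (hper.trans (map_one ρK).symm)), hmoves, heig⟩
    rw [show a' = (1 : K) from Subtype.ext h, map_one]
  -- into the Sylow subgroup, fixing `v`
  set D := Subgroup.closure ({d, (a' : Γ)} : Set Γ) with hD
  have hDSt : D ≤ St := by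
    rw [hD, Subgroup.closure_le]
    rintro x (rfl | rfl)
    exacts [hPv _ hdP, hfix]
  have hDp : IsPGroup p D := by
    have h1 : IsPGroup p (Subgroup.zpowers d) := P.isPGroup'.to_le (Subgroup.zpowers_le.2 hdP)
    have h2 : IsPGroup p (Subgroup.zpowers (a' : Γ)) := by
      intro x
      refine ⟨1, Subtype.ext ?_⟩
      obtain ⟨i, hi⟩ := Subgroup.mem_zpowers_iff.1 x.2
      rw [pow_one, SubmonoidClass.coe_pow, ← hi, ← zpow_natCast, ← _root_.zpow_mul, mul_comm i,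
        _root_.zpow_mul, zpow_natCast, hdata.pow, _root_.one_zpow, Subgroup.coe_one]
    have h3 : Subgroup.zpowers (a' : Γ) ≤ Subgroup.normalizer ((Subgroup.zpowers d : Subgroup Γ) : Set Γ) := by
      rw [Subgroup.zpowers_le, Subgroup.mem_normalizer_iff_map_conj_eq, MonoidHom.map_zpowers]
      congr 1
      show (a' : Γ) * d * (a' : Γ)⁻¹ = d
      rw [← hdata.comm, mul_inv_cancel_right]
    refine (h2.to_sup_of_normal_right' h1 h3).to_le ?_
    rw [hD, Subgroup.closure_le]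
    rintro x (rfl | rfl)
    exacts [Subgroup.mem_sup_right (Subgroup.mem_zpowers _), Subgroup.mem_sup_left (Subgroup.mem_zpowers _)]
  obtain ⟨y, hy, hyD⟩ := exists_conj_le_of_isSylowIn ((isSylowIn_sylow P).of_le hPv le_top) hDp hDSt
  exact ⟨lam, y * (t : Γ) * y⁻¹, y * d * y⁻¹, y * (a' : Γ) * y⁻¹,
    hyD ⟨d, Subgroup.subset_closure (Set.mem_insert _ _), rfl⟩,
    hyD ⟨(a' : Γ), Subgroup.subset_closure (Set.mem_insert_of_mem _ rfl), rfl⟩,
    isConj_cj y hda, hdata.map hy⟩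

end Cfsg.Agent.FusionFp
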