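import Mathlib.GroupTheory.PGroup
import Mathlib.RingTheory.Artinian.Module
import Cfsg.Agent.Lib.PStable.DicksonMain
import Cfsg.Agent.Lib.PStable.QuadraticPair
import Cfsg.Agent.Lib.Functors.ChiefAct

/-!
The operator `αβ + βα` of a pair of quadratic elements `1 + α`, `1 + β`.
-/

set_option autoImplicit false
set_option linter.style.haveILetI false

namespace Cfsg.Agent.FusionFp

open Cfsg.Agent Cfsg.Agent.PStable
open Matrix

universe u

section
variable {F : Type*} [Field F] {V : Type*} [AddCommGroup V] [Module F V] {K : Type*} [Group K]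

/-- `αβ + βα`. -/
def quadOp (ρ : K →* Module.End F V) (a b : K) : Module.End F V :=
  (ρ a - 1) * (ρ b - 1) + (ρ b - 1) * (ρ a - 1)

variable {ρ : K →* Module.End F V} {a b : K}

theorem quad_apply (ha : (ρ a - 1) ^ 2 = 0) (x : V) : (ρ a - 1) ((ρ a - 1) x) = 0 := by
  simpa [pow_two] using LinearMap.congr_fun ha x

theorem quad_conj (ha : (ρ a - 1) ^ 2 = 0) (k : K) : (ρ (k * a * k⁻¹) - 1) ^ 2 = 0 := by
  have e : ρ (k * a * k⁻¹) - 1 = ρ k * (ρ a - 1) * ρ k⁻¹ := by
    rw [map_mul, map_mul, mul_sub, mul_one, sub_mul, ← map_mul ρ k k⁻¹, mul_inv_cancel, map_one]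
  rw [e, pow_two, show ρ k * (ρ a - 1) * ρ k⁻¹ * (ρ k * (ρ a - 1) * ρ k⁻¹)
      = ρ k * ((ρ a - 1) * (ρ k⁻¹ * ρ k) * (ρ a - 1)) * ρ k⁻¹ by simp only [mul_assoc],
    ← map_mul, inv_mul_cancel, map_one, mul_one, ← pow_two, ha, mul_zero, zero_mul]

theorem quadOp_mul_left (ha : (ρ a - 1) ^ 2 = 0) :
    quadOp ρ a b * (ρ a - 1) = (ρ a - 1) * quadOp ρ a b ∧
      (ρ a - 1) * (ρ b - 1) * (ρ a - 1) = quadOp ρ a b * (ρ a - 1) := by
  rw [pow_two] at ha
  simp only [quadOp, add_mul, mul_add, mul_assoc, ha, mul_zero, add_zero]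
  simp only [← mul_assoc, ha, zero_mul, zero_add, and_self]

theorem quadOp_comm (ha : (ρ a - 1) ^ 2 = 0) (hb : (ρ b - 1) ^ 2 = 0)
    (hgen : Subgroup.closure ({a, b} : Set K) = ⊤) (x : K) : Commute (quadOp ρ a b) (ρ x) := by
  set C := quadOp ρ a b with hC
  let N : Subgroup K :=
    { carrier := {x | Commute C (ρ x)}
      one_mem' := by
        show Commute C (ρ 1)
        rw [map_one]; exact Commute.one_right C
      mul_mem' := fun {x y} hx hy => by
        show Commute C (ρ (x * y))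
        rw [map_mul]; exact Commute.mul_right hx hy
      inv_mem' := fun {x} hx => by
        show C * ρ x⁻¹ = ρ x⁻¹ * C
        have hx' : C * ρ x = ρ x * C := hx
        calc C * ρ x⁻¹ = ρ x⁻¹ * (ρ x * C) * ρ x⁻¹ := by
              rw [← mul_assoc (ρ x⁻¹), ← map_mul, inv_mul_cancel, map_one, one_mul]
          _ = ρ x⁻¹ * C := by
              rw [← hx', ← mul_assoc, mul_assoc (ρ x⁻¹ * C), ← map_mul, mul_inv_cancel, map_one,
                mul_one] }
  have h1 : C * (ρ a - 1) = (ρ a - 1) * C := (quadOp_mul_left ha).1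
  have h2 : C * (ρ b - 1) = (ρ b - 1) * C := by
    have h := (quadOp_mul_left (a := b) (b := a) hb).1
    rwa [hC, quadOp, add_comm]
  have hN : ∀ y : K, C * (ρ y - 1) = (ρ y - 1) * C → y ∈ N := fun y hy => by
    rw [mul_sub, sub_mul, mul_one, one_mul, sub_left_inj] at hy
    exact hy
  have hx : x ∈ Subgroup.closure ({a, b} : Set K) := hgen ▸ Subgroup.mem_top x
  exact (Subgroup.closure_le N).2 (by rintro y (rfl | rfl); exacts [hN _ h1, hN _ h2]) hx

theorem quadOp_pow_comm (ha : (ρ a - 1) ^ 2 = 0) (hb : (ρ b - 1) ^ 2 = 0)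
    (hgen : Subgroup.closure ({a, b} : Set K) = ⊤) (n : ℕ) (x : K) (w : V) :
    (quadOp ρ a b ^ n) (ρ x w) = ρ x ((quadOp ρ a b ^ n) w) :=
  LinearMap.congr_fun ((quadOp_comm ha hb hgen x).pow_left n).eq w

theorem quadOp_pow_mem {W : Submodule F V} (hW : ∀ x : K, ∀ w ∈ W, ρ x w ∈ W) :
    ∀ (n : ℕ), ∀ w ∈ W, (quadOp ρ a b ^ n) w ∈ W := by
  have h1 : ∀ x : K, ∀ w ∈ W, (ρ x - 1) w ∈ W := fun x w hw => W.sub_mem (hW x w hw) hw
  intro n
  induction n with
  | zero => intro w hw; simpa using hw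
  | succ n ih =>
    intro w hw
    rw [pow_succ, Module.End.mul_apply]
    exact ih _ (W.add_mem (h1 _ _ (h1 _ _ hw)) (h1 _ _ (h1 _ _ hw)))

/-- The restriction to an invariant submodule. -/
def restrictRep (ρ : K →* Module.End F V) (W : Submodule F V) (hW : ∀ x : K, ∀ w ∈ W, ρ x w ∈ W) :
    K →* Module.End F W where
  toFun x := (ρ x).restrict (hW x)
  map_one' := LinearMap.ext fun w => Subtype.ext (by simp)
  map_mul' x y := LinearMap.ext fun w => Subtype.ext (by simp)

theorem restrictRep_apply (W : Submodule F V) (hW : ∀ x : K, ∀ w ∈ W, ρ x w ∈ W) (x : K) (w : W) :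
    (restrictRep ρ W hW x w : V) = ρ x (w : V) := rfl

theorem restrictRep_quad (W : Submodule F V) (hW : ∀ x : K, ∀ w ∈ W, ρ x w ∈ W) {x : K}
    (hx : (ρ x - 1) ^ 2 = 0) : (restrictRep ρ W hW x - 1) ^ 2 = 0 := by
  refine LinearMap.ext fun w => Subtype.ext ?_
  simpa [pow_two, restrictRep_apply] using quad_apply hx (w : V)

/-- An intertwining map to `F²` carries `αβ + βα` to the scalar `μν`. -/
theorem map_quadOp {E : Type*} [Field E] (φ : K →* Matrix.SpecialLinearGroup (Fin 2) E) {μ ν : E}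
    (hφa : φ a = upp μ) (hφb : φ b = low ν) {W : Submodule F V} (π : W → (Fin 2 → E))
    (hπsub : ∀ x y : W, π (x - y) = π x - π y) (hπadd : ∀ x y : W, π (x + y) = π x + π y)
    (hW : ∀ x : K, ∀ w ∈ W, ρ x w ∈ W)
    (hπ : ∀ (x : K) (w : W), π ⟨ρ x w, hW x w w.2⟩ = (φ x : Matrix (Fin 2) (Fin 2) E) *ᵥ π w)
    (n : ℕ) (w : W) :
    π ⟨(quadOp ρ a b ^ n) (w : V), quadOp_pow_mem hW n w w.2⟩ = (μ * ν) ^ n • π w := by
  induction n generalizing w with
  | zero => simp
  | succ n ih =>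
    have hα : ∀ w : W, π (restrictRep ρ W hW a w - w) = ![μ * π w 1, 0] := fun w => by
      rw [hπsub, show restrictRep ρ W hW a w = ⟨ρ a w, hW a w w.2⟩ from rfl, hπ, hφa]
      funext i; fin_cases i <;> simp [upp_val, Matrix.mulVec, dotProduct, Fin.sum_univ_two]
    have hβ : ∀ w : W, π (restrictRep ρ W hW b w - w) = ![0, ν * π w 0] := fun w => by
      rw [hπsub, show restrictRep ρ W hW b w = ⟨ρ b w, hW b w w.2⟩ from rfl, hπ, hφb]
      funext i; fin_cases i <;> simp [low_val, Matrix.mulVec, dotProduct, Fin.sum_univ_two]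
    set α := fun w : W => restrictRep ρ W hW a w - w with hαdef
    set β := fun w : W => restrictRep ρ W hW b w - w with hβdef
    have h1 : π (α (β w) + β (α w)) = (μ * ν) • π w := by
      rw [hπadd]
      simp only [hαdef, hβdef]
      rw [hα, hβ, hβ, hα]
      funext i; fin_cases i <;> simp [mul_assoc, mul_left_comm]
    have e : (⟨(quadOp ρ a b ^ (n + 1)) (w : V), quadOp_pow_mem hW (n + 1) w w.2⟩ : W) =
        ⟨(quadOp ρ a b ^ n) ((α (β w) + β (α w) : W) : V),
          quadOp_pow_mem hW n _ (α (β w) + β (α w)).2⟩ := Subtype.ext (by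
      rw [Subtype.coe_mk, Subtype.coe_mk, pow_succ, Module.End.mul_apply]
      simp [hαdef, hβdef, quadOp, restrictRep_apply])
    rw [e, ih, h1, smul_smul, pow_succ]

end

variable {p : ℕ} [hp : Fact p.Prime] {V : Type*} [AddCommGroup V] [Module (ZMod p) V] [Finite V]
  {K : Type*} [Group K] [Finite K] {ρ : K →* Module.End (ZMod p) V} {a b : K}

/-- The common fixed space of the `p'`-elements. -/
def fixCop (ρ : K →* Module.End (ZMod p) V) (W : Submodule (ZMod p) V) : Submodule (ZMod p) V :=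
  W ⊓ ⨅ x : {x : K // (orderOf x).Coprime p}, LinearMap.ker (ρ x.1 - 1)

omit [Finite V] [Finite K] in
theorem mem_fixCop {W : Submodule (ZMod p) V} {w : V} :
    w ∈ fixCop ρ W ↔ w ∈ W ∧ ∀ x : K, (orderOf x).Coprime p → ρ x w = w := by
  simp [fixCop, sub_eq_zero]

omit [Finite V] [Finite K] in
theorem fixCop_invariant {W : Submodule (ZMod p) V} (hW : ∀ x : K, ∀ w ∈ W, ρ x w ∈ W) (y : K) :
    ∀ w ∈ fixCop ρ W, ρ y w ∈ fixCop ρ W := by
  intro w hw
  rw [mem_fixCop] at hw ⊢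
  refine ⟨hW y w hw.1, fun x hx => ?_⟩
  have hx' : (orderOf (y⁻¹ * x * y)).Coprime p := by
    rw [show y⁻¹ * x * y = MulAut.conj y⁻¹ x by simp, MulEquiv.orderOf_eq]; exact hx
  calc ρ x (ρ y w) = ρ y (ρ (y⁻¹ * x * y) w) := by
        rw [← Module.End.mul_apply, ← map_mul, ← Module.End.mul_apply, ← map_mul]; group
    _ = ρ y w := by rw [hw.2 _ hx']

theorem end_pow_apply_zero (f : Module.End (ZMod p) V) {w : V} (h : f w = 0) {n : ℕ} (hn : 1 ≤ n) :
    (f ^ n) w = 0 := by
  obtain ⟨m, rfl⟩ := Nat.exists_eq_add_of_le hn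
  rw [add_comm, pow_succ, Module.End.mul_apply, h, map_zero]

/-- The `p'`-elements move something wherever `αβ + βα` is injective. -/
theorem eq_bot_of_fixed (W : Submodule (ZMod p) V) (hW : ∀ x : K, ∀ w ∈ W, ρ x w ∈ W)
    (hfix : ∀ x : K, (orderOf x).Coprime p → ∀ w ∈ W, ρ x w = w)
    (hinj : ∀ w ∈ W, quadOp ρ a b w = 0 → w = 0) : W = ⊥ := by
  by_contra hne
  set f : K →* (Module.End (ZMod p) W)ˣ := (restrictRep ρ W hW).toHomUnits with hf
  have hker : ∀ x : K, (orderOf x).Coprime p → f x = 1 := fun x hx =>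
    Units.ext (LinearMap.ext fun w => Subtype.ext (by simpa [hf, restrictRep_apply] using hfix x hx w w.2))
  have hp' : IsPGroup p f.range := by
    rintro ⟨_, x, rfl⟩
    obtain ⟨k, hk⟩ := ChiefAct.exists_pow_mem_of_coprime_mem (p := p) (K := (⊤ : Subgroup K))
      (C := f.ker) (fun y _ hy => hker y hy) (Subgroup.mem_top x)
    exact ⟨k, Subtype.ext (by rw [SubmonoidClass.coe_pow, ← map_pow]; exact hk)⟩
  letI : MulAction f.range W :=
    { smul := fun g w => (g.1 : Module.End (ZMod p) W) w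
      one_smul := fun w => rfl
      mul_smul := fun g h w => rfl }
  have hdvd : p ∣ Nat.card W := by
    haveI : Nontrivial W := Submodule.nontrivial_iff_ne_bot.2 hne
    obtain ⟨w, hw⟩ := exists_ne (0 : W)
    have h1 : addOrderOf w = p :=
      addOrderOf_eq_prime (by rw [← Nat.cast_smul_eq_nsmul (ZMod p), ZMod.natCast_self, zero_smul]) hw
    have h2 := addOrderOf_dvd_natCard w
    rw [h1] at h2
    exact h2
  have h0 : (0 : W) ∈ MulAction.fixedPoints f.range W := fun g =>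
    LinearMap.map_zero (g.1 : Module.End (ZMod p) W)
  obtain ⟨w, hw, hw0⟩ := hp'.exists_fixed_point_of_prime_dvd_card_of_fixed_point W hdvd h0
  have hfixed : ∀ x : K, ρ x (w : V) = w := fun x => congrArg Subtype.val (hw ⟨f x, x, rfl⟩)
  refine hw0 (Subtype.ext (hinj w w.2 ?_).symm)
  simp [quadOp, hfixed]

/-- `p'`-elements fix the kernels of the powers of `αβ + βα`. -/
theorem fixes_ker_pow (ha : (ρ a - 1) ^ 2 = 0) (hb : (ρ b - 1) ^ 2 = 0)
    (hgen : Subgroup.closure ({a, b} : Set K) = ⊤) {k : K} (hk : (orderOf k).Coprime p)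
    {n : ℕ} {w : V} (hw : (quadOp ρ a b ^ n) w = 0) : ρ k w = w := by
  set W := LinearMap.ker (quadOp ρ a b ^ n) with hWdef
  have hW : ∀ x : K, ∀ w ∈ W, ρ x w ∈ W := fun x w hw => by
    rw [hWdef, LinearMap.mem_ker] at hw ⊢
    rw [quadOp_pow_comm ha hb hgen, hw, map_zero]
  by_contra hne
  obtain ⟨E, hEf, hEa, hEfin, μ, φ, W₁, π, hW₁, hμ0, hφa, hφb, -, hπ, heq, -⟩ :=
    exists_pair_section (p := p) (restrictRep ρ W hW) hgen (restrictRep_quad W hW ha)
      (restrictRep_quad W hW hb) (k₀ := k) (fun h => hne (by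
        have := congrArg Subtype.val (LinearMap.congr_fun h (⟨w, hw⟩ : W))
        simpa [restrictRep_apply] using this)) hk
  obtain ⟨x, hx⟩ := hπ ![1, 0]
  have h1 := map_quadOp φ hφa hφb π (fun x y => map_sub π x y) (fun x y => map_add π x y) hW₁ heq n x
  have h2 : (⟨(quadOp (restrictRep ρ W hW) a b ^ n) (x : W), quadOp_pow_mem hW₁ n x x.2⟩ : W₁) = 0 := by
    have hpow : ∀ (m : ℕ) (y : W),
        (((quadOp (restrictRep ρ W hW) a b ^ m) y : W) : V) = (quadOp ρ a b ^ m) (y : V) := by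
      intro m
      induction m with
      | zero => intro y; rfl
      | succ m ih =>
        intro y
        rw [pow_succ, pow_succ, Module.End.mul_apply, Module.End.mul_apply, ih]
        simp [quadOp, restrictRep_apply]
    refine Subtype.ext (Subtype.ext ?_)
    rw [hpow]
    exact (x : W).2
  rw [h2, map_zero, hx, mul_one] at h1
  have h3 := congrFun h1 0
  simp at h3
  exact pow_ne_zero n hμ0 h3.symm

/-- A power after which kernel and range are complementary and stable. -/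
theorem exists_fitting (f : Module.End (ZMod p) V) :
    ∃ n : ℕ, 1 ≤ n ∧ IsCompl (LinearMap.ker (f ^ n)) (LinearMap.range (f ^ n)) ∧
      ∀ w ∈ LinearMap.range (f ^ n), f w = 0 → w = 0 := by
  obtain ⟨n, hn⟩ := Filter.eventually_atTop.1 f.eventually_isCompl_ker_pow_range_pow
  refine ⟨max n 1, le_max_right _ _, hn _ (le_max_left _ _), fun w hw h => ?_⟩
  have h1 : w ∈ LinearMap.ker (f ^ max n 1) := end_pow_apply_zero f h (le_max_right _ _)
  exact (Submodule.disjoint_def.1 (hn _ (le_max_left _ _)).disjoint) w h1 hw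

/-- A vector outside every kernel is moved by a `p'`-element. -/
theorem exists_moved (ha : (ρ a - 1) ^ 2 = 0) (hb : (ρ b - 1) ^ 2 = 0)
    (hgen : Subgroup.closure ({a, b} : Set K) = ⊤) {v : V}
    (hv : ∀ n : ℕ, (quadOp ρ a b ^ n) v ≠ 0) : ∃ k : K, (orderOf k).Coprime p ∧ ρ k v ≠ v := by
  by_contra hno
  push Not at hno
  obtain ⟨n, -, -, hinj⟩ := exists_fitting (quadOp ρ a b)
  set R := LinearMap.range (quadOp ρ a b ^ n) with hR
  have hRW : ∀ x : K, ∀ w ∈ R, ρ x w ∈ R := by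
    rintro x _ ⟨y, rfl⟩
    exact ⟨ρ x y, quadOp_pow_comm ha hb hgen n x y⟩
  have h := eq_bot_of_fixed (a := a) (b := b) (fixCop ρ R) (fixCop_invariant hRW)
    (fun x hx w hw => (mem_fixCop.1 hw).2 x hx) fun w hw => hinj w (mem_fixCop.1 hw).1
  have h1 : (quadOp ρ a b ^ n) v ∈ fixCop ρ R := mem_fixCop.2 ⟨⟨v, rfl⟩, fun x hx => by
    rw [← quadOp_pow_comm ha hb hgen, hno x hx]⟩
  rw [h, Submodule.mem_bot] at h1
  exact hv n h1

end Cfsg.Agent.FusionFp
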