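import Mathlib.GroupTheory.OrderOfElement
import Mathlib.Data.ZMod.Units
import Mathlib.FieldTheory.Finite.Basic
import Mathlib.LinearAlgebra.Matrix.SpecialLinearGroup
import Cfsg.Agent.Lib.LocalEven.Involvement
import Cfsg.Prelude.Def_LocalEven

/-!
The group `fOver (ZMod p)` as a section, from a root element and a torus element on a plane.
-/

set_option autoImplicit false
set_option linter.style.haveILetI false

namespace Cfsg.Agent.FusionFp

open Matrix

attribute [-simp] ZMod.inv_coe_unit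

variable {p : ℕ} [hp : Fact p.Prime]

/-- The affine matrix `(a b c; 0 a⁻¹ d; 0 0 1)`. -/
def aff (a : (ZMod p)ˣ) (b c d : ZMod p) : Matrix.SpecialLinearGroup (Fin 3) (ZMod p) :=
  ⟨!![(a : ZMod p), b, c; 0, ((a⁻¹ : (ZMod p)ˣ) : ZMod p), d; 0, 0, 1], by
    rw [Matrix.det_fin_three]; simp⟩

theorem aff_mul (a a' : (ZMod p)ˣ) (b b' c c' d d' : ZMod p) :
    aff a b c d * aff a' b' c' d' = aff (a * a') ((a : ZMod p) * b' + b * ((a'⁻¹ : (ZMod p)ˣ) : ZMod p))
      ((a : ZMod p) * c' + b * d' + c) (((a⁻¹ : (ZMod p)ˣ) : ZMod p) * d' + d) := by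
  apply Subtype.ext
  rw [Matrix.SpecialLinearGroup.coe_mul]
  ext i j
  fin_cases i <;> fin_cases j <;>
    simp [aff, Matrix.mul_apply, Fin.sum_univ_three, mul_comm]

theorem aff_mem (a : (ZMod p)ˣ) (b c d : ZMod p) : aff a b c d ∈ Cfsg.fOver (ZMod p) :=
  Subgroup.subset_closure ⟨by simp [aff], by simp [aff], by simp [aff], by simp [aff]⟩

theorem aff_one : aff (1 : (ZMod p)ˣ) 0 0 0 = 1 := by
  apply Subtype.ext
  ext i j
  fin_cases i <;> fin_cases j <;> simp [aff]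

theorem exists_aff {M : Matrix.SpecialLinearGroup (Fin 3) (ZMod p)}
    (h10 : (M : Matrix (Fin 3) (Fin 3) (ZMod p)) 1 0 = 0) (h20 : (M : Matrix (Fin 3) (Fin 3) (ZMod p)) 2 0 = 0)
    (h21 : (M : Matrix (Fin 3) (Fin 3) (ZMod p)) 2 1 = 0) (h22 : (M : Matrix (Fin 3) (Fin 3) (ZMod p)) 2 2 = 1) :
    ∃ a b c d, M = aff a b c d := by
  have hdet : (M : Matrix (Fin 3) (Fin 3) (ZMod p)).det = 1 := M.2
  rw [Matrix.det_fin_three, h10, h20, h21, h22] at hdet
  simp only [mul_zero, zero_mul, sub_zero, add_zero, mul_one] at hdet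
  refine ⟨⟨_, (M : Matrix (Fin 3) (Fin 3) (ZMod p)) 1 1, hdet, by rw [mul_comm]; exact hdet⟩,
    (M : Matrix (Fin 3) (Fin 3) (ZMod p)) 0 1, (M : Matrix (Fin 3) (Fin 3) (ZMod p)) 0 2,
    (M : Matrix (Fin 3) (Fin 3) (ZMod p)) 1 2, Subtype.ext ?_⟩
  ext i j
  fin_cases i <;> fin_cases j <;> simp [aff, h10, h20, h21, h22]

theorem aff_upp_pow (b : ZMod p) (n : ℕ) :
    aff (1 : (ZMod p)ˣ) b 0 0 ^ n = aff 1 ((n : ZMod p) * b) 0 0 := by
  induction n with
  | zero => simp [aff_one]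
  | succ n ih => rw [pow_succ, ih, aff_mul]; congr 1 <;> simp; ring

theorem aff_trans_pow (c d : ZMod p) (n : ℕ) :
    aff (1 : (ZMod p)ˣ) 0 c d ^ n = aff 1 0 ((n : ZMod p) * c) ((n : ZMod p) * d) := by
  induction n with
  | zero => simp [aff_one]
  | succ n ih => rw [pow_succ, ih, aff_mul]; congr 1 <;> simp <;> ring

theorem aff_diag_pow (a : (ZMod p)ˣ) (n : ℕ) : aff a 0 0 0 ^ n = aff (a ^ n) 0 0 0 := by
  induction n with
  | zero => simp [aff_one]
  | succ n ih => rw [pow_succ, ih, aff_mul, pow_succ]; congr 1 <;> simp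

variable {G : Type*} [Group G] [Finite G] {Γ : Type*} [Group Γ]

/-- The section. -/
theorem involves_fOver (hp2 : p ≠ 2) (H : Subgroup G) (π : G →* Γ) {h e w₀ w₁ : G} (hh : h ∈ H)
    (he : e ∈ H) (hw₀ : w₀ ∈ H) (hw₁ : w₁ ∈ H) {lam : (ZMod p)ˣ} (hlam : orderOf lam = p - 1)
    (hcomm : π w₀ * π w₁ = π w₁ * π w₀) (hp0 : π w₀ ^ p = 1) (hp1 : π w₁ ^ p = 1)
    (hne : π w₁ ≠ 1) (he0 : π e * π w₀ * (π e)⁻¹ = π w₀ * π w₁)
    (he1 : π e * π w₁ * (π e)⁻¹ = π w₁)
    (hh0 : π h * π w₀ * (π h)⁻¹ = π w₀ ^ ((lam⁻¹ : (ZMod p)ˣ) : ZMod p).val)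
    (hh1 : π h * π w₁ * (π h)⁻¹ = π w₁ ^ (lam : ZMod p).val)
    (hηe : π (h ^ ((p - 1) / 2)) * π e = π e * π (h ^ ((p - 1) / 2))) :
    Cfsg.Involves ↥(Cfsg.fOver (ZMod p)) ↥H := by
  classical
  let ι : (Fin 2 → ZMod p) → Γ := fun x => π w₁ ^ (x 0).val * π w₀ ^ (x 1).val
  have hpowval : ∀ (u : Γ), u ^ p = 1 → ∀ n : ℕ, u ^ n = u ^ ((n : ZMod p)).val := fun u hu n => by
    rw [ZMod.val_natCast, pow_eq_pow_mod n hu]
  have ι_nat : ∀ i j : ℕ, π w₁ ^ i * π w₀ ^ j = ι ![(i : ZMod p), (j : ZMod p)] := fun i j => by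
    show _ = π w₁ ^ _ * π w₀ ^ _
    simp only [Matrix.cons_val_zero, Matrix.cons_val_one]
    rw [← hpowval _ hp1, ← hpowval _ hp0]
  have hsplit : ∀ x : Fin 2 → ZMod p, x = ![((x 0).val : ZMod p), ((x 1).val : ZMod p)] := fun x => by
    funext i; fin_cases i <;> simp
  have ι_add : ∀ x y, ι (x + y) = ι x * ι y := fun x y => by
    have h1 : π w₀ ^ (x 1).val * π w₁ ^ (y 0).val = π w₁ ^ (y 0).val * π w₀ ^ (x 1).val :=
      (Commute.pow_pow hcomm _ _).eq
    show _ = π w₁ ^ (x 0).val * π w₀ ^ (x 1).val * (π w₁ ^ (y 0).val * π w₀ ^ (y 1).val)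
    rw [mul_assoc (π w₁ ^ (x 0).val), ← mul_assoc (π w₀ ^ (x 1).val), h1, mul_assoc, ← pow_add,
      ← mul_assoc, ← pow_add, ι_nat]
    congr 1
    funext i; fin_cases i <;> simp
  have ι_zero : ι 0 = 1 := by show π w₁ ^ _ * π w₀ ^ _ = 1; simp
  have hact : ∀ (u : Γ) (f : (Fin 2 → ZMod p) → (Fin 2 → ZMod p)) (a b : Fin 2 → ZMod p),
      u * π w₁ * u⁻¹ = ι a → u * π w₀ * u⁻¹ = ι b →
      (∀ x, f x = ((x 0).val : ℕ) • a + ((x 1).val : ℕ) • b) →
      ∀ x, u * ι x * u⁻¹ = ι (f x) := by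
    intro u f a b ha hb hf x
    have hn : ∀ (n : ℕ) (z : Fin 2 → ZMod p), ι (n • z) = ι z ^ n := fun n z => by
      induction n with
      | zero => rw [zero_smul, ι_zero, pow_zero]
      | succ n ih => rw [succ_nsmul, ι_add, ih, pow_succ]
    rw [hf, ι_add, hn, hn, ← ha, ← hb, conj_pow, conj_pow]
    show u * (π w₁ ^ (x 0).val * π w₀ ^ (x 1).val) * u⁻¹ = _
    group
  have ι_inj : ∀ x, ι x = 1 → x = 0 := by
    intro x hx
    have hord : orderOf (π w₁) = p := orderOf_eq_prime hp1 hne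
    have h1 : π e * ι x * (π e)⁻¹ = ι ![x 0 + x 1, x 1] := by
      refine hact (π e) (fun x => ![x 0 + x 1, x 1]) ![1, 0] ![1, 1] ?_ ?_ (fun x => ?_) x
      · rw [he1, show ![(1 : ZMod p), 0] = ![((1 : ℕ) : ZMod p), ((0 : ℕ) : ZMod p)] by simp, ← ι_nat]
        simp
      · rw [he0, hcomm, show ![(1 : ZMod p), 1] = ![((1 : ℕ) : ZMod p), ((1 : ℕ) : ZMod p)] by simp, ← ι_nat]
        simp
      · funext i; fin_cases i <;> simp
    rw [hx, mul_one, mul_inv_cancel] at h1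
    have h2 : ι ![x 0 + x 1, x 1] = ι x * π w₁ ^ (x 1).val := by
      conv_rhs => rw [show π w₁ ^ (x 1).val = ι ![x 1, 0] by
        show _ = π w₁ ^ _ * π w₀ ^ _; simp]
      rw [← ι_add]
      congr 1
      funext i; fin_cases i <;> simp
    rw [hx, one_mul, ← h1] at h2
    have hx1 : x 1 = 0 := by
      have h3 := orderOf_dvd_of_pow_eq_one h2.symm
      rw [hord] at h3
      exact (ZMod.val_eq_zero _).1 (Nat.eq_zero_of_dvd_of_lt h3 (ZMod.val_lt _))
    have hx0 : x 0 = 0 := by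
      have h4 : π w₁ ^ (x 0).val * π w₀ ^ (x 1).val = 1 := hx
      rw [hx1, ZMod.val_zero, pow_zero, mul_one] at h4
      have h3 := orderOf_dvd_of_pow_eq_one h4
      rw [hord] at h3
      exact (ZMod.val_eq_zero _).1 (Nat.eq_zero_of_dvd_of_lt h3 (ZMod.val_lt _))
    funext i; fin_cases i
    · exact hx0
    · exact hx1
  have ι_inj' : ∀ x y, ι x = ι y → x = y := fun x y h => by
    have h1 : ι (x + -y) = 1 := by
      rw [ι_add, h, ← ι_add, add_neg_cancel, ι_zero]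
    exact eq_of_sub_eq_zero (by rw [sub_eq_add_neg]; exact ι_inj _ h1)
  -- the torus powers
  set m := (p - 1) / 2 with hm
  set η := h ^ m with hη
  have hdiag : ∀ x, π h * ι x * (π h)⁻¹ =
      ι ![(lam : ZMod p) * x 0, ((lam⁻¹ : (ZMod p)ˣ) : ZMod p) * x 1] := by
    refine hact (π h) (fun x => ![(lam : ZMod p) * x 0, ((lam⁻¹ : (ZMod p)ˣ) : ZMod p) * x 1])
      ![(lam : ZMod p), 0] ![0, ((lam⁻¹ : (ZMod p)ˣ) : ZMod p)] ?_ ?_ fun x => ?_
    · rw [hh1]; show _ = π w₁ ^ _ * π w₀ ^ _; simp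
    · rw [hh0]; show _ = π w₁ ^ _ * π w₀ ^ _; simp
    · funext i; fin_cases i <;> simp [mul_comm]
  have hlamm : lam ^ m = -1 := by
    have hp' := hp.out
    have hodd : p % 2 = 1 := hp'.eq_two_or_odd.resolve_left hp2
    have h2m : 2 * m = p - 1 := by omega
    have hsq : (((lam ^ m : (ZMod p)ˣ)) : ZMod p) * ((lam ^ m : (ZMod p)ˣ) : ZMod p) = 1 := by
      rw [← Units.val_mul, ← pow_add, ← two_mul, h2m, ← hlam, pow_orderOf_eq_one, Units.val_one]
    rcases mul_self_eq_one_iff.1 hsq with h1 | h1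
    · exfalso
      have h3 := orderOf_dvd_of_pow_eq_one (Units.ext h1 : lam ^ m = 1)
      rw [hlam] at h3
      have h4 := hp'.two_le
      have := Nat.le_of_dvd (by omega) h3
      omega
    · exact Units.ext (by rw [h1]; simp)
  have hpow : ∀ (n : ℕ) x, π h ^ n * ι x * (π h ^ n)⁻¹ =
      ι ![((lam ^ n : (ZMod p)ˣ) : ZMod p) * x 0, (((lam ^ n)⁻¹ : (ZMod p)ˣ) : ZMod p) * x 1] := by
    intro n
    induction n with
    | zero =>
      intro x
      rw [pow_zero, one_mul, inv_one, mul_one]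
      congr 1
      funext i; fin_cases i <;> simp
    | succ n ih =>
      intro x
      rw [pow_succ', show π h * π h ^ n * ι x * (π h * π h ^ n)⁻¹ =
        π h * (π h ^ n * ι x * (π h ^ n)⁻¹) * (π h)⁻¹ by group, ih, hdiag]
      congr 1
      funext i; fin_cases i <;> simp [pow_succ] <;> ring
  have hneg : ∀ x, π η * ι x * (π η)⁻¹ = (ι x)⁻¹ := by
    intro x
    rw [hη, map_pow, hpow, hlamm]
    apply eq_inv_of_mul_eq_one_left
    rw [← ι_add, ← ι_zero]
    congr 1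
    funext i; fin_cases i <;> simp [inv_neg]
  -- the graph
  let RelM : Submonoid (↥H × Matrix.SpecialLinearGroup (Fin 3) (ZMod p)) :=
    { carrier := {kM | ∃ a b c d, kM.2 = aff a b c d ∧
        (∀ x, π kM.1 * ι x * (π kM.1)⁻¹ =
          ι ![(a : ZMod p) * x 0 + b * x 1, ((a⁻¹ : (ZMod p)ˣ) : ZMod p) * x 1]) ∧
        π kM.1 * π η * (π kM.1)⁻¹ * (π η)⁻¹ = ι ![2 * c, 2 * d]}
      one_mem' := ⟨1, 0, 0, 0, aff_one.symm, fun x => by
          rw [Prod.fst_one, Subgroup.coe_one, map_one, one_mul, inv_one, mul_one]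
          congr 1
          funext i; fin_cases i <;> simp, by
          rw [Prod.fst_one, Subgroup.coe_one, map_one, one_mul, inv_one, mul_one, mul_inv_cancel,
            ← ι_zero]
          congr 1
          funext i; fin_cases i <;> simp⟩
      mul_mem' := by
        rintro ⟨k, M⟩ ⟨k', M'⟩ ⟨a, b, c, d, hM, hA, hc⟩ ⟨a', b', c', d', hM', hA', hc'⟩
        dsimp only at hM hM'
        subst hM hM'
        refine ⟨_, _, _, _, aff_mul a a' b b' c c' d d', fun x => ?_, ?_⟩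
        · rw [Prod.fst_mul, Subgroup.coe_mul, map_mul,
            show π k * π k' * ι x * (π k * π k')⁻¹ = π k * (π k' * ι x * (π k')⁻¹) * (π k)⁻¹ by group,
            hA', hA]
          congr 1
          funext i; fin_cases i <;> simp <;> ring
        · rw [Prod.fst_mul, Subgroup.coe_mul, map_mul,
            show π k * π k' * π η * (π k * π k')⁻¹ * (π η)⁻¹ =
              π k * (π k' * π η * (π k')⁻¹ * (π η)⁻¹) * (π k)⁻¹ * (π k * π η * (π k)⁻¹ * (π η)⁻¹) by group,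
            hc', hA, hc, ← ι_add]
          congr 1
          funext i; fin_cases i <;> simp <;> ring }
  let Rel : Subgroup (↥H × Matrix.SpecialLinearGroup (Fin 3) (ZMod p)) :=
    { RelM with
      inv_mem' := fun {x} hx => by
        obtain ⟨n, hn⟩ := mem_powers_iff_mem_zpowers.2 (Subgroup.inv_mem _ (Subgroup.mem_zpowers x))
        exact hn ▸ pow_mem (show x ∈ RelM from hx) n }
  let ψ : ↥Rel →* ↥(Cfsg.fOver (ZMod p)) :=
    ((MonoidHom.snd _ _).comp Rel.subtype).codRestrict _ fun kM => by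
      obtain ⟨a, b, c, d, hM, -, -⟩ := kM.2
      show kM.1.2 ∈ Cfsg.fOver (ZMod p)
      rw [hM]; exact aff_mem a b c d
  refine Cfsg.Agent.LEInvolve.involves_of_hom ((MonoidHom.fst _ _).comp Rel.subtype) ψ ?_ ?_
  · -- generators
    have hgh : ((⟨h, hh⟩, aff lam 0 0 0) : ↥H × Matrix.SpecialLinearGroup (Fin 3) (ZMod p)) ∈ Rel := by
      refine ⟨lam, 0, 0, 0, rfl, fun x => ?_, ?_⟩
      · rw [hdiag]
        congr 1
        funext i; fin_cases i <;> simp
      · have hc : π h * π η = π η * π h := by rw [hη, map_pow]; exact (Commute.self_pow _ _).eq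
        rw [hc, mul_inv_cancel_right, mul_inv_cancel, ← ι_zero]
        congr 1
        funext i; fin_cases i <;> simp
    have hge : ((⟨e, he⟩, aff 1 1 0 0) : ↥H × Matrix.SpecialLinearGroup (Fin 3) (ZMod p)) ∈ Rel := by
      refine ⟨1, 1, 0, 0, rfl, fun x => ?_, ?_⟩
      · refine hact (π e) (fun x => ![((1 : (ZMod p)ˣ) : ZMod p) * x 0 + 1 * x 1,
          (((1 : (ZMod p)ˣ)⁻¹ : (ZMod p)ˣ) : ZMod p) * x 1]) ![1, 0] ![1, 1] ?_ ?_ (fun x => ?_) x
        · rw [he1]; show _ = π w₁ ^ _ * π w₀ ^ _; simp [ZMod.val_one]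
        · rw [he0, hcomm]; show _ = π w₁ ^ _ * π w₀ ^ _; simp [ZMod.val_one]
        · funext i; fin_cases i <;> simp
      · rw [← hηe, mul_inv_cancel_right, mul_inv_cancel, ← ι_zero]
        congr 1
        funext i; fin_cases i <;> simp
    have htr : ∀ (w : G) (hw : w ∈ H) (c d : ZMod p), π w = ι ![c, d] →
        ((⟨w, hw⟩, aff 1 0 c d) : ↥H × Matrix.SpecialLinearGroup (Fin 3) (ZMod p)) ∈ Rel := by
      intro w hw c d hwι
      refine ⟨1, 0, c, d, rfl, fun x => ?_, ?_⟩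
      · rw [hwι]
        have : ι ![c, d] * ι x = ι x * ι ![c, d] := by rw [← ι_add, ← ι_add, add_comm]
        rw [this, mul_inv_cancel_right]
        congr 1
        funext i; fin_cases i <;> simp
      · rw [hwι, show ι ![c, d] * π η * (ι ![c, d])⁻¹ * (π η)⁻¹ =
          ι ![c, d] * (π η * ι ![c, d] * (π η)⁻¹)⁻¹ by group, hneg, inv_inv, ← ι_add]
        congr 1
        funext i; fin_cases i <;> simp <;> ring
    have hg1 := htr w₁ hw₁ 1 0 (by show _ = π w₁ ^ _ * π w₀ ^ _; simp [ZMod.val_one])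
    have hg0 := htr w₀ hw₀ 0 1 (by show _ = π w₁ ^ _ * π w₀ ^ _; simp [ZMod.val_one])
    intro M
    suffices hle : Cfsg.fOver (ZMod p) ≤ Rel.map (MonoidHom.snd _ _) by
      obtain ⟨x, hx, hxM⟩ := hle M.2
      exact ⟨⟨x, hx⟩, Subtype.ext hxM⟩
    rw [Cfsg.fOver, Subgroup.closure_le]
    rintro N ⟨h10, h20, h21, h22⟩
    obtain ⟨a, b, c, d, rfl⟩ := exists_aff h10 h20 h21 h22
    have hgen : a ∈ Subgroup.zpowers lam := by
      have : Subgroup.zpowers lam = ⊤ := Subgroup.eq_top_of_card_eq _ (by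
        rw [Nat.card_zpowers, hlam, Nat.card_eq_fintype_card, ZMod.card_units p])
      rw [this]; trivial
    obtain ⟨n, hn⟩ := mem_powers_iff_mem_zpowers.2 hgen
    have hfin := mul_mem (mul_mem (mul_mem (pow_mem hg0 d.val) (pow_mem hg1 c.val)) (pow_mem hgh n))
      (pow_mem hge (b * ((a⁻¹ : (ZMod p)ˣ) : ZMod p)).val)
    refine ⟨_, hfin, ?_⟩
    simp only [MonoidHom.coe_snd, Prod.snd_mul, Prod.pow_snd]
    simp only at hn; rw [aff_trans_pow, aff_trans_pow, aff_diag_pow, aff_upp_pow, hn, aff_mul, aff_mul, aff_mul]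
    congr 1 <;> simp
    rw [mul_comm b, ← mul_assoc, mul_inv_cancel₀ a.ne_zero, one_mul]
  · rintro ⟨⟨k, M⟩, hkM⟩ hk
    obtain ⟨a, b, c, d, hM, hA, hc⟩ := hkM
    have hk1 : k = 1 := hk
    dsimp only at hM hA hc
    subst hk1
    refine Subtype.ext ?_
    show M = 1
    rw [Subgroup.coe_one, map_one] at hc hA
    simp only [one_mul, inv_one, mul_one, mul_inv_cancel] at hc hA
    have h0 := ι_inj' _ _ (hA ![1, 0])
    have h1 := ι_inj' _ _ (hA ![0, 1])
    have h2 := ι_inj _ hc.symm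
    have ea := congrFun h0 0
    have eb := congrFun h1 0
    have ec := congrFun h2 0
    have ed := congrFun h2 1
    simp only [Matrix.cons_val_zero, Matrix.cons_val_one, mul_one, mul_zero, add_zero, zero_add,
      Pi.zero_apply] at ea eb ec ed
    have h2ne : (2 : ZMod p) ≠ 0 := fun hz => hp2
      ((Nat.prime_dvd_prime_iff_eq hp.out Nat.prime_two).1
        ((ZMod.natCast_eq_zero_iff 2 p).1 (by exact_mod_cast hz)))
    rw [hM, show a = 1 from Units.ext ea.symm, ← eb, (mul_eq_zero.1 ec).resolve_left h2ne,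
      (mul_eq_zero.1 ed).resolve_left h2ne, aff_one]

end Cfsg.Agent.FusionFp
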